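import Mathlib

/-!
# The weight operator of an element of order `p`
-/

set_option autoImplicit false

namespace Cfsg.Lib.PermGroups.UniqueDegree

open Polynomial

variable {p : ℕ} [Fact p.Prime]

/-- `∑ c⁻¹ (1 + X) ^ c` over the nonzero residues. -/
noncomputable def logPoly (p : ℕ) [Fact p.Prime] : (ZMod p)[X] :=
  ∑ c : (ZMod p)ˣ, C ((c⁻¹ : (ZMod p)ˣ) : ZMod p) * (1 + X) ^ (c : ZMod p).val

theorem logPoly_coeff_zero (hp : 2 < p) : (logPoly p).coeff 0 = 0 := by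
  rw [logPoly, finsetSum_coeff]
  have h : ∀ c : (ZMod p)ˣ, (C ((c⁻¹ : (ZMod p)ˣ) : ZMod p) * (1 + X) ^ (c : ZMod p).val).coeff 0 =
      ((c⁻¹ : (ZMod p)ˣ) : ZMod p) := fun c => by
    rw [coeff_C_mul, coeff_one_add_X_pow, Nat.choose_zero_right, Nat.cast_one, mul_one]
  rw [Finset.sum_congr rfl fun c _ => h c]
  refine (Fintype.sum_equiv (Equiv.inv _) _ (fun c : (ZMod p)ˣ => (c : ZMod p)) fun c => rfl).trans ?_
  have h2 := FiniteField.sum_pow_units (K := ZMod p) 1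
  rw [if_neg (by rw [ZMod.card, Nat.dvd_one]; omega)] at h2
  simpa using h2

theorem logPoly_coeff_one : (logPoly p).coeff 1 = -1 := by
  rw [logPoly, finsetSum_coeff]
  have h : ∀ c : (ZMod p)ˣ, (C ((c⁻¹ : (ZMod p)ˣ) : ZMod p) * (1 + X) ^ (c : ZMod p).val).coeff 1 = 1 :=
    fun c => by
    rw [coeff_C_mul, coeff_one_add_X_pow, Nat.choose_one_right, ZMod.natCast_zmod_val, Units.inv_mul]
  rw [Finset.sum_congr rfl fun c _ => h c, Finset.sum_const, Finset.card_univ,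
    ZMod.card_units_eq_totient, Nat.totient_prime Fact.out, nsmul_one,
    Nat.cast_sub (Fact.out : p.Prime).one_le, ZMod.natCast_self, Nat.cast_one, zero_sub]

theorem logPoly_eq (hp : 2 < p) : ∃ Q : (ZMod p)[X], logPoly p = X * (-1 + X * Q) := by
  obtain ⟨Q, hQ⟩ : X ^ 2 ∣ logPoly p + X := X_pow_dvd_iff.2 fun d hd => by
    interval_cases d
    · simp [logPoly_coeff_zero hp]
    · simp [logPoly_coeff_one]
  exact ⟨Q, by linear_combination hQ⟩

/-- A compositional inverse modulo `X ^ m`. -/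
theorem exists_inverse (hp : 2 < p) (m : ℕ) :
    ∃ R : (ZMod p)[X], R.coeff 0 = 0 ∧ X ^ m ∣ R.comp (logPoly p) - X := by
  obtain ⟨Q, hQ⟩ := logPoly_eq (p := p) hp
  induction m with
  | zero => exact ⟨0, by simp, by simp⟩
  | succ m ih =>
    by_cases hm : m ≤ 1
    · refine ⟨-X, by simp, (pow_dvd_pow X (show m + 1 ≤ 2 by omega)).trans ⟨-Q, ?_⟩⟩
      rw [neg_comp, X_comp, hQ]; ring
    obtain ⟨R, hR0, T, hT⟩ := ih
    refine ⟨R - C (T.coeff 0) * (-X) ^ m, ?_, ?_⟩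
    · rw [coeff_sub, hR0, zero_sub, neg_eq_zero, coeff_C_mul,
        neg_pow (X : (ZMod p)[X]) m, show ((-1 : (ZMod p)[X]) ^ m) = C ((-1 : ZMod p) ^ m) by simp, coeff_C_mul,
        coeff_X_pow, if_neg (by omega), mul_zero, mul_zero]
    · rw [sub_comp, mul_comp, C_comp, pow_comp, neg_comp, X_comp, hQ, sub_right_comm, ← hQ, hT, hQ,
        show (-(X * (-1 + X * Q))) ^ m = X ^ m * (1 - X * Q) ^ m by rw [← mul_pow]; ring_nf,
        show X ^ m * T - C (T.coeff 0) * (X ^ m * (1 - X * Q) ^ m) =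
          X ^ m * (T - C (T.coeff 0) * (1 - X * Q) ^ m) by ring, pow_succ]
      refine mul_dvd_mul_left _ (X_dvd_iff.2 ?_)
      simp [coeff_zero_eq_eval_zero]

/-- `(X - 1) ^ (p - 1) = ∑ X ^ i` in characteristic `p`. -/
theorem sub_one_pow_pred (k : Type*) [Field k] [CharP k p] :
    ((X : k[X]) - 1) ^ (p - 1) = ∑ i ∈ Finset.range p, X ^ i := by
  have : CharP k[X] p := inferInstance
  refine mul_right_cancel₀ (by simpa using X_sub_C_ne_zero (1 : k) : (X : k[X]) - 1 ≠ 0) ?_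
  rw [geom_sum_mul, ← pow_succ, Nat.sub_add_cancel (Fact.out : p.Prime).one_le, sub_pow_char, one_pow]

end Cfsg.Lib.PermGroups.UniqueDegree
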