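import Mathlib
import Cfsg.Agent.PermGroups.UniqueDegree.Poly

/-!
# Weights of modules at the normaliser of a subgroup of order `p`

Two representations without nonzero homomorphisms between them have no maps over the normaliser
other than traces from the subgroup of order `p`. This bounds the fixed vectors of given weight.
-/

set_option autoImplicit false
set_option linter.unusedSectionVars false

namespace Cfsg.Lib.PermGroups.UniqueDegree

open Polynomial

/-- An element `y` of order `p`, and an element `x` acting on it as multiplication by `r`. -/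
structure Loc (G : Type*) [Group G] (p : ℕ) [Fact p.Prime] where
  /-- The element of order `p`. -/
  y : G
  /-- The element acting on it. -/
  x : G
  /-- The multiplier. -/
  r : (ZMod p)ˣ
  p_odd : 2 < p
  order_y : orderOf y = p
  conj_y : x * y * x⁻¹ = y ^ (r : ZMod p).val
  x_pow : x ^ orderOf r = 1
  three_le : 3 ≤ orderOf r
  norm : ∀ g : G, g⁻¹ * y * g ∈ Subgroup.closure {x, y} → g ∈ Subgroup.closure {x, y}

namespace Loc

variable {G : Type*} [Group G] [Finite G] {p : ℕ} [Fact p.Prime] (L : Loc G p)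

/-- The normaliser. -/
def N : Subgroup G := Subgroup.closure {L.x, L.y}

theorem y_mem : L.y ∈ L.N := Subgroup.subset_closure (Set.mem_insert_of_mem _ rfl)

theorem x_mem : L.x ∈ L.N := Subgroup.subset_closure (Set.mem_insert _ _)

theorem y_pow_p : L.y ^ p = 1 :=
  (congrArg (L.y ^ ·) L.order_y).symm.trans (pow_orderOf_eq_one _)

/-- The number of weights per row. -/
noncomputable def t : ℕ := (p - 1) / orderOf L.r

theorem t_mul : L.t * orderOf L.r = p - 1 :=
  Nat.div_mul_cancel (by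
    rw [← Nat.totient_prime (Fact.out : p.Prime), ← ZMod.card_units_eq_totient]
    exact orderOf_dvd_card)

/-! ### Averaging over the cosets of the normaliser -/

section Average

variable {k : Type*} [Field k] {V W : Type*} [AddCommGroup V] [Module k V] [AddCommGroup W] [Module k W]
  (ρ : Representation k G V) (σ : Representation k G W)

/-- Being a map over the normaliser. -/
def IsNMap (h : V →ₗ[k] W) : Prop := ∀ g ∈ L.N, h ∘ₗ ρ g = σ g ∘ₗ h

/-- Without homomorphisms over the group, a map over the normaliser is a trace from `⟨y⟩`. -/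
theorem exists_trace (hhom : ∀ f : V →ₗ[k] W, (∀ g, f ∘ₗ ρ g = σ g ∘ₗ f) → f = 0)
    {h : V →ₗ[k] W} (hh : L.IsNMap ρ σ h) :
    ∃ φ : V →ₗ[k] W, h = ∑ i ∈ Finset.range p, σ (L.y ^ i) ∘ₗ φ ∘ₗ ρ (L.y ^ i)⁻¹ := by
  classical
  have := Fintype.ofFinite G
  have := Fintype.ofFinite (G ⧸ L.N)
  have hF : ∀ g, ∀ n ∈ L.N, σ (g * n) ∘ₗ h ∘ₗ ρ (g * n)⁻¹ = σ g ∘ₗ h ∘ₗ ρ g⁻¹ := fun g n hn => by
    rw [map_mul, mul_inv_rev, map_mul]
    refine LinearMap.ext fun v => ?_
    simp only [Module.End.mul_eq_comp, LinearMap.comp_apply]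
    have h1 := LinearMap.congr_fun (hh n hn) (ρ n⁻¹ (ρ g⁻¹ v))
    simp only [LinearMap.comp_apply] at h1
    rw [← h1, ← Module.End.mul_apply (ρ n) (ρ n⁻¹), ← map_mul, mul_inv_cancel, map_one,
      Module.End.one_apply]
  set Φ : G ⧸ L.N → (V →ₗ[k] W) := fun c => σ c.out ∘ₗ h ∘ₗ ρ c.out⁻¹ with hΦ
  have hΦmk : ∀ g : G, Φ (g : G ⧸ L.N) = σ g ∘ₗ h ∘ₗ ρ g⁻¹ := fun g => by
    obtain ⟨n, hn⟩ := QuotientGroup.mk_out_eq_mul L.N g
    rw [hΦ]
    show σ _ ∘ₗ h ∘ₗ ρ _ = _
    rw [hn]
    exact hF g n n.2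
  have heq : ∀ (g : G) (c : G ⧸ L.N), Φ (g • c) = σ g ∘ₗ Φ c ∘ₗ ρ g⁻¹ := fun g c => by
    induction c using QuotientGroup.induction_on with
    | H a =>
      rw [MulAction.Quotient.smul_coe, smul_eq_mul, hΦmk, hΦmk, map_mul, mul_inv_rev, map_mul]
      rfl
  have hzero : ∑ c, Φ c = 0 := by
    refine hhom _ fun g => ?_
    refine LinearMap.ext fun v => ?_
    simp only [LinearMap.comp_apply, LinearMap.sum_apply, map_sum]
    refine (Fintype.sum_equiv (MulAction.toPerm g) _ _ fun c => ?_).symm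
    rw [MulAction.toPerm_apply, heq]
    simp only [LinearMap.comp_apply]
    rw [← Module.End.mul_apply (ρ g⁻¹) (ρ g), ← map_mul, inv_mul_cancel, map_one, Module.End.one_apply]
  -- a representative in each orbit of `y`
  set o : G ⧸ L.N := ((1 : G) : G ⧸ L.N) with ho
  have hfree : ∀ c, c ≠ o → ∀ i j, i < p → j < p → L.y ^ i • c = L.y ^ j • c → i = j := by
    intro c hc i j hi hj hij
    by_contra hne
    refine hc ?_
    have hQ : L.y ^ i * (L.y ^ j)⁻¹ ∈ MulAction.stabilizer G (L.y ^ j • c) := by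
      rw [MulAction.mem_stabilizer_iff, mul_smul, inv_smul_smul, hij]
    have hy : L.y ∈ MulAction.stabilizer G (L.y ^ j • c) := by
      have hq : L.y ^ i * (L.y ^ j)⁻¹ ≠ 1 := fun h1 => hne (pow_injOn_Iio_orderOf
        (Set.mem_Iio.2 (L.order_y.symm ▸ hi)) (Set.mem_Iio.2 (L.order_y.symm ▸ hj)) (mul_inv_eq_one.1 h1))
      have hle : Subgroup.zpowers (L.y ^ i * (L.y ^ j)⁻¹) = Subgroup.zpowers L.y := by
        refine Subgroup.eq_of_le_of_card_ge (Subgroup.zpowers_le.2 (mul_mem
          (pow_mem (Subgroup.mem_zpowers _) i) (inv_mem (pow_mem (Subgroup.mem_zpowers _) j)))) ?_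
        rw [Nat.card_zpowers, Nat.card_zpowers, L.order_y]
        have hd := orderOf_dvd_of_pow_eq_one (show (L.y ^ i * (L.y ^ j)⁻¹) ^ p = 1 by
          rw [(((Commute.refl L.y).pow_pow i j).inv_right).mul_pow, inv_pow, pow_right_comm,
            L.y_pow_p, one_pow, one_mul, pow_right_comm, L.y_pow_p, one_pow, inv_one])
        rcases (Nat.dvd_prime (Fact.out : p.Prime)).1 hd with h1 | h1
        · exact absurd (orderOf_eq_one_iff.1 h1) hq
        · exact h1.ge
      have := (Subgroup.zpowers_le.2 hQ) (hle.symm ▸ Subgroup.mem_zpowers L.y)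
      exact this
    have hy' : L.y • c = c := by
      rw [MulAction.mem_stabilizer_iff, ← mul_smul, ← pow_succ', pow_succ, mul_smul] at hy
      exact smul_left_cancel _ hy
    induction c using QuotientGroup.induction_on with
    | H a =>
      rw [MulAction.Quotient.smul_coe, smul_eq_mul, eq_comm, QuotientGroup.eq, ← mul_assoc] at hy'
      rw [ho, QuotientGroup.eq, mul_one, inv_mem_iff]
      exact L.norm a hy'
  have hfix : ∀ i : ℕ, L.y ^ i • o = o := fun i => by
    rw [ho, MulAction.Quotient.smul_coe, smul_eq_mul, mul_one, QuotientGroup.eq, mul_one]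
    exact inv_mem (pow_mem L.y_mem i)
  let rep : G ⧸ L.N → G ⧸ L.N := fun c =>
    (Quotient.mk (MulAction.orbitRel (Subgroup.zpowers L.y) (G ⧸ L.N)) c).out
  have hrep : ∀ c, ∃ i < p, rep c = L.y ^ i • c := by
    intro c
    have h0 : MulAction.orbitRel (Subgroup.zpowers L.y) (G ⧸ L.N) (rep c) c :=
      Quotient.exact (Quotient.out_eq _)
    rw [MulAction.orbitRel_apply] at h0
    obtain ⟨⟨g, hg⟩, hgc⟩ := h0
    obtain ⟨i, rfl⟩ := (isOfFinOrder_of_finite L.y).mem_powers_iff_mem_zpowers.2 hg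
    refine ⟨i % p, Nat.mod_lt _ (Fact.out : p.Prime).pos, ?_⟩
    rw [← pow_eq_pow_mod i L.y_pow_p]
    exact hgc.symm
  have hrepy : ∀ (i : ℕ) c, rep (L.y ^ i • c) = rep c := fun i c => by
    show (Quotient.mk _ _).out = (Quotient.mk _ _).out
    rw [Quotient.sound (show MulAction.orbitRel (Subgroup.zpowers L.y) (G ⧸ L.N) (L.y ^ i • c) c from
      MulAction.orbitRel_apply.2 ⟨⟨L.y ^ i, pow_mem (Subgroup.mem_zpowers _) i⟩, rfl⟩)]
  refine ⟨-(∑ c ∈ Finset.univ.filter (fun c => c ≠ o ∧ rep c = c), Φ c), ?_⟩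
  have hsplit : h + ∑ c ∈ Finset.univ.erase o, Φ c = 0 := by
    rw [← hzero, ← Finset.add_sum_erase _ _ (Finset.mem_univ o)]
    congr 1
    rw [ho, hΦmk, map_one, inv_one, map_one]
    exact LinearMap.ext fun v => rfl
  rw [eq_neg_of_add_eq_zero_left hsplit]
  simp only [LinearMap.comp_neg, LinearMap.neg_comp, Finset.sum_neg_distrib]
  rw [neg_inj, Finset.sum_congr (s₂ := Finset.range p) rfl fun i _ => show
    σ (L.y ^ i) ∘ₗ (∑ c ∈ Finset.univ.filter (fun c => c ≠ o ∧ rep c = c), Φ c) ∘ₗ ρ (L.y ^ i)⁻¹ =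
      ∑ c ∈ Finset.univ.filter (fun c => c ≠ o ∧ rep c = c), Φ (L.y ^ i • c) from
      LinearMap.ext fun v => by simp [heq, LinearMap.sum_apply], Finset.sum_sigma']
  refine (Finset.sum_bij (fun ic _ => L.y ^ ic.1 • ic.2) ?_ ?_ ?_ ?_).symm
  · intro ic hic
    simp only [Finset.mem_sigma, Finset.mem_range, Finset.mem_filter, Finset.mem_univ, true_and] at hic
    refine Finset.mem_erase.2 ⟨fun h => hic.2.1 ?_, Finset.mem_univ _⟩
    rw [← smul_left_cancel_iff (L.y ^ ic.1), h, hfix]
  · intro a ha b hb hab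
    simp only [Finset.mem_sigma, Finset.mem_range, Finset.mem_filter, Finset.mem_univ, true_and] at ha hb
    have hc : a.2 = b.2 := by
      have := congrArg rep hab
      rwa [hrepy, hrepy, ha.2.2, hb.2.2] at this
    obtain ⟨i, c⟩ := a
    obtain ⟨j, d⟩ := b
    subst hc
    simp only at hab ha hb
    rw [hfree c ha.2.1 i j ha.1 hb.1 hab]
  · intro d hd
    obtain ⟨j, hj, hjd⟩ := hrep d
    have hdo := Finset.ne_of_mem_erase hd
    refine ⟨⟨(p - j) % p, rep d⟩, ?_, ?_⟩
    · simp only [Finset.mem_sigma, Finset.mem_range, Finset.mem_filter, Finset.mem_univ, true_and]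
      refine ⟨Nat.mod_lt _ (Fact.out : p.Prime).pos, fun h => hdo ?_, by rw [hjd, hrepy]; exact hjd⟩
      rw [← smul_left_cancel_iff (L.y ^ j), ← hjd, h, hfix]
    · show L.y ^ ((p - j) % p) • rep d = d
      rw [← pow_eq_pow_mod _ L.y_pow_p, hjd, ← mul_smul, ← pow_add, Nat.sub_add_cancel hj.le,
        L.y_pow_p, one_smul]
  · intro ic _
    rfl

end Average

/-! ### The weight operator -/

section Operator

variable {k : Type*} [Field k] [CharP k p]

/-- The residues in `k`. -/
def ι (k : Type*) [Field k] [CharP k p] : ZMod p →+* k := ZMod.castHom dvd_rfl k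

variable {V : Type*} [AddCommGroup V] [Module k V] (ρ : Representation k G V)

/-- `ρ y - 1`. -/
def nil : Module.End k V := ρ L.y - 1

/-- The weight operator. -/
noncomputable def U : Module.End k V :=
  ∑ c : (ZMod p)ˣ, ι k ((c⁻¹ : (ZMod p)ˣ) : ZMod p) • ρ (L.y ^ (c : ZMod p).val)

theorem U_eq : L.U ρ = aeval (L.nil ρ) ((logPoly p).map (ι k)) := by
  simp only [U, logPoly, Polynomial.map_sum, map_sum]
  refine Finset.sum_congr rfl fun c _ => ?_
  simp only [Polynomial.map_mul, Polynomial.map_pow, Polynomial.map_add, Polynomial.map_one, map_C,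
    map_X, map_mul, aeval_C, map_pow, map_add, map_one, aeval_X, nil, add_sub_cancel]
  exact Algebra.smul_def _ _

theorem nil_pow_p : L.nil ρ ^ p = 0 := by
  rcases subsingleton_or_nontrivial V with hV | hV
  · exact LinearMap.ext fun v => Subsingleton.elim _ _
  have : CharP (Module.End k V) p :=
    charP_of_injective_algebraMap (algebraMap k (Module.End k V)).injective p
  rw [nil, sub_pow_char_of_commute p (Commute.one_right _), ← map_pow, L.y_pow_p, map_one,
    one_pow, sub_self]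

theorem sum_pow : ∑ i ∈ Finset.range p, ρ (L.y ^ i) = L.nil ρ ^ (p - 1) := by
  have h := congrArg (aeval (ρ L.y)) (sub_one_pow_pred (p := p) k)
  rw [map_pow, map_sub, map_one, aeval_X, map_sum] at h
  rw [nil, h]
  exact Finset.sum_congr rfl fun i _ => by rw [map_pow, map_pow, aeval_X]

theorem exists_U_factor : ∃ B : Module.End k V, L.U ρ = L.nil ρ * B ∧ Commute (L.nil ρ) B := by
  obtain ⟨Q, hQ⟩ := logPoly_eq (p := p) L.p_odd
  refine ⟨aeval (L.nil ρ) ((-1 + X * Q).map (ι k)), ?_, ?_⟩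
  · rw [U_eq, hQ, Polynomial.map_mul, map_mul, map_X, aeval_X]
  · have := (Commute.all (X : k[X]) ((-1 + X * Q).map (ι k))).map (aeval (L.nil ρ))
    rwa [aeval_X] at this

/-- The inverse polynomial. -/
noncomputable def invPoly (k : Type*) [Field k] [CharP k p] : k[X] :=
  (exists_inverse (p := p) L.p_odd p).choose.map (ι k)

theorem invPoly_coeff_zero : (L.invPoly k).coeff 0 = 0 := by
  rw [invPoly, coeff_map, (exists_inverse (p := p) L.p_odd p).choose_spec.1, map_zero]

theorem nil_eq : L.nil ρ = aeval (L.U ρ) (L.invPoly k) := by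
  obtain ⟨T, hT⟩ := (exists_inverse (p := p) L.p_odd p).choose_spec.2
  have h := congrArg (fun q : (ZMod p)[X] => aeval (L.nil ρ) (q.map (ι k))) hT
  simp only [Polynomial.map_sub, Polynomial.map_comp, Polynomial.map_mul, Polynomial.map_pow,
    map_X, map_sub, map_mul, map_pow, aeval_X, aeval_comp, L.nil_pow_p, zero_mul, sub_eq_zero] at h
  rw [U_eq, invPoly, h]

theorem nil_eq_mul : ∃ B : Module.End k V, L.nil ρ = L.U ρ * B ∧ Commute (L.U ρ) B := by
  obtain ⟨R', hR'⟩ : X ∣ L.invPoly k := X_dvd_iff.2 L.invPoly_coeff_zero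
  refine ⟨aeval (L.U ρ) R', ?_, ?_⟩
  · rw [L.nil_eq ρ, hR', map_mul, aeval_X]
  · have := (Commute.all X R').map (aeval (L.U ρ))
    rwa [aeval_X] at this

theorem commute_nil_of_U {W : Type*} [AddCommGroup W] [Module k W] {σ : Representation k G W}
    {h : V →ₗ[k] W} (hh : ∀ v, h (L.U ρ v) = L.U σ (h v)) : ∀ v, h (L.nil ρ v) = L.nil σ (h v) := by
  have hpow : ∀ (j : ℕ) v, h ((L.U ρ ^ j) v) = (L.U σ ^ j) (h v) := fun j => by
    induction j with
    | zero => intro v; simp
    | succ j ih => intro v; rw [pow_succ', Module.End.mul_apply, hh, ih, pow_succ', Module.End.mul_apply]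
  intro v
  rw [L.nil_eq ρ, L.nil_eq σ, aeval_eq_sum_range, aeval_eq_sum_range, LinearMap.sum_apply, LinearMap.sum_apply, map_sum]
  exact Finset.sum_congr rfl fun j _ => by rw [LinearMap.smul_apply, LinearMap.smul_apply, map_smul, hpow]

theorem U_pow_p : L.U ρ ^ p = 0 := by
  obtain ⟨B, hB, hc⟩ := L.exists_U_factor ρ
  rw [hB, hc.mul_pow, L.nil_pow_p, zero_mul]

theorem nil_pow_eq_zero {n : ℕ} (h : L.U ρ ^ n = 0) : L.nil ρ ^ n = 0 := by
  obtain ⟨B, hB, hc⟩ := L.nil_eq_mul ρ
  rw [hB, hc.mul_pow, h, zero_mul]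

theorem y_fix {v : V} (h : L.U ρ v = 0) (i : ℕ) : ρ (L.y ^ i) v = v := by
  have h1 : ρ L.y v = v := by
    obtain ⟨B, hB, hc⟩ := L.nil_eq_mul ρ
    have h2 : L.nil ρ v = 0 := by rw [hB, hc.eq, Module.End.mul_apply, h, map_zero]
    rwa [nil, LinearMap.sub_apply, Module.End.one_apply, sub_eq_zero] at h2
  induction i with
  | zero => rw [pow_zero, map_one, Module.End.one_apply]
  | succ i ih => rw [pow_succ, map_mul, Module.End.mul_apply, h1, ih]

theorem nil_mem_range (v : V) : L.nil ρ v ∈ LinearMap.range (L.U ρ) := by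
  obtain ⟨B, hB, -⟩ := L.nil_eq_mul ρ
  exact ⟨B v, by rw [hB]; rfl⟩

theorem x_U : ρ L.x * L.U ρ = ι k (L.r : ZMod p) • (L.U ρ * ρ L.x) := by
  simp only [U, Finset.mul_sum, Finset.sum_mul, Finset.smul_sum]
  refine Fintype.sum_equiv (Equiv.mulLeft L.r) _ _ fun c => ?_
  have hyr : ∀ n : ℕ, L.x * L.y ^ n = L.y ^ ((L.r : ZMod p).val * n) * L.x := fun n => by
    rw [pow_mul, ← L.conj_y, conj_pow, inv_mul_cancel_right]
  have hval : L.y ^ ((L.r : ZMod p).val * (c : ZMod p).val) = L.y ^ ((L.r * c : (ZMod p)ˣ) : ZMod p).val := by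
    rw [Units.val_mul, ZMod.val_mul]
    exact pow_eq_pow_mod _ L.y_pow_p
  have hcoef : ι k ((c⁻¹ : (ZMod p)ˣ) : ZMod p) =
      ι k (L.r : ZMod p) * ι k (((L.r * c)⁻¹ : (ZMod p)ˣ) : ZMod p) := by
    rw [← map_mul, ← Units.val_mul, mul_inv_rev, mul_comm c⁻¹, mul_inv_cancel_left]
  rw [Equiv.coe_mulLeft, mul_smul_comm, ← map_mul, hyr, hval, smul_mul_assoc, smul_smul, hcoef,
    ← map_mul, map_mul ρ]

theorem x_U_apply (v : V) : ρ L.x (L.U ρ v) = ι k (L.r : ZMod p) • L.U ρ (ρ L.x v) :=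
  LinearMap.congr_fun (L.x_U ρ) v

theorem x_U_pow (j : ℕ) {a : k} {v : V} (hv : ρ L.x v = a • v) :
    ρ L.x ((L.U ρ ^ j) v) = (ι k (L.r : ZMod p) ^ j * a) • (L.U ρ ^ j) v := by
  induction j with
  | zero => simpa using hv
  | succ j ih =>
    rw [pow_succ' (L.U ρ), Module.End.mul_apply, x_U_apply, ih, map_smul, smul_smul, pow_succ',
      mul_assoc]

theorem x_U_pow_comm (j : ℕ) (v : V) :
    ρ L.x ((L.U ρ ^ j) v) = ι k (L.r : ZMod p) ^ j • (L.U ρ ^ j) (ρ L.x v) := by
  induction j with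
  | zero => simp
  | succ j ih =>
    rw [pow_succ' (L.U ρ), Module.End.mul_apply, x_U_apply, ih, map_smul, smul_smul, ← pow_succ',
      Module.End.mul_apply]

/-- A map commuting with the weight operator and with `x` is a map over the normaliser. -/
theorem isNMap_of {W : Type*} [AddCommGroup W] [Module k W] {σ : Representation k G W}
    {h : V →ₗ[k] W} (hU : ∀ v, h (L.U ρ v) = L.U σ (h v)) (hx : ∀ v, h (ρ L.x v) = σ L.x (h v)) :
    L.IsNMap ρ σ h := by
  have hy : ∀ v, h (ρ L.y v) = σ L.y (h v) := fun v => by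
    have := L.commute_nil_of_U ρ hU v
    simpa [nil] using this
  intro g hg
  have hg' : g ∈ Submonoid.closure ({L.x, L.y} : Set G) := by
    rw [← Subgroup.closure_toSubmonoid_of_finite]; exact hg
  induction hg' using Submonoid.closure_induction with
  | mem g hg' =>
    rcases hg' with rfl | rfl
    · exact LinearMap.ext hx
    · exact LinearMap.ext hy
  | one => rw [map_one, map_one]; rfl
  | mul a b ha hb iha ihb =>
    have ha' : a ∈ L.N := by
      rw [N, ← Subgroup.mem_toSubmonoid, Subgroup.closure_toSubmonoid_of_finite]; exact ha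
    have hb' : b ∈ L.N := by
      rw [N, ← Subgroup.mem_toSubmonoid, Subgroup.closure_toSubmonoid_of_finite]; exact hb
    rw [map_mul, map_mul, Module.End.mul_eq_comp, Module.End.mul_eq_comp, ← LinearMap.comp_assoc,
      iha ha', LinearMap.comp_assoc, ihb hb', LinearMap.comp_assoc]

/-! ### Weights -/

/-- The weights are roots of unity of this order. -/
theorem ι_r_pow : ι k (L.r : ZMod p) ^ orderOf L.r = 1 := by
  rw [← map_pow, ← Units.val_pow_eq_pow_val, pow_orderOf_eq_one, Units.val_one, map_one]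

theorem ι_r_ne_zero : ι k (L.r : ZMod p) ≠ 0 := by
  intro h
  have := congrArg (· ^ orderOf L.r) h
  simp only [L.ι_r_pow, zero_pow (orderOf_pos L.r).ne'] at this
  exact one_ne_zero this

theorem ι_r_pow_eq_iff (i j : ℕ) :
    ι k (L.r : ZMod p) ^ i = ι k (L.r : ZMod p) ^ j ↔ i ≡ j [MOD orderOf L.r] := by
  rw [← map_pow, ← map_pow, (RingHom.injective _).eq_iff, ← Units.val_pow_eq_pow_val,
    ← Units.val_pow_eq_pow_val, Units.val_inj, pow_eq_pow_iff_modEq]

theorem cast_order_ne_zero : ((orderOf L.r : ℕ) : k) ≠ 0 := by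
  rw [Ne, CharP.cast_eq_zero_iff k p]
  refine fun h => ?_
  have h1 := Nat.le_of_dvd (orderOf_pos _) h
  have h2 : orderOf L.r ≤ p - 1 := by
    rw [← Nat.totient_prime (Fact.out : p.Prime), ← ZMod.card_units_eq_totient]
    exact orderOf_le_card_univ
  have := (Fact.out : p.Prime).pos
  omega

/-- The projection onto a weight space. -/
noncomputable def proj (a : k) : Module.End k V :=
  (orderOf L.r : k)⁻¹ • ∑ i ∈ Finset.range (orderOf L.r), a⁻¹ ^ i • ρ L.x ^ i

theorem x_proj {a : k} (ha : a ^ orderOf L.r = 1) (v : V) : ρ L.x (L.proj ρ a v) = a • L.proj ρ a v := by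
  have ha0 : a ≠ 0 := fun h => by rw [h, zero_pow (orderOf_pos L.r).ne'] at ha; exact zero_ne_one ha
  have h1 : ρ L.x * L.proj ρ a = a • L.proj ρ a := by
    have hz : (a⁻¹ • ρ L.x) ^ orderOf L.r = 1 := by
      rw [_root_.smul_pow, inv_pow, ha, inv_one, ← map_pow, L.x_pow, map_one, one_smul]
    have h2 := mul_geom_sum (a⁻¹ • ρ L.x) (orderOf L.r)
    rw [hz, sub_self, sub_mul, one_mul, sub_eq_zero] at h2
    simp only [_root_.smul_pow, smul_mul_assoc] at h2
    rw [proj, mul_smul_comm, smul_comm a]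
    congr 1
    exact (inv_smul_eq_iff₀ ha0).1 h2
  exact LinearMap.congr_fun h1 v

open scoped Classical in
theorem proj_of_eigen {a b : k} (hb : b ^ orderOf L.r = 1) (ha : a ^ orderOf L.r = 1) {v : V}
    (hv : ρ L.x v = b • v) : L.proj ρ a v = if b = a then v else 0 := by
  have hpow : ∀ i : ℕ, (ρ L.x ^ i) v = b ^ i • v := fun i => by
    induction i with
    | zero => simp
    | succ i ih => rw [pow_succ', Module.End.mul_apply, ih, map_smul, hv, smul_smul, pow_succ]
  simp only [proj, LinearMap.smul_apply, LinearMap.sum_apply, hpow, smul_smul, ← mul_pow]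
  rw [← Finset.sum_smul, smul_smul]
  split_ifs with h
  · have ha0 : a ≠ 0 := fun h => by rw [h, zero_pow (orderOf_pos L.r).ne'] at ha; exact zero_ne_one ha
    rw [h, inv_mul_cancel₀ ha0]
    simp [inv_mul_cancel₀ (L.cast_order_ne_zero (k := k))]
  · have ha0 : a ≠ 0 := fun h => by rw [h, zero_pow (orderOf_pos L.r).ne'] at ha; exact zero_ne_one ha
    rw [geom_sum_eq (fun h1 => h ((inv_mul_eq_one₀ ha0).1 h1).symm), mul_pow, inv_pow, ha, hb,
      inv_one, one_mul, sub_self, zero_div, mul_zero, zero_smul]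

theorem proj_U (a : k) (v : V) :
    L.proj ρ (ι k (L.r : ZMod p) * a) (L.U ρ v) = L.U ρ (L.proj ρ a v) := by
  have hpow : ∀ i : ℕ, (ρ L.x ^ i) (L.U ρ v) = ι k (L.r : ZMod p) ^ i • L.U ρ ((ρ L.x ^ i) v) := fun i => by
    induction i with
    | zero => simp
    | succ i ih =>
      rw [pow_succ', Module.End.mul_apply, ih, map_smul, x_U_apply, smul_smul, ← pow_succ,
        Module.End.mul_apply]
  simp only [proj, LinearMap.smul_apply, LinearMap.sum_apply, map_smul, map_sum, hpow, smul_smul]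
  congr 1
  refine Finset.sum_congr rfl fun i _ => ?_
  rw [mul_inv, mul_pow, mul_right_comm, inv_pow, inv_mul_cancel₀ (pow_ne_zero _ L.ι_r_ne_zero), one_mul]

theorem proj_U_pow (j : ℕ) (a : k) (v : V) :
    L.proj ρ (ι k (L.r : ZMod p) ^ j * a) ((L.U ρ ^ j) v) = (L.U ρ ^ j) (L.proj ρ a v) := by
  induction j generalizing a with
  | zero => simp
  | succ j ih =>
    rw [pow_succ' (L.U ρ), Module.End.mul_apply, pow_succ', mul_assoc, proj_U, ih, Module.End.mul_apply]

end Operator

end Loc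

end Cfsg.Lib.PermGroups.UniqueDegree
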