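import Mathlib
import Cfsg.Agent.Blocks.Eigen
import Cfsg.Agent.Chars.Gallagher
import Cfsg.Agent.Chars.Galois

/-!
# Multiplicities of eigenvalues and determinants in perfect groups
-/

set_option autoImplicit false
set_option linter.unusedSectionVars false
set_option linter.style.haveILetI false
set_option linter.unusedVariables false

namespace Cfsg.Lib.PermGroups.UniqueDegree

open Cfsg.Lib.Chars Cfsg.Lib.Blocks Polynomial
open scoped ComplexConjugate

universe u

variable {G : Type u} [Group G] [Fintype G]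

theorem geom_root {n : ℕ} (hn : n ≠ 0) {z : ℂ} (hz : z ^ n = 1) :
    ∑ j ∈ Finset.range n, z ^ j = if z = 1 then (n : ℂ) else 0 := by
  split_ifs with h
  · simp [h]
  · rw [geom_sum_eq h, hz, sub_self, zero_div]

/-- The multiplicity of the eigenvalue `ω` of `g`. -/
noncomputable def mult (χ : G → ℂ) (g : G) (ω : ℂ) : ℂ :=
  (orderOf g : ℂ)⁻¹ * ∑ j ∈ Finset.range (orderOf g), ω⁻¹ ^ j * χ (g ^ j)

/-- The roots of unity of the order of `g`. -/
noncomputable def rts (g : G) : Finset ℂ := nthRootsFinset (orderOf g) (1 : ℂ)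

theorem mem_rts {g : G} {ω : ℂ} : ω ∈ rts g ↔ ω ^ orderOf g = 1 :=
  mem_nthRootsFinset (orderOf_pos g) _

theorem exists_mult {χ : G → ℂ} (hχ : Cfsg.IsCharacter G χ) (g : G) :
    ∃ d : ℂ → ℕ, (∀ ω ∈ rts g, mult χ g ω = d ω) ∧
      (∀ r : ℕ, χ (g ^ r) = ∑ ω ∈ rts g, (d ω : ℂ) * ω ^ r) ∧
      χ 1 = ∑ ω ∈ rts g, (d ω : ℂ) := by
  classical
  obtain ⟨d, hd⟩ : ∃ d : ℂ → ℕ, ∀ r : ℕ, χ (g ^ r) = ∑ ω ∈ rts g, (d ω : ℂ) * ω ^ r :=
    exists_weights hχ g
  refine ⟨d, fun ω hω => ?_, hd, by simpa using hd 0⟩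
  have hN : orderOf g ≠ 0 := (orderOf_pos g).ne'
  have hω0 : ω ≠ 0 := fun h => by rw [mem_rts, h, zero_pow hN] at hω; exact zero_ne_one hω
  rw [mult, Finset.sum_congr rfl fun j _ => by rw [hd j, Finset.mul_sum], Finset.sum_comm]
  rw [Finset.sum_congr (s₂ := rts g) rfl fun ν hν => show
    ∑ j ∈ Finset.range (orderOf g), ω⁻¹ ^ j * ((d ν : ℂ) * ν ^ j) =
      (d ν : ℂ) * if ν = ω then (orderOf g : ℂ) else 0 by
    have hν' : ν ^ orderOf g = 1 := mem_rts.1 hν
    rw [Finset.sum_congr rfl fun j _ => show ω⁻¹ ^ j * ((d ν : ℂ) * ν ^ j) = (d ν : ℂ) * (ω⁻¹ * ν) ^ j by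
      rw [mul_pow]; ring, ← Finset.mul_sum, geom_root hN (by
        rw [mul_pow, inv_pow, mem_rts.1 hω, hν', inv_one, one_mul])]
    congr 1
    exact if_congr (by rw [inv_mul_eq_one₀ hω0, eq_comm]) rfl rfl]
  simp only [mul_ite, mul_zero, Finset.sum_ite_eq', hω, if_true]
  field_simp

/-- The determinant from the multiplicities. -/
theorem det_eq_prod {m : ℕ} (ρ : Representation ℂ G (Fin m → ℂ)) (g : G) (d : ℂ → ℕ)
    (hd : ∀ r : ℕ, ρ.character (g ^ r) = ∑ ω ∈ rts g, (d ω : ℂ) * ω ^ r) :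
    LinearMap.det (ρ g) = ∏ ω ∈ rts g, ω ^ d ω := by
  classical
  haveI : NeZero (orderOf g) := ⟨(orderOf_pos g).ne'⟩
  let ι := Σ ω : rts g, Fin (d (ω : ℂ))
  let H := Multiplicative (ZMod (orderOf g))
  let f : H →* G :=
    { toFun := fun u => g ^ (Multiplicative.toAdd u).val
      map_one' := by simp
      map_mul' := fun u v => by
        rw [← pow_add, toAdd_mul, ZMod.val_add, pow_mod_orderOf] }
  have hpow : ∀ (ω : rts g) (u v : H), (ω : ℂ) ^ (Multiplicative.toAdd (u * v)).val =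
      (ω : ℂ) ^ (Multiplicative.toAdd u).val * (ω : ℂ) ^ (Multiplicative.toAdd v).val := fun ω u v => by
    rw [← pow_add, toAdd_mul, ZMod.val_add]
    exact (pow_eq_pow_mod _ (mem_rts.1 ω.2)).symm
  let σ : Representation ℂ H (ι → ℂ) :=
    { toFun := fun u => Matrix.toLin' (Matrix.diagonal fun i : ι => ((i.1 : ℂ)) ^ (Multiplicative.toAdd u).val)
      map_one' := by simp [Matrix.toLin'_one, Module.End.one_eq_id]
      map_mul' := fun u v => by
        rw [Module.End.mul_eq_comp, ← Matrix.toLin'_mul, Matrix.diagonal_mul_diagonal]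
        simp only [hpow] }
  let ρ' : Representation ℂ H (Fin m → ℂ) := MonoidHom.comp ρ f
  have hchar : σ.character = ρ'.character := by
    funext u
    show LinearMap.trace ℂ _ (Matrix.toLin' _) = ρ.character (g ^ (Multiplicative.toAdd u).val)
    rw [Matrix.trace_toLin'_eq, Matrix.trace_diagonal, hd, ← Finset.sum_coe_sort (rts g),
      Fintype.sum_sigma]
    exact Finset.sum_congr rfl fun ω _ => by simp [Finset.sum_const]
  have h1 := detChar_character σ (Multiplicative.ofAdd (1 : ZMod (orderOf g)))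
  rw [hchar, detChar_character ρ' _] at h1
  have hg : f (Multiplicative.ofAdd (1 : ZMod (orderOf g))) = g := by
    show g ^ ((1 : ZMod (orderOf g))).val = g
    rcases Nat.lt_or_ge 1 (orderOf g) with h | h
    · haveI : Fact (1 < orderOf g) := ⟨h⟩
      rw [ZMod.val_one, pow_one]
    · have : g = 1 := orderOf_eq_one_iff.1 (by have := orderOf_pos g; omega)
      simp [this]
  rw [show ρ' (Multiplicative.ofAdd (1 : ZMod (orderOf g))) = ρ g from congrArg ρ hg] at h1
  rw [h1]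
  rw [show σ (Multiplicative.ofAdd (1 : ZMod (orderOf g))) = Matrix.toLin' (Matrix.diagonal
    fun i : ι => ((i.1 : ℂ)) ^ ((1 : ZMod (orderOf g))).val) from rfl, LinearMap.det_toLin', Matrix.det_diagonal, ← Finset.prod_coe_sort (rts g), Fintype.prod_sigma]
  refine Finset.prod_congr rfl fun ω _ => ?_
  show ∏ _y : Fin (d (ω : ℂ)), (ω : ℂ) ^ ((1 : ZMod (orderOf g))).val = _
  rw [Finset.prod_const, Finset.card_univ, Fintype.card_fin]
  congr 1
  rcases Nat.lt_or_ge 1 (orderOf g) with h | h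
  · haveI : Fact (1 < orderOf g) := ⟨h⟩
    show (ω : ℂ) ^ ((1 : ZMod (orderOf g))).val = _
    rw [ZMod.val_one, pow_one]
  · have h1' : (ω : ℂ) = 1 := by
      have := mem_rts.1 ω.2
      rwa [show orderOf g = 1 by have := orderOf_pos g; omega, pow_one] at this
    simp [h1']

/-- In a perfect group the product of the eigenvalues is one. -/
theorem prod_pow_eq_one (hperf : commutator G = ⊤) {χ : G → ℂ} (hχ : Cfsg.IsCharacter G χ) (g : G)
    {d : ℂ → ℕ} (hd : ∀ r : ℕ, χ (g ^ r) = ∑ ω ∈ rts g, (d ω : ℂ) * ω ^ r) :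
    ∏ ω ∈ rts g, ω ^ d ω = 1 := by
  obtain ⟨m, ρ, rfl⟩ := hχ
  rw [← det_eq_prod ρ g d hd]
  let δ : G →* ℂˣ :=
    (Units.map (LinearMap.det (A := ℂ) (M := Fin m → ℂ))).comp (MonoidHom.toHomUnits ρ)
  have h : g ∈ δ.ker := Abelianization.commutator_subset_ker δ (hperf ▸ Subgroup.mem_top g)
  have h1 := congrArg (fun u : ℂˣ => (u : ℂ)) (MonoidHom.mem_ker.1 h)
  exact h1

/-- The eigenvalue `-1` of a real character of a perfect group has even multiplicity. -/
theorem even_mult_neg_one (hperf : commutator G = ⊤) {χ : G → ℂ} (hχ : Cfsg.IsCharacter G χ) (g : G)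
    (hreal : ∀ j : ℕ, conj (χ (g ^ j)) = χ (g ^ j)) {d : ℂ → ℕ}
    (hd : ∀ ω ∈ rts g, mult χ g ω = d ω)
    (hd' : ∀ r : ℕ, χ (g ^ r) = ∑ ω ∈ rts g, (d ω : ℂ) * ω ^ r) :
    ((-1 : ℂ) ∈ rts g → Even (d (-1))) ∧ (∀ ω ∈ rts g, d ω⁻¹ = d ω) := by
  classical
  have hinv : ∀ ω ∈ rts g, d ω⁻¹ = d ω := fun ω hω => by
    have hω' : ω⁻¹ ∈ rts g := by rw [mem_rts, inv_pow, mem_rts.1 hω, inv_one]
    have h1 : mult χ g ω⁻¹ = conj (mult χ g ω) := by
      simp only [mult, map_mul, map_inv₀, Complex.conj_natCast, map_sum, map_pow, hreal]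
      congr 1
      refine Finset.sum_congr rfl fun j _ => ?_
      rw [← Complex.inv_eq_conj ?_, inv_inv]
      exact Complex.norm_eq_one_of_pow_eq_one (mem_rts.1 hω) (orderOf_pos g).ne'
    rw [hd _ hω, hd _ hω', Complex.conj_natCast] at h1
    exact_mod_cast h1
  refine ⟨fun hneg => ?_, hinv⟩
  have hprod := prod_pow_eq_one hperf hχ g hd'
  rw [← Finset.mul_prod_erase _ _ hneg] at hprod
  have hrest : ∏ ω ∈ (rts g).erase (-1), ω ^ d ω = 1 := by
    refine Finset.prod_involution (fun ω _ => ω⁻¹) ?_ ?_ ?_ ?_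
    · intro ω hω
      have hω' := Finset.mem_of_mem_erase hω
      have h0 : ω ≠ 0 := fun h => by
        rw [mem_rts, h, zero_pow (orderOf_pos g).ne'] at hω'; exact zero_ne_one hω'
      rw [hinv ω hω', inv_pow, mul_inv_cancel₀ (pow_ne_zero _ h0)]
    · intro ω hω hne heq
      apply hne
      have hω' := Finset.mem_of_mem_erase hω
      have h0 : ω ≠ 0 := fun h => by
        rw [mem_rts, h, zero_pow (orderOf_pos g).ne'] at hω'; exact zero_ne_one hω'
      have h2 : ω * ω = 1 := by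
        nth_rewrite 1 [← heq]
        exact inv_mul_cancel₀ h0
      rcases mul_self_eq_one_iff.1 h2 with h | h
      · rw [h, one_pow]
      · exact absurd h (Finset.ne_of_mem_erase hω)
    · intro ω hω
      refine Finset.mem_erase.2 ⟨fun h => Finset.ne_of_mem_erase hω (by
        rw [← inv_inv ω, h, inv_neg, inv_one]), ?_⟩
      rw [mem_rts, inv_pow, mem_rts.1 (Finset.mem_of_mem_erase hω), inv_one]
    · intro ω _; exact inv_inv ω
  rw [hrest, mul_one] at hprod
  exact (neg_one_pow_eq_one_iff_even (R := ℂ) (by norm_num)).1 hprod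

/-- A character with rational values on a cyclic group is constant on its generators. -/
theorem apply_pow_of_rat {χ : G → ℂ} (hχ : Cfsg.IsCharacter G χ) {g : G} {j : ℕ}
    (hj : j.Coprime (orderOf g)) (hrat : ∃ q : ℚ, χ g = q) : χ (g ^ j) = χ g := by
  haveI : NeZero (orderOf g) := ⟨(orderOf_pos g).ne'⟩
  obtain ⟨σ, hσ⟩ := exists_galConj_auto hj
  obtain ⟨q, hq⟩ := hrat
  rw [← hσ.apply_character hχ dvd_rfl, hq, map_ratCast]

end Cfsg.Lib.PermGroups.UniqueDegree
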