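import Mathlib
import Cfsg.Agent.PermGroups.PrimeDegree
import Cfsg.Agent.S0675
import Cfsg.Agent.S1013
import Cfsg.Agent.Blocks.Palfy.Dual
import Cfsg.Agent.PermGroups.UniqueDegree.Roots
import Cfsg.Agent.PermGroups.UniqueDegree.Rep
import Cfsg.Agent.Blocks.Feit3

/-!
# Groups of prime degree with a unique character of that degree and a small TI complement
-/

set_option autoImplicit false
set_option linter.unusedSectionVars false
set_option linter.style.haveILetI false

namespace Cfsg.Lib.PermGroups.UniqueDegree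

open Cfsg.Lib.Chars Cfsg.Lib.Blocks

variable {α : Type*} [Fintype α] [DecidableEq α] {p : ℕ} [Fact p.Prime]

/-- The coordinates of the situation. -/
structure Data (G : Subgroup (Equiv.Perm α)) (p : ℕ) [Fact p.Prime] where
  /-- Coordinates. -/
  e : ZMod p ≃ α
  /-- The translation. -/
  y : G
  /-- The multiplication. -/
  x : G
  /-- The multiplier. -/
  r : (ZMod p)ˣ
  act_y : ∀ i, (y : Equiv.Perm α) (e i) = e (i + 1)
  act_x : ∀ i, (x : Equiv.Perm α) (e i) = e ((r : ZMod p) * i)
  norm : Subgroup.normalizer (Subgroup.zpowers y : Set G) = Subgroup.closure {x, y}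
  two_le : 2 ≤ orderOf x
  ti : ∀ g : G, g ∉ Subgroup.normalizer (Subgroup.zpowers x : Set G) →
    ∀ u ∈ Subgroup.zpowers x, g * u * g⁻¹ ∈ Subgroup.zpowers x → u = 1
  card_ne : Nat.card (Subgroup.normalizer (Subgroup.zpowers x : Set G)) = 2 * orderOf x
  simple : IsSimpleGroup G
  perfect : commutator G = ⊤
  nonsolvable : ¬ Group.IsSolvable G
  uniq : ∃! χ : Cfsg.IrrCharacter G, Cfsg.charDegree (χ : G → ℂ) = p

/-- The degree as a value. -/
theorem charDegree_eq {G : Type*} [Group G] (χ : Cfsg.IrrCharacter G) {n : ℕ} :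
    Cfsg.charDegree (χ : G → ℂ) = n ↔ (χ : G → ℂ) 1 = n := by
  rw [irr_apply_one_eq_deg χ, Nat.cast_inj]
  show Cfsg.charDegree _ = n ↔ deg _ = n
  simp [Cfsg.charDegree, deg]

theorem normal_sylow_of_solvable (hα : Fintype.card α = p) (G : Subgroup (Equiv.Perm α))
    [MulAction.IsPretransitive G α] (hG : Group.IsSolvable G) (P : Sylow p G) (hP : Nat.card P = p) :
    (P : Subgroup G).Normal := by
  classical
  have hp := (Fact.out : p.Prime)
  obtain ⟨a⟩ : Nonempty α := Fintype.card_pos_iff.1 (hα ▸ hp.pos)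
  haveI hex : ∃ n, derivedSeries G n = ⊥ := (Group.isSolvable_def G).1 hG
  have h0 : Nat.find hex ≠ 0 := fun h => by
    have h1 := Nat.find_spec hex
    rw [h, derivedSeries_zero] at h1
    have h2 := Subgroup.card_subgroup_dvd_card (P : Subgroup G)
    have h3 : Nat.card G = 1 := by rw [← Subgroup.card_top, h1, Subgroup.card_bot]
    rw [hP, h3, Nat.dvd_one] at h2
    exact hp.ne_one h2
  obtain ⟨n, hn⟩ := Nat.exists_eq_succ_of_ne_zero h0
  set A := derivedSeries G n with hA
  have hA0 : A ≠ ⊥ := Nat.find_min hex (by omega)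
  have hcomm : ∀ u ∈ A, ∀ v ∈ A, u * v = v * u := by
    intro u hu v hv
    have h1 := Nat.find_spec hex
    rw [hn, derivedSeries_succ, ← hA, Subgroup.commutator_eq_bot_iff_le_centralizer] at h1
    exact (Subgroup.mem_centralizer_iff.1 (h1 hu) v hv).symm
  have hdvd := Cfsg.Agent.S1013.prime_dvd_of_normal hα A hA0
  have htrans : MulAction.IsPretransitive A α := by
    have : MulAction.IsPreprimitive G α := MulAction.IsPreprimitive.of_prime_card (by
      rw [Nat.card_eq_fintype_card, hα]; exact hp)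
    refine MulAction.IsQuasiPreprimitive.isPretransitive_of_normal (G := G) (fun h => hA0 ?_)
    rw [eq_bot_iff]
    intro w hw
    refine Subgroup.mem_bot.2 (eq_of_smul_eq_smul (α := α) fun z => ?_)
    rw [one_smul]
    exact MulAction.mem_fixedPoints.1 (h.symm ▸ Set.mem_univ z : z ∈ MulAction.fixedPoints A α) ⟨w, hw⟩
  have hle : Nat.card A ≤ p := by
    rw [← hα, ← Nat.card_eq_fintype_card]
    refine Nat.card_le_card_of_injective (fun u : A => u • a) fun u v huv => Subtype.ext ?_
    refine eq_of_smul_eq_smul (α := α) fun z => ?_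
    obtain ⟨w, rfl⟩ := MulAction.exists_smul_eq A a z
    have huv' : (u : G) • a = (v : G) • a := huv
    show (u : G) • (w : G) • a = (v : G) • (w : G) • a
    rw [← mul_smul, ← mul_smul, hcomm _ u.2 _ w.2, hcomm _ v.2 _ w.2, mul_smul, mul_smul, huv']
  have hAcard : Nat.card A = p := le_antisymm hle (Nat.le_of_dvd Nat.card_pos hdvd)
  obtain ⟨Q, hQ⟩ := (IsPGroup.of_card (p := p) (n := 1) (G := A) (by rw [hAcard, pow_one])).exists_le_sylow
  have hQe : A = (Q : Subgroup G) := Subgroup.eq_of_le_of_card_ge hQ (by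
    rw [hAcard, Q.card_eq_multiplicity, ← P.card_eq_multiplicity, hP])
  have hQn : (Q : Subgroup G).Normal := hQe ▸ (inferInstance : (derivedSeries G n).Normal)
  have := Sylow.unique_of_normal Q hQn
  rwa [Subsingleton.elim P Q]

/-- The coordinates exist, with `P` and `E` the given subgroups. -/
theorem exists_data (hα : Fintype.card α = p) (G : Subgroup (Equiv.Perm α)) [MulAction.IsPretransitive G α]
    (huniq : ∃! χ : Cfsg.IrrCharacter G, Cfsg.charDegree (χ : G → ℂ) = p) (P : Sylow p G)
    (E : Subgroup G) (hPE : (P : Subgroup G) ⊔ E = Subgroup.normalizer ((P : Subgroup G) : Set G))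
    (hPE' : (P : Subgroup G) ⊓ E = ⊥)
    (hNE : Nat.card (Subgroup.normalizer (E : Set G)) = 2 * Nat.card E)
    (hTI : ∀ g : G, g ∉ Subgroup.normalizer (E : Set G) → E ⊓ E.map (MulAut.conj g).toMonoidHom = ⊥) :
    Nonempty (Data G p) := by
  classical
  have hp := (Fact.out : p.Prime)
  haveI := Fintype.ofFinite G
  obtain ⟨e₀, τ, hτ, hτe⟩ := Cfsg.Lib.PermGroups.PrimeDegree.exists_coord hα G
  obtain ⟨P₀, hP₀⟩ := Cfsg.Lib.PermGroups.PrimeDegree.sylow_coord hα G hτ hτe
  obtain ⟨g, hg⟩ := MulAction.exists_smul_eq G P₀ P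
  set y : G := g * ⟨τ, hτ⟩ * g⁻¹ with hy
  let e₁ : ZMod p ≃ α := e₀.trans (g : Equiv.Perm α)
  have hye₁ : ∀ i, (y : Equiv.Perm α) (e₁ i) = e₁ (i + 1) := fun i => by
    show ((g : Equiv.Perm α) * τ * (g : Equiv.Perm α)⁻¹) ((g : Equiv.Perm α) (e₀ i)) = _
    simp [hτe, e₁, Equiv.Perm.mul_apply]
  have hPy : (P : Subgroup G) = Subgroup.zpowers y := by
    rw [← hg, Sylow.coe_subgroup_smul, hP₀, hy]
    show ((Subgroup.zpowers (⟨τ, hτ⟩ : G))).map (MulAut.conj g).toMonoidHom = _
    rw [MonoidHom.map_zpowers]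
    rfl
  have hoy : orderOf y = p := by
    rw [← Subgroup.orderOf_coe]; exact Cfsg.Lib.PermGroups.PrimeDegree.orderOf_coord hye₁
  have hPcard : Nat.card P = p := by rw [show Nat.card P = Nat.card (P : Subgroup G) from rfl, hPy,
    Nat.card_zpowers, hoy]
  obtain ⟨χ₀, hχ₀, hχu⟩ := huniq
  have hnsol : ¬ Group.IsSolvable G := fun hs => by
    have hn := normal_sylow_of_solvable hα G hs P hPcard
    have hcomm : ∀ a ∈ (P : Subgroup G), ∀ b ∈ (P : Subgroup G), a * b = b * a := by
      rw [hPy]
      intro a ha b hb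
      obtain ⟨i, rfl⟩ := ha
      obtain ⟨j, rfl⟩ := hb
      exact zpow_mul_comm y i j
    have hdd := Cfsg.Lib.Palfy.deg_dvd_index χ₀ (P : Subgroup G) hcomm
    have hd0 : deg (χ₀ : G → ℂ) = p := by
      apply Nat.cast_injective (R := ℂ)
      rw [← irr_apply_one_eq_deg χ₀]
      exact (charDegree_eq χ₀).1 hχ₀
    rw [hd0] at hdd
    exact P.not_dvd_index hdd
  -- the elements of `N(P)` are affine
  have haff : ∀ u : G, u ∈ Subgroup.normalizer ((P : Subgroup G) : Set G) →
      ∃ c k : ZMod p, ∀ i, e₁.symm ((u : Equiv.Perm α) (e₁ i)) = c + k * i := fun u hu => by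
    refine Cfsg.Lib.PermGroups.PrimeDegree.affine_of_conj hye₁ ?_
    have h1 := (Subgroup.mem_normalizer_iff.1 hu y).1 (hPy.symm ▸ Subgroup.mem_zpowers y)
    rw [hPy] at h1
    obtain ⟨n, hn⟩ := Subgroup.mem_zpowers_iff.1 h1
    exact Subgroup.mem_zpowers_iff.2 ⟨n, congrArg Subtype.val hn⟩
  have hEN : E ≤ Subgroup.normalizer ((P : Subgroup G) : Set G) := hPE ▸ le_sup_right
  choose c k hck using fun u : E => haff u (hEN u.2)
  have hck' : ∀ (u : E) (i : ZMod p), ((u : G) : Equiv.Perm α) (e₁ i) = e₁ (c u + k u * i) := fun u i => by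
    rw [← hck, Equiv.apply_symm_apply]
  have hmul : ∀ u v : E, k (u * v) = k u * k v := fun u v => by
    have h : ∀ i, c (u * v) + k (u * v) * i = c u + k u * (c v + k v * i) := fun i => by
      apply e₁.injective
      rw [← hck', ← hck', ← hck']
      rfl
    have h0 := h 0
    have h1 := h 1
    linear_combination h1 - h0
  have hone : ∀ u : E, k u = 1 → u = 1 := fun u hu => by
    have hmem : (u : G) ∈ (P : Subgroup G) := by
      rw [hPy, show (u : G) = y ^ (c u).val from Subtype.ext (Equiv.ext fun z => ?_)]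
      · exact pow_mem (Subgroup.mem_zpowers y) _
      · obtain ⟨i, rfl⟩ := e₁.surjective z
        rw [hck', hu, SubmonoidClass.coe_pow, Cfsg.Lib.PermGroups.PrimeDegree.pow_apply_coord hye₁,
          ZMod.natCast_zmod_val, one_mul, add_comm]
    have : (u : G) ∈ (P : Subgroup G) ⊓ E := ⟨hmem, u.2⟩
    rw [hPE', Subgroup.mem_bot] at this
    exact Subtype.ext this
  have hk1 : k 1 = 1 := by
    have h0 := hck 1 0
    have h1 := hck 1 1
    simp at h0 h1
    rw [← h0] at h1
    simpa using h1.symm
  let κ : E →* ZMod p := { toFun := k, map_one' := hk1, map_mul' := hmul }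
  have hκinj : Function.Injective κ.toHomUnits := by
    rw [injective_iff_map_eq_one]
    exact fun u hu => hone u (congrArg Units.val hu)
  haveI : IsCyclic E := isCyclic_of_injective κ.toHomUnits hκinj
  obtain ⟨x₀, hx₀⟩ := IsCyclic.exists_zpow_surjective (G := E)
  set x : G := (x₀ : G) with hx
  have hEx : E = Subgroup.zpowers x := by
    refine le_antisymm (fun u hu => ?_) (Subgroup.zpowers_le.2 x₀.2)
    obtain ⟨n, hn⟩ := hx₀ ⟨u, hu⟩
    exact Subgroup.mem_zpowers_iff.2 ⟨n, congrArg Subtype.val hn⟩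
  have hox : Nat.card E = orderOf x := by rw [hEx, Nat.card_zpowers]
  have hE2 : 2 ≤ orderOf x := by
    by_contra h
    have hE1 : E = ⊥ := Subgroup.eq_bot_of_card_eq _ (by have := orderOf_pos x; omega)
    rw [hE1, sup_bot_eq] at hPE
    have hC : Subgroup.normalizer ((P : Subgroup G) : Set G) ≤ Subgroup.centralizer ((P : Subgroup G) : Set G) := by
      rw [← hPE, hPy]
      intro a ha
      refine Subgroup.mem_centralizer_iff.2 fun b hb => ?_
      obtain ⟨i, rfl⟩ := ha
      obtain ⟨j, rfl⟩ := hb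
      exact zpow_mul_comm y j i
    have hcomp := MonoidHom.ker_transferSylow_isComplement' P hC
    have hnd := MonoidHom.not_dvd_card_ker_transferSylow P hC
    have hb : (MonoidHom.transferSylow P hC).ker = ⊥ := by
      by_contra hb
      exact hnd (Cfsg.Agent.S1013.prime_dvd_of_normal hα _ hb)
    have h1 := hcomp.card_mul_card
    rw [hb, Subgroup.card_bot, one_mul] at h1
    have htop : (P : Subgroup G) = ⊤ := Subgroup.eq_top_of_card_eq _ h1
    refine hnsol (Group.isSolvable_of_comm fun a b => ?_)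
    obtain ⟨i, rfl⟩ : a ∈ Subgroup.zpowers y := hPy ▸ htop ▸ Subgroup.mem_top a
    obtain ⟨j, rfl⟩ : b ∈ Subgroup.zpowers y := hPy ▸ htop ▸ Subgroup.mem_top b
    exact zpow_mul_comm y i j
  have hkx : k x₀ ≠ 1 := fun h => by
    have := hone x₀ h
    rw [hx, this, OneMemClass.coe_one, orderOf_one] at hE2
    omega
  let r : (ZMod p)ˣ := κ.toHomUnits x₀
  set s : ZMod p := c x₀ * (1 - k x₀)⁻¹ with hs
  have hs' : c x₀ + k x₀ * s = s := by
    have h1 : (1 - k x₀) * s = c x₀ := by
      rw [hs, mul_comm, mul_assoc, inv_mul_cancel₀ (sub_ne_zero.2 (Ne.symm hkx)), mul_one]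
    linear_combination -h1
  let e : ZMod p ≃ α := (Equiv.addRight s).trans e₁
  have hactx : ∀ i, (x : Equiv.Perm α) (e i) = e ((r : ZMod p) * i) := fun i => by
    show (x : Equiv.Perm α) (e₁ (i + s)) = e₁ (k x₀ * i + s)
    rw [hx, hck']
    congr 1
    linear_combination hs'
  have hacty : ∀ i, (y : Equiv.Perm α) (e i) = e (i + 1) := fun i => by
    show (y : Equiv.Perm α) (e₁ (i + s)) = e₁ (i + 1 + s)
    rw [hye₁, add_right_comm]
  have hnorm : Subgroup.normalizer (Subgroup.zpowers y : Set G) = Subgroup.closure {x, y} := by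
    rw [← hPy, ← hPE, hEx, hPy, Set.insert_eq, Subgroup.closure_union, Subgroup.zpowers_eq_closure,
      Subgroup.zpowers_eq_closure, sup_comm]
  have hti : ∀ g : G, g ∉ Subgroup.normalizer (Subgroup.zpowers x : Set G) →
      ∀ u ∈ Subgroup.zpowers x, g * u * g⁻¹ ∈ Subgroup.zpowers x → u = 1 := fun g hg u hu hgu => by
    have h := hTI g (hEx ▸ hg)
    have hmem : g * u * g⁻¹ ∈ E ⊓ E.map (MulAut.conj g).toMonoidHom :=
      ⟨hEx.symm ▸ hgu, ⟨u, hEx.symm ▸ hu, rfl⟩⟩
    rw [h, Subgroup.mem_bot, mul_inv_eq_one] at hmem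
    simpa using hmem
  -- perfect
  have hperf : commutator G = ⊤ := by
    by_contra hK
    have hK0 : commutator G ≠ ⊥ := fun h0 => by
      refine hnsol (Group.isSolvable_of_comm fun a b => ?_)
      have := Subgroup.commutator_mem_commutator (Subgroup.mem_top a) (Subgroup.mem_top b)
      rw [← commutator_def, h0] at this
      exact commutatorElement_eq_one_iff_mul_comm.1 (Subgroup.mem_bot.1 this)
    -- every Sylow subgroup lies inside
    have hPK : (P : Subgroup G) ≤ commutator G := by
      have hd := Cfsg.Agent.S1013.prime_dvd_of_normal hα (commutator G) hK0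
      obtain ⟨u, hu⟩ := exists_prime_orderOf_dvd_card' (G := commutator G) p hd
      obtain ⟨Q, hQ⟩ := (IsPGroup.of_card (p := p) (n := 1) (G := Subgroup.zpowers (u : G)) (by
        rw [Nat.card_zpowers, Subgroup.orderOf_coe, hu, pow_one])).exists_le_sylow
      have hQe : Subgroup.zpowers (u : G) = (Q : Subgroup G) := Subgroup.eq_of_le_of_card_ge hQ (by
        rw [Nat.card_zpowers, Subgroup.orderOf_coe, hu, Q.card_eq_multiplicity, ← P.card_eq_multiplicity]
        exact hPcard.le)
      obtain ⟨g', hg'⟩ := MulAction.exists_smul_eq G Q P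
      rw [← hg']
      rintro _ ⟨w, hw, rfl⟩
      exact (inferInstance : (commutator G).Normal).conj_mem w
        ((hQe ▸ Subgroup.zpowers_le.2 u.2 : (Q : Subgroup G) ≤ commutator G) hw) g'
    have hsup : Subgroup.zpowers x ⊔ commutator G = ⊤ := by
      have h := Sylow.normalizer_sup_eq_top (N := commutator G) (P.subtype hPK)
      rw [Sylow.coe_subtype, Subgroup.subgroupOf_map_subtype, inf_of_le_left hPK, ← hPE, hEx] at h
      rw [eq_top_iff, ← h]
      exact sup_le (sup_le (hPK.trans le_sup_right) le_sup_left) le_sup_right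
    obtain ⟨q₀, hq₀⟩ : ∃ w : G, w ∉ commutator G := by
      by_contra! h
      exact hK (eq_top_iff.2 fun w _ => h w)
    have hxK : x ∉ commutator G := fun h => hq₀ ((sup_le (Subgroup.zpowers_le.2 h) le_rfl :
      Subgroup.zpowers x ⊔ commutator G ≤ commutator G) (hsup.symm ▸ Subgroup.mem_top q₀))
    -- a prime power element of `E` outside
    obtain ⟨q, hq, w, hwE, ⟨a, hwa⟩, hwK⟩ : ∃ q : ℕ, q.Prime ∧ ∃ w ∈ Subgroup.zpowers x,
        (∃ a : ℕ, orderOf w = q ^ a) ∧ w ∉ commutator G := by
      by_contra! hcon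
      refine hxK ?_
      set n := orderOf x
      have key : ∀ m : ℕ, m ∣ n → x ^ (n / m) ∈ commutator G := by
        intro m
        induction m using Nat.recOnPrimeCoprime with
        | zero =>
          intro h
          have := zero_dvd_iff.1 h
          have := orderOf_pos x
          omega
        | prime_pow q a hq =>
          intro h
          refine hcon q hq _ (pow_mem (Subgroup.mem_zpowers x) _) ⟨a, ?_⟩
          rw [orderOf_pow_orderOf_div (orderOf_pos x).ne' h]
        | coprime a b _ _ hab iha ihb =>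
          intro h
          have ha : a ∣ n := (dvd_mul_right a b).trans h
          have hb : b ∣ n := (dvd_mul_left b a).trans h
          obtain ⟨d, hd⟩ := h
          have ha0 : 0 < a := Nat.pos_of_ne_zero fun h0 => by
            have := orderOf_pos x; rw [h0] at hd; simp at hd; omega
          have hb0 : 0 < b := Nat.pos_of_ne_zero fun h0 => by
            have := orderOf_pos x; rw [h0] at hd; simp at hd; omega
          have e1 : n / a = b * d := by rw [hd, mul_assoc, Nat.mul_div_cancel_left _ ha0]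
          have e2 : n / b = a * d := by rw [hd, mul_comm a b, mul_assoc, Nat.mul_div_cancel_left _ hb0]
          have e3 : n / (a * b) = d := by rw [hd, Nat.mul_div_cancel_left _ (Nat.mul_pos ha0 hb0)]
          have h1 := iha ha
          have h2 := ihb hb
          rw [e1, mul_comm, pow_mul] at h1
          rw [e2, mul_comm, pow_mul] at h2
          rw [e3]
          have h3 := Nat.gcd_eq_gcd_ab b a
          rw [hab.symm, Nat.cast_one] at h3
          rw [← zpow_one (x ^ d), h3, zpow_add, zpow_mul, zpow_mul, zpow_natCast, zpow_natCast]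
          exact mul_mem (zpow_mem h1 _) (zpow_mem h2 _)
      simpa [n, Nat.div_self (orderOf_pos x)] using key n dvd_rfl
    haveI : Fact q.Prime := ⟨hq⟩
    obtain ⟨f, hf⟩ : ∃ f : G →* ℂˣ, f w ≠ 1 := by
      have hA : Abelianization.of w ≠ 1 := fun h => hwK ((QuotientGroup.eq_one_iff w).1 h)
      obtain ⟨φ, hφ⟩ := CommGroup.exists_apply_ne_one_of_hasEnoughRootsOfUnity (Abelianization G) ℂ hA
      exact ⟨φ.comp Abelianization.of, hφ⟩
    have hirr : Cfsg.IsIrrCharacter G (fun u => (f u : ℂ) * (χ₀ : G → ℂ) u) :=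
      IsIrrCharacter.mul_linear χ₀.2 f
    have heq := hχu ⟨_, hirr⟩ ((charDegree_eq _).2 (by
      show (f 1 : ℂ) * (χ₀ : G → ℂ) 1 = p
      rw [(charDegree_eq χ₀).1 hχ₀, map_one, Units.val_one, one_mul]))
    have hw0 : (χ₀ : G → ℂ) w = 0 := by
      have h1 : (f w : ℂ) * (χ₀ : G → ℂ) w = (χ₀ : G → ℂ) w := congrFun (congrArg Subtype.val heq) w
      have h2 : ((f w : ℂ) - 1) * (χ₀ : G → ℂ) w = 0 := by linear_combination h1
      exact (mul_eq_zero.1 h2).resolve_left fun h => hf (Units.ext (sub_eq_zero.1 h))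
    obtain ⟨M, hM⟩ := exists_isPModular hq
    have hsm := small_apply_mul_sub hM (isCharacter_of_irr χ₀.2) (Commute.one_right w) ⟨a, hwa⟩
      (by rw [orderOf_one]; exact hq.not_dvd_one)
    rw [mul_one, hw0, zero_sub, (charDegree_eq χ₀).1 hχ₀] at hsm
    have hqp : q ∣ p := (small_natCast_iff hM p).1 (by simpa using hsm.neg)
    have hqp' : q = p := (Nat.prime_dvd_prime_iff_eq hq hp).1 hqp
    have hwd : orderOf w ∣ p - 1 := by
      have h1 : orderOf w ∣ orderOf x := orderOf_dvd_of_mem_zpowers hwE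
      refine h1.trans ?_
      rw [← hox, ← Nat.totient_prime hp, ← ZMod.card_units_eq_totient, ← Nat.card_eq_fintype_card]
      exact Subgroup.card_dvd_of_injective κ.toHomUnits hκinj
    rcases Nat.eq_zero_or_pos a with rfl | ha
    · rw [pow_zero, orderOf_eq_one_iff] at hwa
      exact hwK (hwa ▸ one_mem _)
    · have h1 : p ∣ p - 1 := by
        rw [hwa, hqp'] at hwd
        exact (dvd_pow_self p ha.ne').trans hwd
      have := Nat.le_of_dvd (by have := hp.two_le; omega) h1
      have := hp.pos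
      omega
  -- simple
  have hsimple : IsSimpleGroup G := by
    haveI : Nontrivial G := by
      by_contra h
      rw [not_nontrivial_iff_subsingleton] at h
      exact hnsol (Group.isSolvable_of_comm fun a b => Subsingleton.elim _ _)
    refine { eq_bot_or_eq_top_of_normal := fun K hK => or_iff_not_imp_left.2 fun hK0 => ?_ }
    have hd := Cfsg.Agent.S1013.prime_dvd_of_normal hα K hK0
    have hPK : (P : Subgroup G) ≤ K := by
      obtain ⟨u, hu⟩ := exists_prime_orderOf_dvd_card' (G := K) p hd
      obtain ⟨Q, hQ⟩ := (IsPGroup.of_card (p := p) (n := 1) (G := Subgroup.zpowers (u : G)) (by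
        rw [Nat.card_zpowers, Subgroup.orderOf_coe, hu, pow_one])).exists_le_sylow
      have hQe : Subgroup.zpowers (u : G) = (Q : Subgroup G) := Subgroup.eq_of_le_of_card_ge hQ (by
        rw [Nat.card_zpowers, Subgroup.orderOf_coe, hu, Q.card_eq_multiplicity, ← P.card_eq_multiplicity]
        exact hPcard.le)
      obtain ⟨g', hg'⟩ := MulAction.exists_smul_eq G Q P
      rw [← hg']
      rintro _ ⟨w, hw, rfl⟩
      exact hK.conj_mem w ((hQe ▸ Subgroup.zpowers_le.2 u.2 : (Q : Subgroup G) ≤ K) hw) g'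
    have hsup : Subgroup.zpowers x ⊔ K = ⊤ := by
      have h := Sylow.normalizer_sup_eq_top (N := K) (P.subtype hPK)
      rw [Sylow.coe_subtype, Subgroup.subgroupOf_map_subtype, inf_of_le_left hPK, ← hPE, hEx] at h
      rw [eq_top_iff, ← h]
      exact sup_le (sup_le (hPK.trans le_sup_right) le_sup_left) le_sup_right
    have hcomm : commutator G ≤ K := by
      rw [← QuotientGroup.ker_mk' K]
      intro u hu
      rw [MonoidHom.mem_ker]
      have hz : ∀ a : G, QuotientGroup.mk' K a ∈ Subgroup.zpowers (QuotientGroup.mk' K x) := fun a => by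
        have ha : a ∈ Subgroup.zpowers x ⊔ K := hsup.symm ▸ Subgroup.mem_top a
        have hle : Subgroup.zpowers x ⊔ K ≤ (Subgroup.zpowers (QuotientGroup.mk' K x)).comap (QuotientGroup.mk' K) :=
          sup_le (Subgroup.zpowers_le.2 (Subgroup.mem_zpowers _)) fun w hw => by
            rw [Subgroup.mem_comap, show QuotientGroup.mk' K w = 1 from (QuotientGroup.eq_one_iff w).2 hw]
            exact one_mem _
        exact hle ha
      have hle : commutator G ≤ (QuotientGroup.mk' K).ker := by
        rw [commutator_def, Subgroup.commutator_le]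
        intro a _ b _
        rw [MonoidHom.mem_ker, map_commutatorElement, commutatorElement_eq_one_iff_mul_comm]
        obtain ⟨i, hi⟩ := hz a
        obtain ⟨j, hj⟩ := hz b
        rw [← hi, ← hj]
        exact zpow_mul_comm _ i j
      exact MonoidHom.mem_ker.1 (hle hu)
    exact eq_top_iff.2 (hperf ▸ hcomm)
  exact ⟨⟨e, y, x, r, hacty, hactx, hnorm, hE2, hti, by rw [← hEx, hNE, hox], hsimple, hperf, hnsol,
    ⟨χ₀, hχ₀, hχu⟩⟩⟩

end Cfsg.Lib.PermGroups.UniqueDegree
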