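import Mathlib
import Cfsg.Agent.Chars.TI
import Cfsg.Agent.Chars.NormTwo
import Cfsg.Agent.Chars.DefectZero
import Cfsg.Agent.Chars.Perm
import Cfsg.Agent.PermGroups.UniqueDegree.Basic

/-!
# The exceptional character of degree `p + 1`

Induction from the trivial intersection subgroup gives generalized characters of small norm. The
unique character of degree `p` takes the value `1` on the complement, and the exceptional
characters have degree `p + 1`.
-/

set_option autoImplicit false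
set_option linter.unusedSectionVars false
set_option linter.style.haveILetI false

namespace Cfsg.Lib.PermGroups.UniqueDegree

open Cfsg.Lib.Chars Cfsg.Lib.Blocks
open scoped ComplexConjugate Classical

section Generic

variable {H : Type*} [Group H] [Fintype H]

theorem exists_int_norm {f : H → ℂ} (h : Cfsg.IsGeneralizedCharacter H f) {n : ℤ}
    (hn : Cfsg.classInner f f = n) :
    ∃ a : Cfsg.IrrCharacter H → ℤ, (∀ χ : Cfsg.IrrCharacter H, Cfsg.classInner f (χ : H → ℂ) = a χ) ∧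
      ∑ χ, a χ * a χ = n ∧ f = ∑ χ, (a χ : ℂ) • (χ : H → ℂ) := by
  obtain ⟨a, ha⟩ := exists_int_decomp h
  refine ⟨a, fun χ => by rw [ha]; exact classInner_irrSum _ χ, ?_, ha⟩
  rw [ha, classInner_self_decomp] at hn
  apply Int.cast_injective (α := ℂ)
  simpa using hn

theorem sq_add_sq_le {f : H → ℂ} (h : Cfsg.IsGeneralizedCharacter H f) {n : ℤ}
    (hn : Cfsg.classInner f f = n) {χ ψ : Cfsg.IrrCharacter H} (hne : χ ≠ ψ) {c c' : ℤ}
    (hc : Cfsg.classInner f (χ : H → ℂ) = c) (hc' : Cfsg.classInner f (ψ : H → ℂ) = c') :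
    c * c + c' * c' ≤ n := by
  obtain ⟨a, ha, hsum, -⟩ := exists_int_norm h hn
  rw [ha, Int.cast_inj] at hc hc'
  rw [← hsum, ← hc, ← hc', ← Finset.sum_pair (f := fun χ => a χ * a χ) hne]
  exact Finset.sum_le_sum_of_subset_of_nonneg (Finset.subset_univ _) fun _ _ _ => mul_self_nonneg _

/-- A generalized character of norm one. -/
theorem eq_sign_of_norm_one {f : H → ℂ} (h : Cfsg.IsGeneralizedCharacter H f)
    (hn : Cfsg.classInner f f = 1) :
    ∃ χ : Cfsg.IrrCharacter H, f = (χ : H → ℂ) ∨ f = -(χ : H → ℂ) := by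
  obtain ⟨a, -, hsum, hf⟩ := exists_int_norm h (n := 1) (by rw [hn, Int.cast_one])
  obtain ⟨χ, -, hχ⟩ := Finset.exists_ne_zero_of_sum_ne_zero (hsum.symm ▸ (one_ne_zero : (1 : ℤ) ≠ 0))
  have h1 : a χ * a χ = 1 := le_antisymm (hsum ▸ Finset.single_le_sum (f := fun χ => a χ * a χ)
    (fun x _ => mul_self_nonneg _) (Finset.mem_univ χ))
    (lt_of_le_of_ne (mul_self_nonneg _) (Ne.symm hχ))
  have hrest : ∀ ξ, ξ ≠ χ → a ξ = 0 := fun ξ hξ => by
    have h2 := Finset.add_sum_erase Finset.univ (fun χ => a χ * a χ) (Finset.mem_univ χ)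
    rw [hsum, h1] at h2
    have h3 : ∑ x ∈ Finset.univ.erase χ, a x * a x = 0 := by omega
    simpa using (Finset.sum_eq_zero_iff_of_nonneg fun x _ => mul_self_nonneg _).1 h3 ξ (by simp [hξ])
  refine ⟨χ, ?_⟩
  rw [hf, Finset.sum_eq_single χ (fun ξ _ hξ => by rw [hrest ξ hξ, Int.cast_zero, zero_smul]) (by simp)]
  rcases mul_self_eq_one_iff.1 h1 with e | e
  · exact Or.inl (by rw [e, Int.cast_one, one_smul])
  · exact Or.inr (by rw [e, Int.cast_neg, Int.cast_one, neg_one_smul])

end Generic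

namespace Data

variable {α : Type*} [Fintype α] [DecidableEq α] {p : ℕ} [Fact p.Prime]
  {G : Subgroup (Equiv.Perm α)} [Fintype G] (D : Data G p)

theorem x_pow_apply (n : ℕ) (i : ZMod p) :
    ((D.x ^ n : G) : Equiv.Perm α) (D.e i) = D.e ((D.r : ZMod p) ^ n * i) := by
  induction n generalizing i with
  | zero => simp
  | succ n ih =>
    rw [pow_succ, Subgroup.coe_mul, Equiv.Perm.mul_apply, D.act_x, ih, pow_succ, mul_assoc]

theorem orderOf_r : orderOf D.r = orderOf D.x := by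
  refine Nat.dvd_antisymm (orderOf_dvd_of_pow_eq_one ?_) (orderOf_dvd_of_pow_eq_one ?_)
  · have h := D.x_pow_apply (orderOf D.x) 1
    rw [pow_orderOf_eq_one, mul_one, OneMemClass.coe_one, Equiv.Perm.one_apply] at h
    exact Units.ext (by rw [Units.val_pow_eq_pow_val, Units.val_one]; exact (D.e.injective h).symm)
  · refine Subtype.ext (Equiv.ext fun z => ?_)
    obtain ⟨i, rfl⟩ := D.e.surjective z
    rw [D.x_pow_apply, ← Units.val_pow_eq_pow_val, pow_orderOf_eq_one, Units.val_one, one_mul]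
    rfl

theorem order_dvd : orderOf D.x ∣ p - 1 := by
  rw [← D.orderOf_r, ← Nat.totient_prime (Fact.out : p.Prime), ← ZMod.card_units_eq_totient]
  exact orderOf_dvd_card

/-- The order of the complement. -/
noncomputable abbrev ne : ℕ := orderOf D.x

/-- The complement. -/
abbrev E : Subgroup G := Subgroup.zpowers D.x

/-- Conjugate to a nontrivial element of the complement. -/
def InE (g : G) : Prop := ∃ h : G, h⁻¹ * g * h ∈ D.E ∧ g ≠ 1

theorem exists_t : ∃ t : G, t ∈ Subgroup.normalizer (D.E : Set G) ∧ t ∉ D.E := by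
  by_contra! h
  have h1 := Nat.card_le_card_of_injective (Subgroup.inclusion (show Subgroup.normalizer (D.E : Set G) ≤ D.E from h))
    (Subgroup.inclusion_injective _)
  rw [D.card_ne, Nat.card_zpowers] at h1
  have := orderOf_pos D.x
  omega

/-- An element of the normaliser outside the complement. -/
noncomputable def t : G := D.exists_t.choose

theorem t_mem : D.t ∈ Subgroup.normalizer (D.E : Set G) := D.exists_t.choose_spec.1

theorem t_not_mem : D.t ∉ D.E := D.exists_t.choose_spec.2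

theorem E_le : D.E ≤ Subgroup.normalizer (D.E : Set G) := Subgroup.le_normalizer

theorem normalizer_cases {g : G} (hg : g ∈ Subgroup.normalizer (D.E : Set G)) :
    g ∈ D.E ∨ D.t⁻¹ * g ∈ D.E := by
  set N := Subgroup.normalizer (D.E : Set G)
  have h1 : (D.E.subgroupOf N).index = 2 := by
    have h := (D.E.subgroupOf N).card_mul_index
    rw [Nat.card_congr (Subgroup.subgroupOfEquivOfLe D.E_le).toEquiv, Nat.card_zpowers] at h
    refine Nat.eq_of_mul_eq_mul_left (orderOf_pos D.x) ?_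
    rw [h, D.card_ne, mul_comm]
  by_cases hgE : g ∈ D.E
  · exact Or.inl hgE
  · right
    exact (Subgroup.mul_mem_iff_of_index_two h1 (a := ⟨D.t, D.t_mem⟩⁻¹) (b := ⟨g, hg⟩)).2
      (iff_of_false (fun h => D.t_not_mem (by
        simpa [Subgroup.mem_subgroupOf] using inv_mem h)) fun h => hgE h)

theorem t_sq : D.t * D.t ∈ D.E := by
  rcases D.normalizer_cases (mul_mem D.t_mem D.t_mem) with h | h
  · exact h
  · rw [inv_mul_cancel_left] at h; exact absurd h D.t_not_mem

theorem comm_E {u v : G} (hu : u ∈ D.E) (hv : v ∈ D.E) : u * v = v * u := by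
  obtain ⟨i, rfl⟩ := hu
  obtain ⟨j, rfl⟩ := hv
  exact zpow_mul_comm D.x i j

theorem exists_s : ∃ s : ℕ, D.t * D.x * D.t⁻¹ = D.x ^ s := by
  have h := (Subgroup.mem_normalizer_iff.1 D.t_mem D.x).1 (Subgroup.mem_zpowers _)
  obtain ⟨s, hs⟩ := (Submonoid.mem_powers_iff _ _).1 ((isOfFinOrder_of_finite D.x).mem_powers_iff_mem_zpowers.2 h)
  exact ⟨s, hs.symm⟩

/-- The action of `t` on the complement. -/
noncomputable def s : ℕ := D.exists_s.choose

theorem t_conj (j : ℕ) : D.t * D.x ^ j * D.t⁻¹ = D.x ^ (D.s * j) := by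
  rw [← conj_pow, D.exists_s.choose_spec, ← pow_mul]; rfl

theorem s_sq : D.s * D.s ≡ 1 [MOD D.ne] := by
  rw [← pow_eq_pow_iff_modEq, pow_one]
  conv_lhs => rw [← D.t_conj, ← mul_one D.s, ← D.t_conj, pow_one]
  have h := D.comm_E D.t_sq (Subgroup.mem_zpowers D.x)
  calc D.t * (D.t * D.x * D.t⁻¹) * D.t⁻¹ = (D.t * D.t) * D.x * (D.t * D.t)⁻¹ := by group
    _ = D.x := by rw [h, mul_inv_cancel_right]

theorem centralizer_le {u g : G} (hu : u ∈ D.E) (h1 : u ≠ 1) (hc : g * u * g⁻¹ = u) :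
    g ∈ Subgroup.normalizer (D.E : Set G) := by
  by_contra h
  exact h1 (D.ti g h u hu (hc.symm ▸ hu))

/-- `t` does not centralise the complement. -/
theorem s_ne_one (h3 : 3 ≤ D.ne) : ¬ D.s ≡ 1 [MOD D.ne] := by
  intro hs
  have hx : D.t * D.x = D.x * D.t := by
    have h := D.t_conj 1
    rw [pow_one, mul_one, (pow_eq_pow_iff_modEq.2 hs : D.x ^ D.s = D.x ^ 1), pow_one, mul_inv_eq_iff_eq_mul] at h
    exact h
  set N := Subgroup.normalizer (D.E : Set G) with hNdef
  have hxc : ∀ g ∈ N, g * D.x = D.x * g := fun g hg => by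
    rcases D.normalizer_cases hg with h | h
    · exact D.comm_E h (Subgroup.mem_zpowers _)
    · have h2 := D.comm_E h (Subgroup.mem_zpowers D.x)
      calc g * D.x = D.t * ((D.t⁻¹ * g) * D.x) := by group
        _ = (D.t * D.x) * (D.t⁻¹ * g) := by rw [h2]; group
        _ = D.x * g := by rw [hx]; group
  have hcomm : ∀ a ∈ N, ∀ b ∈ N, a * b = b * a := by
    intro a ha b hb
    have hxa : ∀ v ∈ D.E, a * v = v * a := fun v hv => by
      obtain ⟨i, rfl⟩ := hv
      exact ((Commute.zpow_right (show Commute a D.x from hxc a ha)) i).eq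
    have htt : a * D.t = D.t * a := by
      rcases D.normalizer_cases ha with h | h
      · obtain ⟨i, rfl⟩ := h
        exact ((Commute.zpow_right (show Commute D.t D.x from hx)) i).eq.symm
      · obtain ⟨i, hi⟩ := h
        have h2 : Commute D.t (D.x ^ i) := (show Commute D.t D.x from hx).zpow_right i
        have ha' : a = D.t * D.x ^ i := by rw [show D.x ^ i = D.t⁻¹ * a from hi]; group
        rw [ha', mul_assoc, ← h2.eq]
    rcases D.normalizer_cases hb with h | h
    · exact hxa b h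
    · have h2 := hxa _ h
      calc a * b = (a * D.t) * (D.t⁻¹ * b) := by group
        _ = D.t * ((D.t⁻¹ * b) * a) := by rw [htt, mul_assoc, h2]
        _ = b * a := by group
  -- a Sylow subgroup with its normaliser inside `N`
  obtain ⟨q, hq, S, hSne, hSN⟩ : ∃ q : ℕ, ∃ _ : Fact q.Prime, ∃ S : Sylow q G, (S : Subgroup G) ≠ ⊥ ∧
      Subgroup.normalizer ((S : Subgroup G) : Set G) ≤ N := by
    by_cases hodd : ∃ q : ℕ, q.Prime ∧ q ≠ 2 ∧ q ∣ D.ne
    · obtain ⟨q, hq, hq2, hqe⟩ := hodd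
      haveI := Fact.mk hq
      set n := D.ne with hn
      set v := D.x ^ (n / q) with hv
      have hvo : orderOf v = q := orderOf_pow_orderOf_div (orderOf_pos D.x).ne' hqe
      have hvN : v ∈ N := D.E_le (pow_mem (Subgroup.mem_zpowers _) _)
      obtain ⟨Q⟩ : Nonempty (Sylow q N) := inferInstance
      set R : Subgroup G := (Q : Subgroup N).map N.subtype with hR
      have hRN : R ≤ N := Subgroup.map_subtype_le _
      have hRp : IsPGroup q R := Q.isPGroup'.map _
      haveI : (Q : Subgroup N).Normal := ⟨fun a ha b => by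
        rwa [show b * a * b⁻¹ = a from Subtype.ext (by
          show (b : G) * (a : G) * (b : G)⁻¹ = a
          rw [hcomm _ b.2 _ a.2, mul_inv_cancel_right])]⟩
      haveI := Sylow.unique_of_normal Q inferInstance
      have hRmem : ∀ w ∈ N, (∃ k, orderOf w = q ^ k) → w ∈ R := fun w hw ⟨k, hk⟩ => by
        obtain ⟨Q', hQ'⟩ := (IsPGroup.of_card (p := q) (n := k) (G := Subgroup.zpowers (⟨w, hw⟩ : N)) (by
          rw [Nat.card_zpowers, Subgroup.orderOf_mk, hk])).exists_le_sylow
        rw [Subsingleton.elim Q' Q] at hQ'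
        exact ⟨_, hQ' (Subgroup.mem_zpowers _), rfl⟩
      have hvR : v ∈ R := hRmem v hvN ⟨1, by rw [hvo, pow_one]⟩
      have hRE : R ≤ D.E := fun w hw => by
        rcases D.normalizer_cases (hRN hw) with h | h
        · exact h
        exfalso
        obtain ⟨k, hk⟩ := hRp ⟨w, hw⟩
        have hk' : w ^ q ^ k = 1 := by simpa [Subtype.ext_iff] using hk
        have h2 : w ∉ D.E := fun h2 => D.t_not_mem (by
          have := mul_mem h2 (inv_mem h)
          simpa using this)
        have hw2 : w * w ∈ D.E := by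
          rw [show w * w = (D.t * D.t) * ((D.t⁻¹ * w) * (D.t⁻¹ * w)) by
            have hc := hcomm (D.t⁻¹ * w) (mul_mem (inv_mem D.t_mem) (hRN hw)) D.t D.t_mem
            calc w * w = D.t * (D.t⁻¹ * w) * (D.t * (D.t⁻¹ * w)) := by group
              _ = D.t * ((D.t⁻¹ * w) * D.t) * (D.t⁻¹ * w) := by group
              _ = _ := by rw [hc]; group]
          exact mul_mem D.t_sq (mul_mem h h)
        obtain ⟨m, hm⟩ := (hq.odd_of_ne_two hq2).pow (n := k)
        apply h2
        rw [show w = ((w * w) ^ m)⁻¹ by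
          rw [← sq, ← pow_mul, eq_inv_iff_mul_eq_one, ← pow_succ', ← hm, hk']]
        exact inv_mem (pow_mem hw2 m)
      obtain ⟨S, hS⟩ := hRp.exists_le_sylow
      -- the normaliser of `R` stays in `N`
      have hnR : ∀ g : G, (∀ w ∈ R, g * w * g⁻¹ ∈ R) → g ∈ N := fun g hg => by
        by_contra h
        have := D.ti g h v (hRE hvR) (hRE (hg v hvR))
        rw [this, orderOf_one] at hvo
        exact hq.ne_one hvo.symm
      have hSR : (S : Subgroup G) = R := by
        by_contra hne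
        have hlt : R.subgroupOf (S : Subgroup G) < ⊤ := lt_top_iff_ne_top.2 fun h =>
          hne (le_antisymm (Subgroup.subgroupOf_eq_top.1 h) hS)
        haveI : Fact q.Prime := ⟨hq⟩
        haveI := IsPGroup.isNilpotent S.isPGroup'
        obtain ⟨w, hw, hwR⟩ := SetLike.exists_of_lt (Group.normalizerCondition_of_isNilpotent (R.subgroupOf (S : Subgroup G)) hlt)
        refine hwR (hRmem (w : G) (hnR _ fun u hu => ?_) ?_)
        · exact (Subgroup.mem_normalizer_iff.1 hw ⟨u, hS hu⟩).1 hu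
        · obtain ⟨k, hk⟩ := S.isPGroup' w
          obtain ⟨j, -, hj⟩ := (Nat.dvd_prime_pow hq).1 (orderOf_dvd_of_pow_eq_one hk)
          exact ⟨j, by rw [Subgroup.orderOf_coe]; exact hj⟩
      refine ⟨q, ⟨hq⟩, S, fun h => ?_, fun g hg => hnR g fun w hw => ?_⟩
      · rw [← hSR, h, Subgroup.mem_bot] at hvR
        rw [hvR, orderOf_one] at hvo
        exact hq.ne_one hvo.symm
      · rw [← hSR] at hw ⊢
        exact (Subgroup.mem_normalizer_iff.1 hg w).1 hw
    · push Not at hodd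
      obtain ⟨k, hk⟩ : ∃ k, D.ne = 2 ^ k :=
        ⟨_, Nat.eq_prime_pow_of_unique_prime_dvd (orderOf_pos D.x).ne' fun {d} hd hde =>
          by by_contra h; exact hodd d hd h hde⟩
      haveI : Fact (Nat.Prime 2) := ⟨Nat.prime_two⟩
      have hk2 : 2 ≤ k := by
        by_contra h
        have : D.ne ≤ 2 ^ 1 := hk.le.trans (Nat.pow_le_pow_right (by norm_num) (by omega))
        omega
      set z := D.x ^ (2 ^ (k - 1)) with hz
      have hz1 : z ≠ 1 := fun h => by
        have h1 := Nat.le_of_dvd (Nat.two_pow_pos _) (orderOf_dvd_of_pow_eq_one h)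
        rw [show orderOf D.x = 2 ^ k from hk] at h1
        have : 2 ^ (k - 1) < 2 ^ k := Nat.pow_lt_pow_right (by norm_num) (by omega)
        omega
      have hzz : z * z = 1 := by
        rw [hz, ← pow_add, ← two_mul, ← pow_succ', Nat.sub_add_cancel (by omega), ← hk, pow_orderOf_eq_one]
      have hinv : ∀ u ∈ D.E, u * u = 1 → u ≠ 1 → u = z := fun u hu h2 h1 => by
        obtain ⟨i, rfl⟩ := (isOfFinOrder_of_finite D.x).mem_powers_iff_mem_zpowers.2 hu
        have hd : 2 ^ k ∣ i + i := by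
          rw [← hk]
          exact orderOf_dvd_of_pow_eq_one (by rw [pow_add]; exact h2)
        obtain ⟨c, hc⟩ := hd
        have e2 : 2 ^ k = 2 * 2 ^ (k - 1) := by rw [← pow_succ', Nat.sub_add_cancel (by omega)]
        have hi : i = 2 ^ (k - 1) * c := by
          rw [e2, mul_assoc] at hc
          omega
        rcases Nat.even_or_odd c with ⟨d, hd⟩ | ⟨d, hd⟩
        · exfalso
          apply h1
          show D.x ^ i = 1
          rw [hi, hd, mul_add, ← two_mul, ← mul_assoc, ← e2, pow_mul, ← hk, pow_orderOf_eq_one, one_pow]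
        · show D.x ^ i = z
          rw [hi, hd, mul_add, mul_one, ← mul_assoc, pow_add, mul_comm (2 ^ (k - 1)) 2, ← e2, pow_mul,
            ← hk, pow_orderOf_eq_one, one_pow, one_mul]
      have hsq : ∀ w ∈ N, w * w ∈ D.E := fun w hw => by
        rcases D.normalizer_cases hw with h | h
        · exact mul_mem h h
        · have hc := hcomm (D.t⁻¹ * w) (mul_mem (inv_mem D.t_mem) hw) D.t D.t_mem
          rw [show w * w = (D.t * D.t) * ((D.t⁻¹ * w) * (D.t⁻¹ * w)) by
            calc w * w = D.t * (D.t⁻¹ * w) * (D.t * (D.t⁻¹ * w)) := by group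
              _ = D.t * ((D.t⁻¹ * w) * D.t) * (D.t⁻¹ * w) := by group
              _ = _ := by rw [hc]; group]
          exact mul_mem D.t_sq (mul_mem h h)
      have hnN : ∀ g : G, (∀ w ∈ N, g * w * g⁻¹ ∈ N) → g ∈ N := fun g hg => by
        set v := D.x ^ (2 ^ (k - 2))
        have hvv : v * v = z := by
          rw [hz, ← pow_add, ← two_mul, ← pow_succ']
          congr 2
          omega
        have hgv : g * z * g⁻¹ ∈ D.E := by
          rw [← hvv, show g * (v * v) * g⁻¹ = (g * v * g⁻¹) * (g * v * g⁻¹) by group]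
          exact hsq _ (hg v (D.E_le (pow_mem (Subgroup.mem_zpowers _) _)))
        by_contra h
        exact hz1 (D.ti g h z (pow_mem (Subgroup.mem_zpowers _) _) hgv)
      have hNp : IsPGroup 2 N := IsPGroup.of_card (n := k + 1) (by
        rw [hNdef, D.card_ne, show orderOf D.x = 2 ^ k from hk, pow_succ'])
      obtain ⟨S, hS⟩ := hNp.exists_le_sylow
      have hSN : (S : Subgroup G) = N := by
        by_contra hne
        have hlt : N.subgroupOf (S : Subgroup G) < ⊤ := lt_top_iff_ne_top.2 fun h =>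
          hne (le_antisymm (Subgroup.subgroupOf_eq_top.1 h) hS)
        haveI := IsPGroup.isNilpotent S.isPGroup'
        obtain ⟨w, hw, hwR⟩ := SetLike.exists_of_lt (Group.normalizerCondition_of_isNilpotent (N.subgroupOf (S : Subgroup G)) hlt)
        exact hwR (hnN _ fun u hu => (Subgroup.mem_normalizer_iff.1 hw ⟨u, hS hu⟩).1 hu)
      refine ⟨2, inferInstance, S, fun h => hz1 ?_, fun g hg => hnN g fun w hw => ?_⟩
      · have hzN : z ∈ N := D.E_le (pow_mem (Subgroup.mem_zpowers _) _)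
        rwa [← hSN, h, Subgroup.mem_bot] at hzN
      · rw [← hSN] at hw ⊢
        exact (Subgroup.mem_normalizer_iff.1 hg w).1 hw
  haveI := hq
  have hC : Subgroup.normalizer ((S : Subgroup G) : Set G) ≤ Subgroup.centralizer ((S : Subgroup G) : Set G) :=
    fun g hg => Subgroup.mem_centralizer_iff.2 fun w hw =>
      hcomm w (hSN (Subgroup.le_normalizer hw)) g (hSN hg)
  have hcomp := MonoidHom.ker_transferSylow_isComplement' S hC
  haveI := D.simple
  rcases (MonoidHom.transferSylow S hC).normal_ker.eq_bot_or_eq_top with h | h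
  · have h1 := hcomp.card_mul_card
    rw [h, Subgroup.card_bot, one_mul] at h1
    have htop : (S : Subgroup G) = ⊤ := Subgroup.eq_top_of_card_eq _ h1
    exact D.nonsolvable (Group.isSolvable_of_comm fun a b => hcomm a
      (hSN (Subgroup.le_normalizer (htop.symm ▸ Subgroup.mem_top a))) b
      (hSN (Subgroup.le_normalizer (htop.symm ▸ Subgroup.mem_top b))))
  · have h1 := hcomp.disjoint
    rw [h, top_disjoint] at h1
    exact hSne h1

/-- Functions on the complement: the linear character of `x ↦ ω`. -/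
noncomputable def lam (ω : ℂ) (u : D.E) : ℂ := ω ^ ((finEquivZPowers (isOfFinOrder_of_finite D.x)).symm u : ℕ)

theorem lam_pow {ω : ℂ} (hω : ω ∈ rts D.x) (u : D.E) (j : ℕ) (hu : (u : G) = D.x ^ j) : D.lam ω u = ω ^ j := by
  rw [lam, pow_eq_pow_mod j (mem_rts.1 hω)]
  congr 1
  have h := finEquivZPowers_symm_apply (isOfFinOrder_of_finite D.x) j
  rw [show u = ⟨D.x ^ j, ⟨(j : ℤ), zpow_natCast _ _⟩⟩ from Subtype.ext hu, h]

theorem exists_pow_eq (u : D.E) : ∃ j : ℕ, (u : G) = D.x ^ j := by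
  obtain ⟨j, hj⟩ := (isOfFinOrder_of_finite D.x).mem_powers_iff_mem_zpowers.2 u.2
  exact ⟨j, hj.symm⟩

theorem isGeneralized_lam {ω : ℂ} (hω : ω ∈ rts D.x) : Cfsg.IsGeneralizedCharacter D.E (D.lam ω) := by
  have hω0 : ω ≠ 0 := fun h => by
    have := mem_rts.1 hω
    rw [h, zero_pow (orderOf_pos D.x).ne'] at this
    exact zero_ne_one this
  let f : D.E →* ℂ :=
    { toFun := D.lam ω
      map_one' := by rw [D.lam_pow hω 1 0 (by simp), pow_zero]
      map_mul' := fun u v => by
        obtain ⟨i, hi⟩ := D.exists_pow_eq u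
        obtain ⟨j, hj⟩ := D.exists_pow_eq v
        rw [D.lam_pow hω u i hi, D.lam_pow hω v j hj,
          D.lam_pow hω (u * v) (i + j) (by rw [Subgroup.coe_mul, hi, hj, pow_add]), pow_add] }
  have h : (fun u => ((f.toHomUnits u : ℂˣ) : ℂ)) = D.lam ω := funext fun u => rfl
  rw [← h]
  exact IsCharacter.isGeneralized (isCharacter_linear _)

/-- The generalized character attached to two roots. -/
noncomputable def ind (ω ν : ℂ) : G → ℂ := Cfsg.indFun D.E (D.lam ω - D.lam ν)

theorem isGeneralized_ind {ω ν : ℂ} (hω : ω ∈ rts D.x) (hν : ν ∈ rts D.x) :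
    Cfsg.IsGeneralizedCharacter G (D.ind ω ν) :=
  IsGeneralizedCharacter.indFun (IsGeneralizedCharacter.sub (D.isGeneralized_lam hω) (D.isGeneralized_lam hν))

theorem sum_E (F : D.E → ℂ) :
    ∑ u, F u = ∑ j ∈ Finset.range D.ne, F ⟨D.x ^ j, pow_mem (Subgroup.mem_zpowers _) j⟩ := by
  rw [← Fin.sum_univ_eq_sum_range (fun j => F ⟨D.x ^ j, pow_mem (Subgroup.mem_zpowers _) j⟩)]
  exact (Fintype.sum_equiv (finEquivZPowers (isOfFinOrder_of_finite D.x)) _ _ fun j => by
    congr 1).symm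

theorem ind_eq_zero {ω ν : ℂ} {g : G} (hg : ¬ D.InE g) (hω : ω ∈ rts D.x) (hν : ν ∈ rts D.x) :
    D.ind ω ν g = 0 := by
  by_cases h1 : g = 1
  · subst h1
    rw [ind, indFun_one, Pi.sub_apply, D.lam_pow hω 1 0 (by simp), D.lam_pow hν 1 0 (by simp), pow_zero,
      pow_zero, sub_self, mul_zero]
  · exact indFun_eq_zero_of_forall _ _ _ fun h hh => hg ⟨h, hh, h1⟩

theorem ind_pow {ω ν : ℂ} (hω : ω ∈ rts D.x) (hν : ν ∈ rts D.x) (j : ℕ) :
    D.ind ω ν (D.x ^ j) = ω ^ j - ν ^ j + (ω ^ (D.s * j) - ν ^ (D.s * j)) := by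
  by_cases h1 : D.x ^ j = 1
  · rw [D.ind_eq_zero (fun ⟨_, _, h⟩ => h h1) hω hν]
    have hd : ∀ z ∈ rts D.x, z ^ j = 1 := fun z hz => by
      obtain ⟨c, rfl⟩ := orderOf_dvd_of_pow_eq_one h1
      rw [pow_mul, mem_rts.1 hz, one_pow]
    rw [mul_comm D.s, pow_mul, pow_mul, hd ω hω, hd ν hν]
    ring
  have hjE : D.x ^ j ∈ D.E := pow_mem (Subgroup.mem_zpowers _) j
  set f := D.lam ω - D.lam ν with hf
  have hfj : ∀ i : ℕ, f ⟨D.x ^ i, pow_mem (Subgroup.mem_zpowers _) i⟩ = ω ^ i - ν ^ i := fun i => by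
    rw [hf, Pi.sub_apply, D.lam_pow hω _ i rfl, D.lam_pow hν _ i rfl]
  have hval : ∀ h : G, Cfsg.extendByZero D.E f (h⁻¹ * D.x ^ j * h) =
      (if h ∈ D.E then ω ^ j - ν ^ j else 0) + if D.t⁻¹ * h ∈ D.E then ω ^ (D.s * j) - ν ^ (D.s * j) else 0 := by
    intro h
    by_cases hE : h ∈ D.E
    · have e1 : h⁻¹ * D.x ^ j * h = D.x ^ j := by
        rw [mul_assoc, D.comm_E hjE hE, inv_mul_cancel_left]
      have e2 : D.t⁻¹ * h ∉ D.E := fun h2 => D.t_not_mem (by
        simpa using mul_mem hE (inv_mem h2))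
      rw [e1, extendByZero_mem _ hjE, hfj, if_pos hE, if_neg e2, add_zero]
    · rw [if_neg hE, zero_add]
      by_cases hT : D.t⁻¹ * h ∈ D.E
      · set v := D.t⁻¹ * h with hv
        have e0 : D.t⁻¹ * D.x ^ j * D.t = D.t * D.x ^ j * D.t⁻¹ := by
          rw [show D.t * D.x ^ j * D.t⁻¹ = D.t⁻¹ * ((D.t * D.t) * D.x ^ j) * D.t⁻¹ by group,
            D.comm_E D.t_sq hjE]
          group
        have hmem : D.x ^ (D.s * j) ∈ D.E := pow_mem (Subgroup.mem_zpowers _) _
        have e1 : h⁻¹ * D.x ^ j * h = D.x ^ (D.s * j) := by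
          rw [show h⁻¹ * D.x ^ j * h = v⁻¹ * (D.t⁻¹ * D.x ^ j * D.t) * v by rw [hv]; group, e0, D.t_conj,
            mul_assoc, D.comm_E hmem hT, inv_mul_cancel_left]
        rw [e1, extendByZero_mem _ hmem, hfj, if_pos hT]
      · rw [if_neg hT]
        refine extendByZero_not_mem _ fun hm => h1 ?_
        refine D.ti h⁻¹ (fun hN => ?_) _ hjE (by simpa using hm)
        rcases D.normalizer_cases (by simpa using inv_mem hN) with h' | h'
        · exact hE h'
        · exact hT h'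
  have hcnt : ∀ (g : G) (c : ℂ), ∑ h : G, (if g * h ∈ D.E then c else 0) = (D.ne : ℂ) * c := fun g c => by
    rw [← Equiv.sum_comp (Equiv.mulLeft g⁻¹)]
    simp only [Equiv.coe_mulLeft, mul_inv_cancel_left]
    rw [← Finset.sum_filter, Finset.sum_const, nsmul_eq_mul, ← Fintype.card_subtype,
      ← Nat.card_eq_fintype_card, Nat.card_zpowers]
  rw [ind, indFun_apply, Finset.sum_congr rfl fun h _ => hval h, Finset.sum_add_distrib,
    hcnt D.t⁻¹, Finset.sum_congr rfl fun h _ => show (if h ∈ D.E then ω ^ j - ν ^ j else 0) =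
      if (1 : G) * h ∈ D.E then ω ^ j - ν ^ j else 0 by rw [one_mul], hcnt 1, Nat.card_zpowers]
  have : (D.ne : ℂ) ≠ 0 := by exact_mod_cast (orderOf_pos D.x).ne'
  rw [← mul_add, inv_mul_cancel_left₀ this]

theorem conj_pow_rts {ω : ℂ} (hω : ω ∈ rts D.x) (j : ℕ) : conj (ω ^ j) = ω⁻¹ ^ j := by
  rw [map_pow, ← Complex.inv_eq_conj (Complex.norm_eq_one_of_pow_eq_one (mem_rts.1 hω) (orderOf_pos _).ne')]

theorem orth {ω ν : ℂ} (hω : ω ∈ rts D.x) (hν : ν ∈ rts D.x) :
    (D.ne : ℂ)⁻¹ * ∑ j ∈ Finset.range D.ne, ω ^ j * conj (ν ^ j) = if ω = ν then 1 else 0 := by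
  have hν0 : ν ≠ 0 := fun h => by
    have := mem_rts.1 hν
    rw [h, zero_pow (orderOf_pos D.x).ne'] at this
    exact zero_ne_one this
  have hne : (D.ne : ℂ) ≠ 0 := by exact_mod_cast (orderOf_pos D.x).ne'
  simp only [D.conj_pow_rts hν, ← mul_pow]
  rw [geom_root (orderOf_pos D.x).ne' (by rw [mul_pow, inv_pow, mem_rts.1 hν, mem_rts.1 hω, inv_one, one_mul])]
  by_cases h : ω = ν
  · rw [if_pos (by rw [h, mul_inv_cancel₀ hν0]), if_pos h, inv_mul_cancel₀ hne]
  · rw [if_neg (fun h' => h ((mul_inv_eq_one₀ hν0).1 h')), if_neg h, mul_zero]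

theorem pow_s_mem {ω : ℂ} (hω : ω ∈ rts D.x) : ω ^ D.s ∈ rts D.x := by
  rw [mem_rts, pow_right_comm, mem_rts.1 hω, one_pow]

theorem pow_s_s {ω : ℂ} (hω : ω ∈ rts D.x) : (ω ^ D.s) ^ D.s = ω := by
  conv_rhs => rw [← pow_one ω]
  rw [← pow_mul, pow_eq_pow_mod _ (mem_rts.1 hω), D.s_sq, ← pow_eq_pow_mod _ (mem_rts.1 hω)]

theorem ind_norm {ω ν : ℂ} (hω : ω ∈ rts D.x) (hν : ν ∈ rts D.x) :
    Cfsg.classInner (D.ind ω ν) (D.ind ω ν) =
      (1 - if ω = ν then (1 : ℂ) else 0) + ((if ω = ω ^ D.s then 1 else 0) - if ω = ν ^ D.s then 1 else 0) -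
      ((if ν = ω then 1 else 0) - 1 + ((if ν = ω ^ D.s then 1 else 0) - if ν = ν ^ D.s then 1 else 0)) := by
  rw [show Cfsg.classInner (D.ind ω ν) (D.ind ω ν) =
    Cfsg.classInner (D.lam ω - D.lam ν) (fun u : D.E => D.ind ω ν u) from
    frobenius_reciprocity _ _ (isClassFunction_indFun _ _), classInner_def, Nat.card_zpowers, D.sum_E]
  rw [Finset.sum_congr rfl fun j _ => show
      (D.lam ω - D.lam ν) ⟨D.x ^ j, pow_mem (Subgroup.mem_zpowers _) j⟩ * conj (D.ind ω ν (D.x ^ j)) =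
      (ω ^ j * conj (ω ^ j) - ω ^ j * conj (ν ^ j)) +
        (ω ^ j * conj ((ω ^ D.s) ^ j) - ω ^ j * conj ((ν ^ D.s) ^ j)) -
      ((ν ^ j * conj (ω ^ j) - ν ^ j * conj (ν ^ j)) +
        (ν ^ j * conj ((ω ^ D.s) ^ j) - ν ^ j * conj ((ν ^ D.s) ^ j))) by
    rw [Pi.sub_apply, D.lam_pow hω _ j rfl, D.lam_pow hν _ j rfl, D.ind_pow hω hν, ← pow_mul, ← pow_mul,
      map_add, map_sub, map_sub]
    ring]
  simp only [Finset.sum_sub_distrib, Finset.sum_add_distrib, mul_sub, mul_add]
  rw [D.orth hω hω, D.orth hω hν, D.orth hω (D.pow_s_mem hω), D.orth hω (D.pow_s_mem hν),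
    D.orth hν hω, D.orth hν hν, D.orth hν (D.pow_s_mem hω), D.orth hν (D.pow_s_mem hν), if_pos rfl, if_pos rfl]

theorem ind_inner {ω ν : ℂ} (hω : ω ∈ rts D.x) (hν : ν ∈ rts D.x) (χ : Cfsg.IrrCharacter G) {d : ℂ → ℕ}
    (hd : ∀ z ∈ rts D.x, mult (χ : G → ℂ) D.x z = d z) :
    Cfsg.classInner (D.ind ω ν) (χ : G → ℂ) = (((d ω : ℤ) - d ν : ℤ) : ℂ) := by
  have key : ∀ z ∈ rts D.x, (D.ne : ℂ)⁻¹ * ∑ j ∈ Finset.range D.ne,
      z ^ j * conj ((χ : G → ℂ) (D.x ^ j)) = (d z : ℂ) := fun z hz => by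
    rw [← Complex.conj_natCast (d z), ← hd z hz, mult, map_mul, map_inv₀, Complex.conj_natCast, map_sum]
    congr 1
    refine Finset.sum_congr rfl fun j _ => ?_
    rw [map_mul, map_pow, map_inv₀,
      ← Complex.inv_eq_conj (Complex.norm_eq_one_of_pow_eq_one (mem_rts.1 hz) (orderOf_pos _).ne'), inv_inv]
  rw [show Cfsg.classInner (D.ind ω ν) (χ : G → ℂ) =
    Cfsg.classInner (D.lam ω - D.lam ν) (fun u : D.E => (χ : G → ℂ) u) from
    frobenius_reciprocity _ _ (isClassFunction_irr χ), classInner_def, Nat.card_zpowers, D.sum_E]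
  rw [Finset.sum_congr rfl fun j _ => show
      (D.lam ω - D.lam ν) ⟨D.x ^ j, pow_mem (Subgroup.mem_zpowers _) j⟩ * conj ((χ : G → ℂ) (D.x ^ j)) =
      ω ^ j * conj ((χ : G → ℂ) (D.x ^ j)) - ν ^ j * conj ((χ : G → ℂ) (D.x ^ j)) by
    rw [Pi.sub_apply, D.lam_pow hω _ j rfl, D.lam_pow hν _ j rfl]
    ring, Finset.sum_sub_distrib, mul_sub, key ω hω, key ν hν]
  push_cast
  rfl

/-! ### The unique character of degree `p` -/

/-- The character of degree `p`. -/
noncomputable def psi : Cfsg.IrrCharacter G := D.uniq.choose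

theorem psi_one : (D.psi : G → ℂ) 1 = p := (charDegree_eq _).1 D.uniq.choose_spec.1

theorem psi_unique {χ : Cfsg.IrrCharacter G} (h : (χ : G → ℂ) 1 = p) : χ = D.psi :=
  D.uniq.choose_spec.2 χ ((charDegree_eq χ).2 h)

theorem psi_auto (σ : ℂ ≃+* ℂ) (g : G) : σ ((D.psi : G → ℂ) g) = (D.psi : G → ℂ) g := by
  have h := D.psi_unique (χ := ⟨_, IsIrrCharacter.map_auto D.psi.2 σ⟩) (by
    show σ ((D.psi : G → ℂ) 1) = p
    rw [psi_one, map_natCast])
  exact congrFun (congrArg Subtype.val h) g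

theorem psi_rat (g : G) : ∃ q : ℚ, (D.psi : G → ℂ) g = q := by
  haveI : NeZero (orderOf g) := ⟨(orderOf_pos g).ne'⟩
  exact rat_of_galConj_fixed (IsCharacter.mem_cycField (isCharacter_of_irr D.psi.2) dvd_rfl)
    fun σ _ _ _ => D.psi_auto σ g

theorem psi_real (g : G) : conj ((D.psi : G → ℂ) g) = (D.psi : G → ℂ) g := D.psi_auto starRingAut g

theorem one_ne_psi : (principal G) ≠ D.psi := fun h => by
  have h1 := D.psi_one
  rw [← h] at h1
  have h2 : ((1 : ℕ) : ℂ) = (p : ℂ) := by rw [← h1]; simp [principal]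
  exact (Fact.out : p.Prime).ne_one (Nat.cast_injective h2).symm

theorem one_mem_rts (g : G) : (1 : ℂ) ∈ rts g := mem_rts.2 (one_pow _)

/-- The number of orbits of the complement off its fixed point. -/
noncomputable def tt : ℕ := (p - 1) / D.ne

theorem tt_mul : D.tt * D.ne = p - 1 := Nat.div_mul_cancel D.order_dvd

theorem permChar_pow (j : ℕ) :
    permChar G α (D.x ^ j) = if D.x ^ j = 1 then (p : ℂ) else 1 := by
  by_cases h : D.x ^ j = 1
  · rw [if_pos h, permChar, h]
    rw [show MulAction.fixedBy α (1 : G) = Set.univ from Set.eq_univ_of_forall fun z => one_smul G z,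
      Nat.card_coe_set_eq, Set.ncard_univ, Nat.card_congr D.e.symm, Nat.card_zmod]
  · rw [if_neg h, permChar]
    rw [show MulAction.fixedBy α (D.x ^ j) = {D.e 0} from ?_]
    · simp
    · ext z
      obtain ⟨i, rfl⟩ := D.e.surjective z
      rw [MulAction.mem_fixedBy, Set.mem_singleton_iff]
      show ((D.x ^ j : G) : Equiv.Perm α) (D.e i) = D.e i ↔ _
      rw [D.x_pow_apply, D.e.injective.eq_iff, D.e.injective.eq_iff]
      refine ⟨fun hi => ?_, fun hi => by rw [hi, mul_zero]⟩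
      by_contra hi0
      refine h (orderOf_dvd_iff_pow_eq_one.1 ?_)
      rw [← D.orderOf_r]
      refine orderOf_dvd_of_pow_eq_one (Units.ext ?_)
      rw [Units.val_pow_eq_pow_val, Units.val_one]
      exact (mul_left_eq_self₀.1 hi).resolve_right hi0

theorem mult_perm {ω : ℂ} (hω : ω ∈ rts D.x) (h1 : ω ≠ 1) : mult (permChar G α) D.x ω = D.tt := by
  have hne : (D.ne : ℂ) ≠ 0 := by exact_mod_cast (orderOf_pos D.x).ne'
  have hω' : ω⁻¹ ^ D.ne = 1 := by rw [inv_pow, mem_rts.1 hω, inv_one]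
  rw [mult, Finset.sum_congr rfl fun j hj => show ω⁻¹ ^ j * permChar G α (D.x ^ j) =
    ω⁻¹ ^ j + (if j = 0 then ((p : ℂ) - 1) else 0) by
      rw [D.permChar_pow]
      by_cases h0 : j = 0
      · subst h0; simp
      · rw [if_neg h0, if_neg fun h => h0 (Nat.eq_zero_of_dvd_of_lt (orderOf_dvd_of_pow_eq_one h)
          (Finset.mem_range.1 hj)), mul_one, add_zero],
    Finset.sum_add_distrib, geom_root (orderOf_pos D.x).ne' hω', if_neg (by simpa using h1), zero_add,
    Finset.sum_ite_eq', if_pos (Finset.mem_range.2 (orderOf_pos D.x))]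
  rw [inv_mul_eq_iff_eq_mul₀ hne, mul_comm, ← Nat.cast_mul, D.tt_mul,
    Nat.cast_sub (Fact.out : p.Prime).one_le, Nat.cast_one]

theorem even_tt (hp : p ≠ 2) : Even D.tt := by
  have hodd : ¬ Even p := Nat.not_even_iff_odd.2 ((Fact.out : p.Prime).odd_of_ne_two hp)
  rcases Nat.even_or_odd D.ne with he | ho
  · have hneg : (-1 : ℂ) ∈ rts D.x := mem_rts.2 he.neg_one_pow
    obtain ⟨d, hd, hd', -⟩ := exists_mult (isCharacter_permChar (G := G) α) D.x
    have h := (even_mult_neg_one D.perfect (isCharacter_permChar (G := G) α) D.x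
      (fun j => by rw [permChar]; exact Complex.conj_natCast _) hd hd').1 hneg
    have h2 : ((d (-1) : ℕ) : ℂ) = (D.tt : ℂ) := by
      rw [← hd _ hneg]
      exact D.mult_perm hneg (by norm_num)
    rwa [Nat.cast_inj.1 h2] at h
  · have h : Even (D.tt * D.ne) := by
      rw [D.tt_mul]
      obtain ⟨m, hm⟩ := (Fact.out : p.Prime).odd_of_ne_two hp
      exact ⟨m, by omega⟩
    exact (Nat.even_mul.1 h).resolve_right (Nat.not_even_iff_odd.2 ho)

/-- A primitive root. -/
noncomputable def zeta : ℂ := Complex.exp (2 * Real.pi * Complex.I / D.ne)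

theorem zeta_prim : IsPrimitiveRoot D.zeta D.ne := Complex.isPrimitiveRoot_exp _ (orderOf_pos D.x).ne'

theorem zeta_mem : D.zeta ∈ rts D.x := mem_rts.2 D.zeta_prim.pow_eq_one

theorem zeta_moved (h3 : 3 ≤ D.ne) : D.zeta ^ D.s ≠ D.zeta := fun h => D.s_ne_one h3 (by
  have h1 : D.zeta ^ D.s = D.zeta ^ 1 := by rw [pow_one]; exact h
  rw [pow_eq_pow_mod D.s D.zeta_prim.pow_eq_one, pow_eq_pow_mod 1 D.zeta_prim.pow_eq_one] at h1
  exact D.zeta_prim.pow_inj (Nat.mod_lt _ (orderOf_pos D.x)) (Nat.mod_lt _ (orderOf_pos D.x)) h1)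

/-- **The values of the character of degree `p` on the complement.** -/
theorem psi_mult (h3 : 3 ≤ D.ne) (hp : p ≠ 2) {ω : ℂ} (hω : ω ∈ rts D.x) :
    mult (D.psi : G → ℂ) D.x ω = (D.tt + if ω = 1 then 1 else 0 : ℕ) := by
  obtain ⟨d, hd, hd', hd1⟩ := exists_mult (isCharacter_of_irr D.psi.2) D.x
  obtain ⟨-, hinv⟩ := even_mult_neg_one D.perfect (isCharacter_of_irr D.psi.2) D.x
    (fun j => D.psi_real _) hd hd'
  have heven := (even_mult_neg_one D.perfect (isCharacter_of_irr D.psi.2) D.x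
    (fun j => D.psi_real _) hd hd').1
  have hz := D.zeta_mem
  have hzm := D.zeta_moved h3
  have hz1 : D.zeta ≠ 1 := fun h => hzm (by rw [h, one_pow])
  -- all moved roots have the same multiplicity
  have hmoved : ∀ z ∈ rts D.x, z ^ D.s ≠ z → d z = d D.zeta := fun z hz' hzm' => by
    by_cases heq : z = D.zeta
    · rw [heq]
    by_cases hsw : z = D.zeta ^ D.s
    · have hn := D.ind_norm hz' hz
      have h2 : D.zeta = z ^ D.s := by rw [hsw, D.pow_s_s hz]
      rw [if_neg heq, if_neg (Ne.symm hzm'), if_pos hsw, if_neg (Ne.symm heq),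
        if_pos h2, if_neg (Ne.symm hzm)] at hn
      norm_num at hn
      have h0 := (classInner_self_eq_zero _).1 hn
      have := D.ind_inner hz' hz D.psi hd
      rw [h0, classInner_zero_left] at this
      have h3' : ((d z : ℤ) - d D.zeta) = 0 := by exact_mod_cast this.symm
      omega
    · have hne2 : D.zeta ≠ z ^ D.s := fun h => hsw (by rw [h, D.pow_s_s hz'])
      have hn := D.ind_norm hz' hz
      rw [if_neg heq, if_neg (Ne.symm hzm'), if_neg hsw, if_neg (Ne.symm heq), if_neg hne2,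
        if_neg (Ne.symm hzm)] at hn
      norm_num at hn
      obtain ⟨μ, ν, hμν, hf⟩ := exists_sub_of_norm_two (D.isGeneralized_ind hz' hz) hn
        (D.ind_eq_zero (fun ⟨_, _, h⟩ => h rfl) hz' hz)
      by_contra hne
      have hin := D.ind_inner hz' hz D.psi hd
      have hdeg := congrFun hf 1
      rw [D.ind_eq_zero (fun ⟨_, _, h⟩ => h rfl) hz' hz, Pi.sub_apply, eq_comm, sub_eq_zero] at hdeg
      rw [hf, classInner_sub_left, classInner_irrCharacter, classInner_irrCharacter] at hin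
      by_cases hμ : μ = D.psi
      · have : ν = D.psi := D.psi_unique (by rw [← hdeg, hμ, psi_one])
        exact hμν (hμ.trans this.symm)
      by_cases hν : ν = D.psi
      · exact hμ (D.psi_unique (by rw [hdeg, hν, psi_one]))
      rw [if_neg hμ, if_neg hν, sub_self] at hin
      have h3' : ((d z : ℤ) - d D.zeta) = 0 := by exact_mod_cast hin.symm
      omega
  set m := d D.zeta with hm
  have hone_inner : ∀ z ∈ rts D.x, ∀ w ∈ rts D.x,
      Cfsg.classInner (D.ind z w) (principal G : G → ℂ) =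
        (((if z = 1 then 1 else 0) - if w = 1 then 1 else 0 : ℤ) : ℂ) := by
    intro z hz' w hw
    have hmul : ∀ v ∈ rts D.x, mult (principal G : G → ℂ) D.x v = ((if v = 1 then 1 else 0 : ℕ) : ℂ) := by
      intro v hv
      rw [mult, Finset.sum_congr rfl fun j _ => show v⁻¹ ^ j * (principal G : G → ℂ) (D.x ^ j) = v⁻¹ ^ j by
        simp [principal], geom_root (orderOf_pos D.x).ne' (by rw [inv_pow, mem_rts.1 hv, inv_one])]
      have hne : (D.ne : ℂ) ≠ 0 := by exact_mod_cast (orderOf_pos D.x).ne'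
      by_cases h : v = 1
      · simp [h, hne]
      · simp [h]
    rw [D.ind_inner hz' hw (principal G) hmul]
    push_cast
    rfl
  have hsmall : ∀ z ∈ rts D.x, z ^ D.s = z → z ≠ 1 →
      |(d z : ℤ) - m| ≤ 1 ∧ |(d 1 : ℤ) - d z| ≤ 1 := by
    intro z hz' hfix hz1'
    have hzz : z ≠ D.zeta := fun h => hzm (by rw [← h]; exact hfix)
    have hn := D.ind_norm hz' hz
    rw [if_neg hzz, if_pos hfix.symm,
      if_neg (fun h : z = D.zeta ^ D.s => hzz (by rw [← hfix, h, D.pow_s_s hz])), if_neg (Ne.symm hzz),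
      if_neg (fun h : D.zeta = z ^ D.s => hzz (by rw [h, hfix])), if_neg (Ne.symm hzm)] at hn
    norm_num at hn
    have hn' : Cfsg.classInner (D.ind z D.zeta) (D.ind z D.zeta) = ((3 : ℤ) : ℂ) := by rw [hn]; norm_num
    have h1 := sq_add_sq_le (D.isGeneralized_ind hz' hz) hn' D.one_ne_psi (hone_inner z hz' _ hz)
      (D.ind_inner hz' hz D.psi hd)
    rw [if_neg hz1', if_neg hz1] at h1
    have hn2 := D.ind_norm (one_mem_rts D.x) hz'
    rw [one_pow, if_neg (Ne.symm hz1'), if_pos rfl, hfix, if_neg (Ne.symm hz1'), if_neg hz1',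
      if_pos rfl] at hn2
    norm_num at hn2
    have hn2' : Cfsg.classInner (D.ind 1 z) (D.ind 1 z) = ((4 : ℤ) : ℂ) := by rw [hn2]; norm_num
    have h2 := sq_add_sq_le (D.isGeneralized_ind (one_mem_rts D.x) hz') hn2' D.one_ne_psi
      (hone_inner 1 (one_mem_rts D.x) z hz') (D.ind_inner (one_mem_rts D.x) hz' D.psi hd)
    rw [if_pos rfl, if_neg hz1'] at h2
    constructor <;> rw [abs_le] <;> constructor <;> nlinarith
  have hA : |(d 1 : ℤ) - m| ≤ 1 := by
    have hn := D.ind_norm (one_mem_rts D.x) hz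
    rw [one_pow, if_neg (Ne.symm hz1), if_pos rfl, if_neg (fun h : (1 : ℂ) = D.zeta ^ D.s => hz1 (by
      rw [← D.pow_s_s hz, ← h, one_pow])), if_neg hz1, if_neg (Ne.symm hzm)] at hn
    norm_num at hn
    have hn' : Cfsg.classInner (D.ind 1 D.zeta) (D.ind 1 D.zeta) = ((3 : ℤ) : ℂ) := by rw [hn]; norm_num
    have h1 := sq_add_sq_le (D.isGeneralized_ind (one_mem_rts D.x) hz) hn' D.one_ne_psi
      (hone_inner 1 (one_mem_rts D.x) _ hz) (D.ind_inner (one_mem_rts D.x) hz D.psi hd)
    rw [if_pos rfl, if_neg hz1] at h1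
    rw [abs_le]; constructor <;> nlinarith
  set Φ := (rts D.x).filter (fun z => z ^ D.s = z) with hΦ
  have h1Φ : (1 : ℂ) ∈ Φ := Finset.mem_filter.2 ⟨one_mem_rts D.x, one_pow _⟩
  have hrtscard : (rts D.x).card = D.ne := D.zeta_prim.card_nthRootsFinset
  have hΦcard : 2 * Φ.card ≤ D.ne := by
    have hle : (Φ.image (· * D.zeta)).card + Φ.card ≤ (rts D.x).card := by
      rw [← Finset.card_union_of_disjoint]
      · refine Finset.card_le_card (Finset.union_subset (fun z hz' => ?_) (Finset.filter_subset _ _))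
        obtain ⟨w, hw, rfl⟩ := Finset.mem_image.1 hz'
        rw [mem_rts, mul_pow, mem_rts.1 (Finset.mem_filter.1 hw).1, mem_rts.1 hz, one_mul]
      · rw [Finset.disjoint_left]
        intro z hz' hz2
        obtain ⟨w, hw, rfl⟩ := Finset.mem_image.1 hz'
        have h1 := (Finset.mem_filter.1 hz2).2
        rw [mul_pow, (Finset.mem_filter.1 hw).2] at h1
        refine hzm (mul_left_cancel₀ ?_ h1)
        intro h0
        have := mem_rts.1 (Finset.mem_filter.1 hw).1
        rw [h0, zero_pow (orderOf_pos D.x).ne'] at this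
        exact zero_ne_one this
    rw [Finset.card_image_of_injective _ (mul_left_injective₀ (D.zeta_prim.ne_zero (orderOf_pos D.x).ne'))] at hle
    omega
  have hsum : ∑ z ∈ Φ, ((d z : ℤ) - m) = (p : ℤ) - m * D.ne := by
    have h1 : ∑ z ∈ rts D.x, ((d z : ℤ) - m) = (p : ℤ) - m * D.ne := by
      rw [Finset.sum_sub_distrib, Finset.sum_const, hrtscard, nsmul_eq_mul]
      rw [D.psi_one] at hd1
      have h2 : ((∑ z ∈ rts D.x, d z : ℕ) : ℂ) = (p : ℂ) := by push_cast; exact hd1.symm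
      rw [Nat.cast_inj] at h2
      rw [← Nat.cast_sum, h2, mul_comm]
    rw [← h1]
    refine Finset.sum_subset (Finset.filter_subset _ _) fun z hz' hzΦ => ?_
    rw [hmoved z hz' fun h => hzΦ (Finset.mem_filter.2 ⟨hz', h⟩), sub_self]
  have hB : ∀ z ∈ Φ, |(d z : ℤ) - m| ≤ 1 := fun z hz' => by
    by_cases h : z = 1
    · rw [h]; exact hA
    · exact (hsmall z (Finset.mem_filter.1 hz').1 (Finset.mem_filter.1 hz').2 h).1
  have hS : (p : ℤ) - m * D.ne = 1 := by
    have habs : |(p : ℤ) - m * D.ne| ≤ (Φ.card : ℤ) := by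
      rw [← hsum]
      refine (Finset.abs_sum_le_sum_abs _ _).trans ((Finset.sum_le_sum hB).trans (by simp))
    have hdvd : (D.ne : ℤ) ∣ (p : ℤ) - m * D.ne - 1 := by
      refine ⟨(D.tt : ℤ) - m, ?_⟩
      have := congrArg (fun n : ℕ => (n : ℤ)) D.tt_mul
      simp only [Nat.cast_mul, Nat.cast_sub (Fact.out : p.Prime).one_le, Nat.cast_one] at this
      linear_combination -this
    have hlt : |(p : ℤ) - m * D.ne - 1| < (D.ne : ℤ) := by
      have := abs_sub ((p : ℤ) - m * D.ne) 1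
      rw [abs_one] at this
      omega
    have := Int.eq_zero_of_abs_lt_dvd hdvd hlt
    linarith
  have hm' : m = D.tt := by
    have h := congrArg (fun n : ℕ => (n : ℤ)) D.tt_mul
    simp only [Nat.cast_mul, Nat.cast_sub (Fact.out : p.Prime).one_le, Nat.cast_one] at h
    have h2 : (m : ℤ) * D.ne = D.tt * D.ne := by linarith
    exact_mod_cast Int.eq_of_mul_eq_mul_right (by exact_mod_cast (orderOf_pos D.x).ne') h2
  rw [hS] at hsum
  rw [← Finset.add_sum_erase _ _ h1Φ] at hsum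
  set A : ℤ := (d 1 : ℤ) - m with hAdef
  have hA1 : A = 1 := by
    have h1 := abs_le.1 hA
    by_contra hne
    have hA' : A = -1 ∨ A = 0 := by omega
    rcases hA' with hA' | hA'
    · have hneg : ∑ z ∈ Φ.erase 1, ((d z : ℤ) - m) ≤ 0 := Finset.sum_nonpos fun z hz' => by
        have h := (hsmall z (Finset.mem_filter.1 (Finset.mem_of_mem_erase hz')).1
          (Finset.mem_filter.1 (Finset.mem_of_mem_erase hz')).2 (Finset.ne_of_mem_erase hz')).2
        have := (abs_le.1 h).1
        omega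
      omega
    · -- parity
      have h2 : ((d 1 : ℕ) : ZMod 2) = 1 := by
        have hp1 : ∑ z ∈ rts D.x, ((d z : ℕ) : ZMod 2) = 1 := by
          rw [D.psi_one] at hd1
          have h3' : ((∑ z ∈ rts D.x, d z : ℕ) : ℂ) = (p : ℂ) := by push_cast; exact hd1.symm
          rw [Nat.cast_inj] at h3'
          rw [← Nat.cast_sum, h3', ZMod.natCast_eq_one_iff_odd]
          exact (Fact.out : p.Prime).odd_of_ne_two hp
        rw [← Finset.add_sum_erase _ _ (one_mem_rts D.x)] at hp1
        rw [Finset.sum_involution (s := (rts D.x).erase 1) (fun z _ => z⁻¹)] at hp1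
        · rwa [add_zero] at hp1
        · intro z hz'
          rw [hinv z (Finset.mem_of_mem_erase hz')]
          exact CharTwo.add_self_eq_zero _
        · intro z hz' hne' heq
          apply hne'
          have hz'' := Finset.mem_of_mem_erase hz'
          have h0 : z ≠ 0 := fun h => by
            have := mem_rts.1 hz''
            rw [h, zero_pow (orderOf_pos D.x).ne'] at this
            exact zero_ne_one this
          have h2' : z * z = 1 := by
            nth_rewrite 1 [← heq]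
            exact inv_mul_cancel₀ h0
          rcases mul_self_eq_one_iff.1 h2' with h | h
          · exact absurd h (Finset.ne_of_mem_erase hz')
          · subst h
            exact (ZMod.natCast_eq_zero_iff_even).2 (heven hz'')
        · intro z hz'
          refine Finset.mem_erase.2 ⟨fun h => Finset.ne_of_mem_erase hz' (inv_eq_one.1 h), ?_⟩
          rw [mem_rts, inv_pow, mem_rts.1 (Finset.mem_of_mem_erase hz'), inv_one]
        · intro z _; exact inv_inv z
      have h4 : d 1 = D.tt := by omega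
      rw [h4, (ZMod.natCast_eq_zero_iff_even).2 (D.even_tt hp)] at h2
      exact zero_ne_one h2
  have hrest : ∀ z ∈ Φ.erase 1, (d z : ℤ) - m = 0 := by
    have hnn : ∀ z ∈ Φ.erase 1, 0 ≤ (d z : ℤ) - m := fun z hz' => by
      have h := (hsmall z (Finset.mem_filter.1 (Finset.mem_of_mem_erase hz')).1
        (Finset.mem_filter.1 (Finset.mem_of_mem_erase hz')).2 (Finset.ne_of_mem_erase hz')).2
      have := (abs_le.1 h).2
      omega
    exact (Finset.sum_eq_zero_iff_of_nonneg hnn).1 (by omega)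
  rw [hd ω hω, Nat.cast_inj]
  by_cases h : ω = 1
  · subst h; rw [if_pos rfl]; omega
  rw [if_neg h, add_zero]
  by_cases hf : ω ^ D.s = ω
  · have := hrest ω (Finset.mem_erase.2 ⟨h, Finset.mem_filter.2 ⟨hω, hf⟩⟩)
    omega
  · rw [hmoved ω hω hf, hm']

/-- The character of degree `p` is `1` on the nontrivial elements of the complement. -/
theorem psi_pow (h3 : 3 ≤ D.ne) (hp : p ≠ 2) (j : ℕ) (hj : D.x ^ j ≠ 1) :
    (D.psi : G → ℂ) (D.x ^ j) = 1 := by
  obtain ⟨d, hd, hd', -⟩ := exists_mult (isCharacter_of_irr D.psi.2) D.x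
  rw [hd' j]
  have hval : ∀ z ∈ rts D.x, (d z : ℂ) * z ^ j = (D.tt : ℂ) * z ^ j + if z = 1 then 1 else 0 := fun z hz => by
    rw [← hd z hz, D.psi_mult h3 hp hz]
    push_cast
    by_cases h : z = 1
    · simp [h]
    · simp [h]
  rw [Finset.sum_congr rfl hval, Finset.sum_add_distrib, ← Finset.mul_sum, Finset.sum_ite_eq',
    if_pos (one_mem_rts D.x)]
  have hζ : D.zeta ^ j ≠ 1 := fun h => hj (orderOf_dvd_iff_pow_eq_one.1
    ((D.zeta_prim.pow_eq_one_iff_dvd j).1 h))
  have h0 : ∑ z ∈ rts D.x, z ^ j = 0 := by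
    have h1 : D.zeta ^ j * ∑ z ∈ rts D.x, z ^ j = ∑ z ∈ rts D.x, z ^ j := by
      rw [Finset.mul_sum]
      refine Finset.sum_bij' (fun z _ => D.zeta * z) (fun z _ => D.zeta⁻¹ * z) ?_ ?_ ?_ ?_ ?_
      · intro z hz
        rw [mem_rts, mul_pow, mem_rts.1 D.zeta_mem, mem_rts.1 hz, one_mul]
      · intro z hz
        rw [mem_rts, mul_pow, inv_pow, mem_rts.1 D.zeta_mem, mem_rts.1 hz, inv_one, one_mul]
      · intro z _
        exact inv_mul_cancel_left₀ (D.zeta_prim.ne_zero (orderOf_pos D.x).ne') z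
      · intro z _
        exact mul_inv_cancel_left₀ (D.zeta_prim.ne_zero (orderOf_pos D.x).ne') z
      · intro z _
        rw [mul_pow]
    have h2 : (D.zeta ^ j - 1) * ∑ z ∈ rts D.x, z ^ j = 0 := by linear_combination h1
    exact (mul_eq_zero.1 h2).resolve_left (sub_ne_zero.2 hζ)
  rw [h0, mul_zero, zero_add]

/-- **The exceptional character.** -/
theorem exists_theta (h3 : 3 ≤ D.ne) (hp : p ≠ 2) {ω : ℂ} (hω : ω ∈ rts D.x) (hmov : ω ^ D.s ≠ ω) :
    ∃ θ : Cfsg.IrrCharacter G, (θ : G → ℂ) 1 = (p + 1 : ℕ) ∧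
      (∀ j : ℕ, D.x ^ j ≠ 1 → (θ : G → ℂ) (D.x ^ j) = ω ^ j + (ω ^ D.s) ^ j) ∧
      ∀ g : G, g ≠ 1 → ¬ D.InE g → (θ : G → ℂ) g = 1 + (D.psi : G → ℂ) g := by
  have hω1 : ω ≠ 1 := fun h => hmov (by rw [h, one_pow])
  have hone := one_mem_rts D.x
  set f : G → ℂ := fun g => 1 + (D.psi : G → ℂ) g - D.ind 1 ω g with hf
  have hgen : Cfsg.IsGeneralizedCharacter G f := by
    have h := IsGeneralizedCharacter.sub (IsGeneralizedCharacter.add
      (IsCharacter.isGeneralized (isCharacter_of_irr (principal G).2))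
      (IsCharacter.isGeneralized (isCharacter_of_irr D.psi.2))) (D.isGeneralized_ind hone hω)
    convert h using 1
    funext g
    simp [hf, principal]
  obtain ⟨d, hd, -, -⟩ := exists_mult (isCharacter_of_irr D.psi.2) D.x
  have hψi : Cfsg.classInner (D.ind 1 ω) (D.psi : G → ℂ) = 1 := by
    rw [D.ind_inner hone hω D.psi hd]
    have e1 : ((d 1 : ℕ) : ℂ) = ((D.tt + 1 : ℕ) : ℂ) := by
      rw [← hd _ hone, D.psi_mult h3 hp hone, if_pos rfl]
    have e2 : ((d ω : ℕ) : ℂ) = (D.tt : ℂ) := by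
      rw [← hd _ hω, D.psi_mult h3 hp hω, if_neg hω1, add_zero]
    rw [Nat.cast_inj] at e1 e2
    rw [e1, e2]; push_cast; ring
  have hmul : ∀ v ∈ rts D.x, mult (principal G : G → ℂ) D.x v = ((if v = 1 then 1 else 0 : ℕ) : ℂ) := by
    intro v hv
    rw [mult, Finset.sum_congr rfl fun j _ => show v⁻¹ ^ j * (principal G : G → ℂ) (D.x ^ j) = v⁻¹ ^ j by
      simp [principal], geom_root (orderOf_pos D.x).ne' (by rw [inv_pow, mem_rts.1 hv, inv_one])]
    have hne : (D.ne : ℂ) ≠ 0 := by exact_mod_cast (orderOf_pos D.x).ne'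
    by_cases h : v = 1
    · simp [h, hne]
    · simp [h]
  have h1i : Cfsg.classInner (D.ind 1 ω) (principal G : G → ℂ) = 1 := by
    rw [D.ind_inner hone hω (principal G) hmul, if_pos rfl, if_neg hω1]; norm_num
  have hnormQ : Cfsg.classInner (D.ind 1 ω) (D.ind 1 ω) = 3 := by
    rw [D.ind_norm hone hω, one_pow, if_neg (Ne.symm hω1), if_pos rfl,
      if_neg (fun h : (1 : ℂ) = ω ^ D.s => hω1 (by rw [← D.pow_s_s hω, ← h, one_pow])), if_neg hω1,
      if_neg (Ne.symm hmov)]
    norm_num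
  have hnorm : Cfsg.classInner f f = 1 := by
    have hfe : f = (principal G : G → ℂ) + (D.psi : G → ℂ) - D.ind 1 ω := by
      funext g; simp [hf, principal]
    have e1 : Cfsg.classInner (principal G : G → ℂ) (D.ind 1 ω) = 1 := by
      rw [← classInner_conj_symm, h1i, map_one]
    have e2 : Cfsg.classInner (D.psi : G → ℂ) (D.ind 1 ω) = 1 := by
      rw [← classInner_conj_symm, hψi, map_one]
    simp only [hfe, classInner_sub_left, classInner_sub_right, classInner_add_left, classInner_add_right,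
      classInner_irr_self, classInner_irr_ne D.one_ne_psi, classInner_irr_ne D.one_ne_psi.symm, e1, e2,
      h1i, hψi, hnormQ]
    norm_num
  have hf1 : f 1 = ((p + 1 : ℕ) : ℂ) := by
    rw [hf]
    show 1 + (D.psi : G → ℂ) 1 - D.ind 1 ω 1 = _
    rw [D.ind_eq_zero (fun ⟨_, _, h⟩ => h rfl) hone hω, psi_one]
    push_cast; ring
  obtain ⟨θ, hθ | hθ⟩ := eq_sign_of_norm_one hgen hnorm
  · refine ⟨θ, by rw [← hθ]; exact hf1, fun j hj => ?_, fun g _ hg => ?_⟩
    · rw [← hθ]
      show 1 + (D.psi : G → ℂ) (D.x ^ j) - D.ind 1 ω (D.x ^ j) = _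
      rw [D.psi_pow h3 hp j hj, D.ind_pow hone hω, one_pow, one_pow, pow_mul]
      ring
    · rw [← hθ]
      show 1 + (D.psi : G → ℂ) g - D.ind 1 ω g = _
      rw [D.ind_eq_zero hg hone hω, sub_zero]
  · exfalso
    have h := congrFun hθ 1
    rw [hf1, Pi.neg_apply, irr_apply_one_eq_deg] at h
    have h2 : ((p + 1 + deg (θ : G → ℂ) : ℕ) : ℂ) = ((0 : ℕ) : ℂ) := by
      push_cast at h ⊢
      linear_combination h
    have := Nat.cast_injective h2
    omega

/-- **The complement is inverted in its normaliser.** -/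
theorem s_neg (h3 : 3 ≤ D.ne) (hp : p ≠ 2) : 1 + D.s ≡ 0 [MOD D.ne] := by
  obtain ⟨θ, hθ1, hθx, -⟩ := D.exists_theta h3 hp D.zeta_mem (D.zeta_moved h3)
  obtain ⟨d, hd, hd', -⟩ := exists_mult (isCharacter_of_irr θ.2) D.x
  have hne : (D.ne : ℂ) ≠ 0 := by exact_mod_cast (orderOf_pos D.x).ne'
  have hdv : ∀ z ∈ rts D.x, d z = D.tt + (if z = D.zeta then 1 else 0) + if z = D.zeta ^ D.s then 1 else 0 := by
    intro z hz
    have h := hd z hz
    rw [mult, Finset.sum_congr rfl fun j hj => show z⁻¹ ^ j * (θ : G → ℂ) (D.x ^ j) =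
      z⁻¹ ^ j * D.zeta ^ j + z⁻¹ ^ j * (D.zeta ^ D.s) ^ j + if j = 0 then ((p : ℂ) - 1) else 0 by
        by_cases h0 : j = 0
        · subst h0; rw [pow_zero D.x, hθ1]; push_cast; simp; ring
        · rw [if_neg h0, hθx j (fun h => h0 (Nat.eq_zero_of_dvd_of_lt (orderOf_dvd_of_pow_eq_one h)
            (Finset.mem_range.1 hj)))]
          ring] at h
    rw [Finset.sum_add_distrib, Finset.sum_add_distrib, Finset.sum_ite_eq',
      if_pos (Finset.mem_range.2 (orderOf_pos D.x)), mul_add, mul_add] at h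
    have horth : ∀ w ∈ rts D.x, (D.ne : ℂ)⁻¹ * ∑ j ∈ Finset.range D.ne, z⁻¹ ^ j * w ^ j = if w = z then 1 else 0 := by
      intro w hw
      rw [← D.orth hw hz]
      congr 1
      exact Finset.sum_congr rfl fun j _ => by rw [D.conj_pow_rts hz, mul_comm]
    rw [horth _ D.zeta_mem, horth _ (D.pow_s_mem D.zeta_mem),
      show (D.ne : ℂ)⁻¹ * ((p : ℂ) - 1) = (D.tt : ℂ) by
        rw [inv_mul_eq_iff_eq_mul₀ hne, mul_comm, ← Nat.cast_mul, D.tt_mul,
          Nat.cast_sub (Fact.out : p.Prime).one_le, Nat.cast_one]] at h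
    apply Nat.cast_injective (R := ℂ)
    rw [← h]
    push_cast
    simp only [eq_comm (b := z)]
    ring
  have hprod := prod_pow_eq_one D.perfect (isCharacter_of_irr θ.2) D.x hd'
  rw [Finset.prod_congr rfl fun z hz => by rw [hdv z hz, pow_add, pow_add], Finset.prod_mul_distrib,
    Finset.prod_mul_distrib] at hprod
  have hsel : ∀ w ∈ rts D.x, ∏ z ∈ rts D.x, z ^ (if z = w then 1 else 0) = w := fun w hw => by
    rw [Finset.prod_eq_single_of_mem w hw fun z _ hz => by rw [if_neg hz, pow_zero], if_pos rfl, pow_one]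
  have hall : ∏ z ∈ rts D.x, z ^ D.tt = 1 := by
    obtain ⟨a, ha⟩ := D.even_tt hp
    rw [Finset.prod_pow, ha, ← two_mul, pow_mul, sq]
    have hinv : ∏ z ∈ rts D.x, z = ∏ z ∈ rts D.x, z⁻¹ := by
      refine Finset.prod_bij' (fun z _ => z⁻¹) (fun z _ => z⁻¹) ?_ ?_ ?_ ?_ ?_
      · intro z hz; rw [mem_rts, inv_pow, mem_rts.1 hz, inv_one]
      · intro z hz; rw [mem_rts, inv_pow, mem_rts.1 hz, inv_one]
      · intro z _; exact inv_inv z
      · intro z _; exact inv_inv z
      · intro z _; exact (inv_inv z).symm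
    nth_rewrite 2 [hinv]
    rw [← Finset.prod_mul_distrib, Finset.prod_eq_one fun z hz => mul_inv_cancel₀ (fun h => by
      have := mem_rts.1 hz
      rw [h, zero_pow (orderOf_pos D.x).ne'] at this
      exact zero_ne_one this), one_pow]
  rw [hall, one_mul, hsel _ D.zeta_mem, hsel _ (D.pow_s_mem D.zeta_mem), ← pow_succ'] at hprod
  rw [add_comm]
  exact Nat.modEq_zero_iff_dvd.2 ((D.zeta_prim.pow_eq_one_iff_dvd _).1 hprod)

end Data

end Cfsg.Lib.PermGroups.UniqueDegree
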