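import Mathlib
import Cfsg.Agent.PermGroups.UniqueDegree.Rep

/-!
# A small module is determined by its weights
-/

set_option autoImplicit false
set_option linter.unusedSectionVars false

namespace Cfsg.Lib.PermGroups.UniqueDegree

namespace Loc

open Module

variable {G : Type*} [Group G] [Finite G] {p : ℕ} [Fact p.Prime] (L : Loc G p)
variable {k : Type*} [Field k] [CharP k p]
variable {H S : Type*} [AddCommGroup H] [Module k H] [AddCommGroup S] [Module k S]
  [FiniteDimensional k S] (σ : Representation k G H) (ρ : Representation k G S)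

/-- The eigenspace of `x`. -/
def wt (a : k) : Submodule k S := LinearMap.ker (ρ L.x - a • 1)

theorem mem_wt {a : k} {v : S} : v ∈ L.wt ρ a ↔ ρ L.x v = a • v := by
  rw [wt, LinearMap.mem_ker, LinearMap.sub_apply, LinearMap.smul_apply, Module.End.one_apply, sub_eq_zero]

theorem r_pow_pow (j : ℕ) : (ι k (L.r : ZMod p) ^ j) ^ orderOf L.r = 1 := by
  rw [pow_right_comm, L.ι_r_pow, one_pow]

theorem modEq_of_eq (i : ℕ) : p + i ≡ 1 + i [MOD orderOf L.r] := by
  have h : p = L.t * orderOf L.r + 1 := by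
    rw [L.t_mul, Nat.sub_add_cancel (Fact.out : p.Prime).one_le]
  refine Nat.ModEq.add_right _ ?_
  calc p = L.t * orderOf L.r + 1 := h
    _ ≡ 0 + 1 [MOD orderOf L.r] :=
      Nat.ModEq.add_right _ (Nat.modEq_zero_iff_dvd.2 (dvd_mul_left _ _))

theorem r_pow_pred : ι k (L.r : ZMod p) ^ (p - 1) = 1 := by
  rw [← L.t_mul, pow_mul, L.r_pow_pow]

theorem proj_mem_wt {a : k} (ha : a ^ orderOf L.r = 1) (v : S) : L.proj ρ a v ∈ L.wt ρ a :=
  (L.mem_wt ρ).2 (L.x_proj ρ ha v)

/-- A functional of given weight, killing an invariant subspace, nonzero at a given vector. -/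
theorem exists_functional (R : Submodule k S) (hR : ∀ v ∈ R, ρ L.x v ∈ R) {a : k}
    (ha : a ^ orderOf L.r = 1) {v : S} (hv : ρ L.x v = a • v) (hvR : v ∉ R) :
    ∃ f : S →ₗ[k] k, f v = 1 ∧ (∀ w ∈ R, f w = 0) ∧ ∀ w, f (ρ L.x w) = a * f w := by
  classical
  obtain ⟨f₀, hf₀v, hf₀R⟩ := Submodule.exists_dual_map_eq_bot_of_notMem hvR inferInstance
  have hp : ∀ w ∈ R, f₀ w = 0 := fun w hw => by
    have := Submodule.mem_map_of_mem (f := f₀) hw
    rwa [hf₀R, Submodule.mem_bot] at this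
  refine ⟨(f₀ v)⁻¹ • f₀ ∘ₗ L.proj ρ a, ?_, fun w hw => ?_, fun w => ?_⟩
  · rw [LinearMap.smul_apply, LinearMap.comp_apply, L.proj_of_eigen ρ ha ha hv, if_pos rfl,
      smul_eq_mul, inv_mul_cancel₀ hf₀v]
  · have hpow : ∀ i : ℕ, (ρ L.x ^ i) w ∈ R := fun i => by
      induction i with
      | zero => simpa using hw
      | succ i ih => rw [pow_succ', Module.End.mul_apply]; exact hR _ ih
    have hmem : L.proj ρ a w ∈ R := by
      simp only [proj, LinearMap.smul_apply, LinearMap.sum_apply]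
      exact R.smul_mem _ (R.sum_mem fun i _ => R.smul_mem _ (hpow i))
    rw [LinearMap.smul_apply, LinearMap.comp_apply, hp _ hmem, smul_zero]
  · have hc : L.proj ρ a * ρ L.x = ρ L.x * L.proj ρ a := by
      simp only [proj, Finset.mul_sum, Finset.sum_mul, smul_mul_assoc, mul_smul_comm,
        (Commute.self_pow (ρ L.x) _).eq]
    have h2 : L.proj ρ a (ρ L.x w) = a • L.proj ρ a w :=
      (LinearMap.congr_fun hc w).trans (L.x_proj ρ ha w)
    simp only [LinearMap.smul_apply, LinearMap.comp_apply, h2, map_smul, smul_eq_mul]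
    ring

theorem range_pow_stable (j : ℕ) : ∀ v ∈ LinearMap.range (L.U ρ ^ j), ρ L.x v ∈ LinearMap.range (L.U ρ ^ j) := by
  rintro _ ⟨w, rfl⟩
  rw [L.x_U_pow_comm]
  exact Submodule.smul_mem _ _ ⟨_, rfl⟩

/-- A module with one chain from weight `r` down to `r⁻¹`. -/
structure IsChain (b : H) : Prop where
  nilpotent : L.U σ ^ (p - 2) = 0
  top : σ L.x b = ι k (L.r : ZMod p) • b
  bottom : (L.U σ ^ (p - 3)) b ≠ 0

variable {b : H}

/-- Fixed vectors of the weight of the socle of the chain. -/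
theorem mem_range_of_socle_weight (hH : L.IsChain σ b)
    (hhom : ∀ f : S →ₗ[k] H, (∀ g, f ∘ₗ ρ g = σ g ∘ₗ f) → f = 0) {v : S}
    (hv : v ∈ L.wt ρ (ι k (L.r : ZMod p) ^ (p - 2))) (hUv : L.U ρ v = 0) :
    v ∈ LinearMap.range (L.U ρ ^ (p - 2)) := by
  classical
  by_contra hvR
  set ω := ι k (L.r : ZMod p) with hω
  set a := ω ^ (p - 2) with ha
  obtain ⟨f, hfv, hfR, hfx⟩ := L.exists_functional ρ _ (L.range_pow_stable ρ (p - 2))
    (L.r_pow_pow (p - 2)) ((L.mem_wt ρ).1 hv) hvR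
  have hp := L.p_odd
  let h : S →ₗ[k] H :=
    ∑ j ∈ Finset.range (p - 2), (f ∘ₗ (L.U ρ ^ j)).smulRight ((L.U σ ^ (p - 3 - j)) b)
  have happ : ∀ w, h w = ∑ j ∈ Finset.range (p - 2), f ((L.U ρ ^ j) w) • (L.U σ ^ (p - 3 - j)) b :=
    fun w => by simp [h, LinearMap.sum_apply, LinearMap.smulRight_apply]
  obtain ⟨n, hn⟩ : ∃ n, p - 2 = n + 1 := ⟨p - 3, by omega⟩
  have hn3 : p - 3 = n := by omega
  have hU : ∀ w, h (L.U ρ w) = L.U σ (h w) := fun w => by
    rw [happ, happ, map_sum, hn, Finset.sum_range_succ,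
      Finset.sum_range_succ' (fun j => L.U σ (f ((L.U ρ ^ j) w) • (L.U σ ^ (p - 3 - j)) b)) n]
    congr 1
    · refine Finset.sum_congr rfl fun j hj => ?_
      rw [Finset.mem_range] at hj
      rw [map_smul, ← Module.End.mul_apply (L.U ρ ^ j), ← pow_succ, ← Module.End.mul_apply (L.U σ),
        ← pow_succ', show p - 3 - (j + 1) + 1 = p - 3 - j by omega]
    · rw [← Module.End.mul_apply (L.U ρ ^ n), ← pow_succ, ← hn, hfR _ ⟨w, rfl⟩, zero_smul,
        map_smul, ← Module.End.mul_apply, ← pow_succ', show p - 3 - 0 + 1 = p - 2 by omega,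
        hH.nilpotent, LinearMap.zero_apply, smul_zero]
  have hx : ∀ w, h (ρ L.x w) = σ L.x (h w) := fun w => by
    rw [happ, happ, map_sum]
    refine Finset.sum_congr rfl fun j hj => ?_
    rw [Finset.mem_range] at hj
    rw [map_smul, L.x_U_pow σ (p - 3 - j) hH.top, smul_smul, ← hω]
    congr 1
    have h1 := congrArg f (L.x_U_pow_comm ρ j w)
    rw [hfx, map_smul, smul_eq_mul, ← hω] at h1
    have h2 : ω ^ j * (ω ^ (p - 3 - j) * ω) = a := by
      rw [← pow_succ, ← pow_add, ha]; congr 1; omega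
    refine mul_left_cancel₀ (pow_ne_zero j (L.ι_r_ne_zero (k := k))) ?_
    rw [← hω, ← h1, mul_left_comm (ω ^ j), h2, ha]
    ring
  obtain ⟨φ, hφ⟩ := L.exists_trace ρ σ hhom (L.isNMap_of ρ hU hx)
  have h0 : h v = (L.U σ ^ (p - 3)) b := by
    rw [happ, Finset.sum_eq_single 0]
    · rw [pow_zero, Module.End.one_apply, hfv, one_smul, Nat.sub_zero]
    · intro j _ hj
      obtain ⟨i, rfl⟩ : ∃ i, j = i + 1 := ⟨j - 1, by omega⟩
      rw [pow_succ, Module.End.mul_apply, hUv, map_zero, map_zero, zero_smul]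
    · intro h; exact absurd (Finset.mem_range.2 (by omega)) h
  refine hH.bottom ?_
  rw [← h0, hφ, LinearMap.sum_apply]
  have hfix : ∀ i : ℕ, ρ (L.y ^ i)⁻¹ v = v := fun i => by
    conv_lhs => rw [← L.y_fix ρ hUv i]
    rw [← Module.End.mul_apply, ← map_mul, inv_mul_cancel, map_one, Module.End.one_apply]
  simp only [LinearMap.comp_apply, hfix]
  rw [← LinearMap.sum_apply, L.sum_pow, show p - 1 = p - 2 + 1 by omega, pow_succ',
    L.nil_pow_eq_zero σ hH.nilpotent, mul_zero, LinearMap.zero_apply]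

/-- Fixed vectors of the weight of the head of the chain. -/
theorem mem_range_of_head_weight [FiniteDimensional k H] (hH : L.IsChain σ b)
    (hhom : ∀ f : H →ₗ[k] S, (∀ g, f ∘ₗ σ g = ρ g ∘ₗ f) → f = 0) {v : S}
    (hv : v ∈ L.wt ρ (ι k (L.r : ZMod p))) (hUv : L.U ρ v = 0) :
    v ∈ LinearMap.range (L.U ρ) := by
  classical
  by_contra hvR
  have hp := L.p_odd
  set ω := ι k (L.r : ZMod p) with hω
  have hωe : ω ^ orderOf L.r = 1 := L.ι_r_pow
  have hbR : b ∉ LinearMap.range (L.U σ) := by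
    rintro ⟨c, hc⟩
    refine hH.bottom ?_
    rw [← hc, ← Module.End.mul_apply, ← pow_succ, show p - 3 + 1 = p - 2 by omega, hH.nilpotent,
      LinearMap.zero_apply]
  have hstab : ∀ u ∈ LinearMap.range (L.U σ), σ L.x u ∈ LinearMap.range (L.U σ) := fun u hu => by
    simpa using L.range_pow_stable σ 1 u (by simpa using hu)
  obtain ⟨g, hgb, hgR, hgx⟩ := L.exists_functional σ _ hstab hωe hH.top hbR
  let h : H →ₗ[k] S := g.smulRight v
  have hU : ∀ w, h (L.U σ w) = L.U ρ (h w) := fun w => by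
    simp [h, hgR _ ⟨w, rfl⟩, map_smul, hUv]
  have hx : ∀ w, h (σ L.x w) = ρ L.x (h w) := fun w => by
    simp only [h, LinearMap.smulRight_apply, hgx, map_smul, (L.mem_wt ρ).1 hv, smul_smul]
    rw [mul_comm]
  obtain ⟨φ, hφ⟩ := L.exists_trace σ ρ hhom (L.isNMap_of σ hU hx)
  obtain ⟨f, hfv, hfR⟩ := Submodule.exists_dual_map_eq_bot_of_notMem hvR inferInstance
  have hfy : ∀ (i : ℕ) (w : S), f (ρ (L.y ^ i) w) = f w := fun i => by
    induction i with
    | zero => intro w; rw [pow_zero, map_one, Module.End.one_apply]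
    | succ i ih =>
      intro w
      rw [pow_succ, map_mul, Module.End.mul_apply, ih]
      have h1 := Submodule.mem_map_of_mem (f := f) (L.nil_mem_range ρ w)
      rw [hfR, Submodule.mem_bot, nil, LinearMap.sub_apply, Module.End.one_apply, map_sub,
        sub_eq_zero] at h1
      exact h1
  refine hfv ?_
  have h1 : f (h b) = f v := by simp [h, hgb]
  rw [← h1, hφ, LinearMap.sum_apply, map_sum]
  simp only [LinearMap.comp_apply, hfy]
  rw [← map_sum, ← map_sum, ← LinearMap.sum_apply]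
  have hsum : ∑ i ∈ Finset.range p, σ (L.y ^ i)⁻¹ = L.nil σ ^ (p - 1) := by
    rw [← L.sum_pow σ]
    refine Finset.sum_bij' (fun i _ => (p - i) % p) (fun i _ => (p - i) % p) ?_ ?_ ?_ ?_ ?_
    · intro i _; exact Finset.mem_range.2 (Nat.mod_lt _ (by omega))
    · intro i _; exact Finset.mem_range.2 (Nat.mod_lt _ (by omega))
    · intro i hi; rw [Finset.mem_range] at hi; rcases i with _ | i
      · simp
      · rw [Nat.mod_eq_of_lt (show p - (i + 1) < p by omega), Nat.mod_eq_of_lt (by omega)]; omega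
    · intro i hi; rw [Finset.mem_range] at hi; rcases i with _ | i
      · simp
      · rw [Nat.mod_eq_of_lt (show p - (i + 1) < p by omega), Nat.mod_eq_of_lt (by omega)]; omega
    · intro i hi
      rw [Finset.mem_range] at hi
      rw [← pow_eq_pow_mod _ L.y_pow_p, inv_eq_of_mul_eq_one_right (b := L.y ^ (p - i))]
      rw [← pow_add, Nat.add_sub_cancel' hi.le, L.y_pow_p]
  rw [hsum, show p - 1 = p - 2 + 1 by omega, pow_succ', L.nil_pow_eq_zero σ hH.nilpotent, mul_zero,
    LinearMap.zero_apply, map_zero, map_zero]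

/-- **The weights of a module without maps to or from the chain.** -/
theorem weight_contra [FiniteDimensional k H] (hH : L.IsChain σ b)
    (hhom₁ : ∀ f : S →ₗ[k] H, (∀ g, f ∘ₗ ρ g = σ g ∘ₗ f) → f = 0)
    (hhom₂ : ∀ f : H →ₗ[k] S, (∀ g, f ∘ₗ σ g = ρ g ∘ₗ f) → f = 0)
    (hdiff : finrank k (L.wt ρ 1) < finrank k (L.wt ρ (ι k (L.r : ZMod p) ^ (p - 2)))) :
    p ≤ finrank k S ∧
      (finrank k S ≤ p + 1 → finrank k (L.wt ρ (ι k (L.r : ZMod p))) ≤ L.t) := by
  classical
  have hp := L.p_odd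
  set ω := ι k (L.r : ZMod p) with hω
  set a := ω ^ (p - 2) with ha
  have hωe : ω ^ orderOf L.r = 1 := L.ι_r_pow
  have hae : a ^ orderOf L.r = 1 := L.r_pow_pow _
  have h1e : (1 : k) ^ orderOf L.r = 1 := one_pow _
  -- a chain of length `p`
  obtain ⟨x₀, hx₀, hx₀U⟩ : ∃ x₀ ∈ L.wt ρ a, (L.U ρ ^ (p - 1)) x₀ ≠ 0 := by
    by_contra hcon
    push Not at hcon
    let f : L.wt ρ a →ₗ[k] S := (L.U ρ).domRestrict (L.wt ρ a)
    let g : L.wt ρ 1 →ₗ[k] S := (L.U ρ ^ (p - 2)).domRestrict (L.wt ρ 1)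
    have hker : finrank k (LinearMap.ker f) ≤ finrank k (LinearMap.range g) := by
      rw [← Submodule.finrank_map_subtype_eq (L.wt ρ a) (LinearMap.ker f)]
      refine Submodule.finrank_mono ?_
      rintro _ ⟨⟨v, hv⟩, hvf, rfl⟩
      have hUv : L.U ρ v = 0 := hvf
      obtain ⟨s, hs⟩ := L.mem_range_of_socle_weight σ ρ hH hhom₁ hv hUv
      refine ⟨⟨L.proj ρ 1 s, L.proj_mem_wt ρ h1e s⟩, ?_⟩
      show (L.U ρ ^ (p - 2)) (L.proj ρ 1 s) = v
      rw [← L.proj_U_pow, mul_one, hs, L.proj_of_eigen ρ hae hae ((L.mem_wt ρ).1 hv), if_pos rfl]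
    have hrange : finrank k (LinearMap.range f) ≤ finrank k (LinearMap.ker g) := by
      rw [← Submodule.finrank_map_subtype_eq (L.wt ρ 1) (LinearMap.ker g)]
      refine Submodule.finrank_mono ?_
      rintro _ ⟨⟨v, hv⟩, rfl⟩
      have hmem : L.U ρ v ∈ L.wt ρ 1 := by
        rw [L.mem_wt, L.x_U_apply, (L.mem_wt ρ).1 hv, map_smul, smul_smul, ← hω, ha, ← pow_succ',
          show p - 2 + 1 = p - 1 by omega, L.r_pow_pred, one_smul]
      refine ⟨⟨L.U ρ v, hmem⟩, ?_, rfl⟩
      show (L.U ρ ^ (p - 2)) (L.U ρ v) = 0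
      rw [← Module.End.mul_apply, ← pow_succ, show p - 2 + 1 = p - 1 by omega]
      exact hcon v hv
    have e1 := f.finrank_range_add_finrank_ker
    have e2 := g.finrank_range_add_finrank_ker
    omega
  let v : Fin p → S := fun j => (L.U ρ ^ (j : ℕ)) x₀
  have hUp : ∀ n, p ≤ n → (L.U ρ ^ n) x₀ = 0 := fun n hn => by
    rw [← Nat.sub_add_cancel hn, pow_add, L.U_pow_p ρ, mul_zero, LinearMap.zero_apply]
  have hindep : LinearIndependent k v := by
    rw [Fintype.linearIndependent_iff]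
    intro c hc
    by_contra hne
    push Not at hne
    obtain ⟨j₁, hj₁⟩ := hne
    obtain ⟨j₀, hj₀, hmin⟩ : ∃ j₀ : Fin p, c j₀ ≠ 0 ∧ ∀ j : Fin p, j < j₀ → c j = 0 :=
      ⟨_, (Finset.mem_filter.1 ((Finset.univ.filter fun j => c j ≠ 0).min'_mem
        ⟨j₁, Finset.mem_filter.2 ⟨Finset.mem_univ _, hj₁⟩⟩)).2, fun j hj => by
        by_contra h
        exact (not_lt.2 (Finset.min'_le _ j (Finset.mem_filter.2 ⟨Finset.mem_univ _, h⟩))) hj⟩
    have h := congrArg (L.U ρ ^ (p - 1 - (j₀ : ℕ))) hc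
    rw [map_zero, map_sum, Finset.sum_eq_single j₀] at h
    · rw [map_smul] at h
      change c j₀ • ((L.U ρ ^ (p - 1 - (j₀ : ℕ))) ((L.U ρ ^ (j₀ : ℕ)) x₀)) = 0 at h
      rw [← Module.End.mul_apply, ← pow_add, Nat.sub_add_cancel (by omega)] at h
      exact (smul_eq_zero.1 h).elim hj₀ hx₀U
    · intro j _ hj
      rcases lt_or_gt_of_ne hj with h' | h'
      · rw [hmin j h', zero_smul, map_zero]
      · rw [map_smul, show v j = (L.U ρ ^ (j : ℕ)) x₀ from rfl, ← Module.End.mul_apply, ← pow_add,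
          hUp _ (by have := j.2; have : (j₀ : ℕ) < j := h'; omega), smul_zero]
    · simp
  have hdim : p ≤ finrank k S := by simpa using hindep.fintype_card_le_finrank
  refine ⟨hdim, fun hle => ?_⟩
  by_contra hlt
  push Not at hlt
  set C := Submodule.span k (Set.range v) with hC
  have hCdim : finrank k C = p := by rw [hC, finrank_span_eq_card hindep, Fintype.card_fin]
  have hvx : ∀ j : Fin p, ρ L.x (v j) = (ω ^ (j : ℕ) * a) • v j := fun j =>
    L.x_U_pow ρ j ((L.mem_wt ρ).1 hx₀)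
  have hCproj : ∀ c ∈ C, L.proj ρ ω c ∈ C ∧ L.proj ρ ω c ∈ Submodule.span k
      (v '' {j | ω ^ (j : ℕ) * a = ω}) := by
    intro c hc
    induction hc using Submodule.span_induction with
    | mem c hc =>
      obtain ⟨j, rfl⟩ := hc
      rw [L.proj_of_eigen ρ (by rw [mul_pow, L.r_pow_pow, hae, one_mul]) hωe (hvx j)]
      split_ifs with h
      · exact ⟨Submodule.subset_span ⟨j, rfl⟩, Submodule.subset_span ⟨j, h, rfl⟩⟩
      · exact ⟨Submodule.zero_mem _, Submodule.zero_mem _⟩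
    | zero => simp
    | add c d _ _ h1 h2 => rw [map_add]; exact ⟨add_mem h1.1 h2.1, add_mem h1.2 h2.2⟩
    | smul s c _ h1 => rw [map_smul]; exact ⟨Submodule.smul_mem _ _ h1.1, Submodule.smul_mem _ _ h1.2⟩
  have hcount : finrank k (Submodule.span k (v '' {j | ω ^ (j : ℕ) * a = ω})) ≤ L.t := by
    refine le_trans (finrank_span_le_card _) ?_
    rw [Set.toFinset_image, show L.t = (Finset.range L.t).card from (Finset.card_range _).symm]
    refine Finset.card_image_le.trans (Finset.card_le_card_of_injOn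
      (fun j : Fin p => (j : ℕ) / orderOf L.r) ?_ ?_)
    · intro j hj
      simp only [Set.coe_toFinset, Set.mem_ofPred_eq] at hj
      simp only [Finset.coe_range, Set.mem_Iio]
      have hmod : (j : ℕ) % orderOf L.r = 2 := by
        have h1 : (j : ℕ) + (p - 2) ≡ 1 [MOD orderOf L.r] := by
          rw [← L.ι_r_pow_eq_iff (k := k), pow_add, pow_one]; exact hj
        have h2 : p + (j : ℕ) ≡ 1 + (j : ℕ) [MOD orderOf L.r] := L.modEq_of_eq _
        have h3 : 1 + (j : ℕ) ≡ 3 [MOD orderOf L.r] := by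
          refine h2.symm.trans ?_
          rw [show p + (j : ℕ) = (j : ℕ) + (p - 2) + 2 by omega]
          exact h1.add_right 2
        have h4 : (j : ℕ) ≡ 2 [MOD orderOf L.r] :=
          Nat.ModEq.add_left_cancel' 1 h3
        exact Eq.trans h4 (Nat.mod_eq_of_lt (by have := L.three_le; omega))
      rw [Nat.div_lt_iff_lt_mul (orderOf_pos _), L.t_mul]
      refine lt_of_le_of_ne (by have := j.2; omega) fun hj1 => ?_
      rw [hj1, ← L.t_mul, Nat.mul_mod_left] at hmod
      omega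
    · intro i hi j hj hij
      simp only [Set.coe_toFinset, Set.mem_ofPred_eq] at hi hj
      have hij' : ω ^ (i : ℕ) = ω ^ (j : ℕ) :=
        mul_right_cancel₀ (pow_ne_zero _ (L.ι_r_ne_zero (k := k))) (hi.trans hj.symm)
      rw [L.ι_r_pow_eq_iff (k := k)] at hij'
      apply Fin.ext
      rw [← Nat.div_add_mod (i : ℕ) (orderOf L.r), ← Nat.div_add_mod (j : ℕ) (orderOf L.r)]
      simp only at hij
      rw [hij, hij']
  obtain ⟨z, hz, hzC⟩ : ∃ z ∈ L.wt ρ ω, z ∉ C := by
    by_contra hcon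
    push Not at hcon
    have hsub : L.wt ρ ω ≤ Submodule.span k (v '' {j | ω ^ (j : ℕ) * a = ω}) := fun w hw => by
      have := (hCproj w (hcon w hw)).2
      rwa [L.proj_of_eigen ρ hωe hωe ((L.mem_wt ρ).1 hw), if_pos rfl] at this
    have := Submodule.finrank_mono hsub
    omega
  have hsup : C ⊔ Submodule.span k {z} = ⊤ := by
    refine Submodule.eq_top_of_finrank_eq (le_antisymm (Submodule.finrank_le _) ?_)
    refine hle.trans ?_
    rw [← hCdim]
    exact Submodule.finrank_lt_finrank_of_lt (lt_of_le_of_ne le_sup_left fun h => hzC (h ▸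
      Submodule.mem_sup_right (Submodule.mem_span_singleton_self z)))
  have hUC : ∀ c ∈ C, L.U ρ c ∈ C := fun c hc => by
    refine (Submodule.span_le.2 ?_ : C ≤ C.comap (L.U ρ)) hc
    rintro _ ⟨j, rfl⟩
    show L.U ρ ((L.U ρ ^ (j : ℕ)) x₀) ∈ C
    rw [← Module.End.mul_apply, ← pow_succ']
    by_cases h : (j : ℕ) + 1 < p
    · exact Submodule.subset_span ⟨⟨_, h⟩, rfl⟩
    · rw [hUp _ (not_lt.1 h)]; exact C.zero_mem
  obtain ⟨c₀, hc₀, w, hw, hUz⟩ := Submodule.mem_sup.1 (hsup ▸ (Submodule.mem_top (x := L.U ρ z)))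
  obtain ⟨s, rfl⟩ := Submodule.mem_span_singleton.1 hw
  have hs : s = 0 := by
    have hpow : ∀ n : ℕ, (L.U ρ ^ n) z - s ^ n • z ∈ C := fun n => by
      induction n with
      | zero => simp
      | succ n ih =>
        have := C.add_mem (hUC _ ih) (C.smul_mem (s ^ n) hc₀)
        rw [map_sub, map_smul, ← hUz, smul_add, ← Module.End.mul_apply, ← pow_succ'] at this
        convert this using 1
        rw [smul_smul, ← pow_succ]
        abel
    have := hpow p
    rw [L.U_pow_p ρ, LinearMap.zero_apply, zero_sub, neg_mem_iff] at this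
    by_contra hs0
    exact hzC ((Submodule.smul_mem_iff C (pow_ne_zero p hs0)).1 this)
  rw [hs, zero_smul, add_zero] at hUz
  -- write `U z` as the image of an element of the chain
  obtain ⟨c, hc⟩ := (Submodule.mem_span_range_iff_exists_fun k).1 hc₀
  let j₀ : Fin p := ⟨0, by omega⟩
  have hc0 : c j₀ = 0 := by
    have h := congrArg (L.U ρ ^ (p - 1)) hc
    rw [hUz, ← Module.End.mul_apply, ← pow_succ, Nat.sub_add_cancel (by omega), L.U_pow_p ρ,
      LinearMap.zero_apply, map_sum, Finset.sum_eq_single j₀] at h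
    · rw [map_smul] at h
      exact (smul_eq_zero.1 h).elim id fun h' => absurd h' (by simpa [v, j₀] using hx₀U)
    · intro j _ hj
      rw [map_smul, show v j = (L.U ρ ^ (j : ℕ)) x₀ from rfl, ← Module.End.mul_apply, ← pow_add,
        hUp _ (by have : (j : ℕ) ≠ 0 := fun h => hj (Fin.ext h); omega), smul_zero]
    · simp
  let d : S := ∑ j : Fin p, c j • if (j : ℕ) = 0 then 0 else (L.U ρ ^ ((j : ℕ) - 1)) x₀
  have hd : L.U ρ d = L.U ρ z := by
    rw [← hUz, ← hc, map_sum]
    refine Finset.sum_congr rfl fun j _ => ?_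
    rw [map_smul]
    by_cases hj : (j : ℕ) = 0
    · rw [show j = j₀ from Fin.ext hj, hc0, zero_smul, zero_smul]
    · rw [if_neg hj, ← Module.End.mul_apply, ← pow_succ', Nat.sub_add_cancel (by omega)]
  have hdC : d ∈ C := C.sum_mem fun j _ => C.smul_mem _ (by
    split_ifs with h
    · exact C.zero_mem
    · exact Submodule.subset_span ⟨⟨(j : ℕ) - 1, by have := j.2; omega⟩, rfl⟩)
  have hker : L.U ρ (L.proj ρ ω (z - d)) = 0 := by
    rw [← L.proj_U, map_sub, hd, sub_self, map_zero]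
  obtain ⟨u, hu⟩ := L.mem_range_of_head_weight σ ρ hH hhom₂ (L.proj_mem_wt ρ hωe (z - d)) hker
  obtain ⟨c₁, hc₁, w₁, hw₁, hu'⟩ := Submodule.mem_sup.1 (hsup ▸ (Submodule.mem_top (x := u)))
  obtain ⟨s₁, rfl⟩ := Submodule.mem_span_singleton.1 hw₁
  rw [← hu', map_add, map_smul, ← hUz, map_sub, L.proj_of_eigen ρ hωe hωe ((L.mem_wt ρ).1 hz),
    if_pos rfl] at hu
  refine hzC ?_
  have := C.add_mem (C.add_mem (hUC _ hc₁) (C.smul_mem s₁ hc₀)) (hCproj d hdC).1
  rwa [hu, sub_add_cancel] at this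

end Loc

end Cfsg.Lib.PermGroups.UniqueDegree
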