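import Mathlib
import Cfsg.Agent.S0674
import Cfsg.Agent.PermGroups.UniqueDegree.Weights
import Cfsg.Agent.PermGroups.UniqueDegree.Theta

/-!
# The heart of the permutation module

The sum-zero functions modulo constants, realised as functions on pairs, form a simple module.
In coordinates the weight operator lowers the degree of a monomial, so the heart has one chain.
-/

set_option autoImplicit false
set_option linter.unusedSectionVars false
set_option linter.style.haveILetI false

namespace Cfsg.Lib.PermGroups.UniqueDegree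

open scoped Classical

/-- The trace on a module through a subspace and the quotient. -/
theorem trace_of_split {k V W Q : Type*} [Field k] [AddCommGroup V] [Module k V] [FiniteDimensional k V]
    [AddCommGroup W] [Module k W] [FiniteDimensional k W] [AddCommGroup Q] [Module k Q] [FiniteDimensional k Q]
    (ι : W →ₗ[k] V) (q : V →ₗ[k] W) (π : V →ₗ[k] Q) (s : Q →ₗ[k] V)
    (hqι : ∀ w, q (ι w) = w) (hπs : ∀ z, π (s z) = z) (hsum : ∀ v, ι (q v) + s (π v) = v)
    (f : V →ₗ[k] V) (g : W →ₗ[k] W) (h : Q →ₗ[k] Q) (hg : ∀ w, f (ι w) = ι (g w))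
    (hh : ∀ v, π (f v) = h (π v)) :
    LinearMap.trace k V f = LinearMap.trace k W g + LinearMap.trace k Q h := by
  have hf : f = (f ∘ₗ ι) ∘ₗ q + (f ∘ₗ s) ∘ₗ π := LinearMap.ext fun v => by
    simp [← map_add, hsum]
  have hgW : q ∘ₗ f ∘ₗ ι = g := LinearMap.ext fun w => by simp [hg, hqι]
  have hhQ : π ∘ₗ f ∘ₗ s = h := LinearMap.ext fun z => by simp [hh, hπs]
  conv_lhs => rw [hf, map_add]
  rw [LinearMap.trace_comp_comm', LinearMap.trace_comp_comm' π, hgW, hhQ]

theorem trace_permRep {k : Type*} [Field k] {G : Type*} [Group G] {Ω : Type*} [Fintype Ω]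
    [MulAction G Ω] (g : G) :
    LinearMap.trace k (Ω → k) (Cfsg.permRep k G Ω g) = (Nat.card (MulAction.fixedBy Ω g) : k) := by
  rw [LinearMap.trace_eq_matrix_trace k (Pi.basisFun k Ω)]
  simp only [Matrix.trace, Matrix.diag_apply, LinearMap.toMatrix_apply, Pi.basisFun_apply,
    Pi.basisFun_repr]
  rw [Finset.sum_congr rfl (g := fun x => if g⁻¹ • x = x then (1 : k) else 0) (fun x _ => by
    show (Pi.single x 1 : Ω → k) (g⁻¹ • x) = _
    simp [Pi.single_apply, eq_comm]), Finset.sum_boole]
  rw [Nat.card_eq_fintype_card, ← Set.toFinset_card]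
  congr 2
  ext x
  simp only [Set.mem_toFinset, MulAction.mem_fixedBy, Finset.mem_filter, Finset.mem_univ, true_and]
  rw [inv_smul_eq_iff, eq_comm]

/-- A map over the group commutes with the weight operator. -/
theorem Loc.U_map {G : Type*} [Group G] [Finite G] {p : ℕ} [Fact p.Prime] (L : Loc G p) {k : Type*}
    [Field k] [CharP k p] {V W : Type*} [AddCommGroup V] [Module k V] [AddCommGroup W] [Module k W]
    {ρ : Representation k G V} {σ : Representation k G W} (h : V →ₗ[k] W)
    (hh : ∀ g v, h (ρ g v) = σ g (h v)) (v : V) : h (L.U ρ v) = L.U σ (h v) := by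
  simp only [Loc.U, LinearMap.sum_apply, LinearMap.smul_apply, map_sum, map_smul, hh]

namespace Data

open Loc (ι)

variable {α : Type*} [Fintype α] [DecidableEq α] {p : ℕ} [Fact p.Prime]
  {G : Subgroup (Equiv.Perm α)} [Fintype G] (D : Data G p)

include D in
theorem card_alpha : Fintype.card α = p := by
  rw [← Fintype.card_congr D.e, ZMod.card]

theorem orderOf_y : orderOf D.y = p := by
  rw [← Subgroup.orderOf_coe]; exact Cfsg.Lib.PermGroups.PrimeDegree.orderOf_coord D.act_y

theorem y_pow_apply (n : ℕ) (i : ZMod p) :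
    ((D.y ^ n : G) : Equiv.Perm α) (D.e i) = D.e (i + n) := by
  induction n generalizing i with
  | zero => simp
  | succ n ih =>
    rw [pow_succ, Subgroup.coe_mul, Equiv.Perm.mul_apply, D.act_y, ih, Nat.cast_succ,
      add_assoc, add_comm (1 : ZMod p)]

include D in
theorem transitive : MulAction.IsPretransitive G α := ⟨fun a b => by
  obtain ⟨i, rfl⟩ := D.e.surjective a
  obtain ⟨j, rfl⟩ := D.e.surjective b
  refine ⟨D.y ^ (j - i).val, ?_⟩
  show ((D.y ^ (j - i).val : G) : Equiv.Perm α) (D.e i) = _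
  rw [D.y_pow_apply, ZMod.natCast_zmod_val, add_sub_cancel]⟩

include D in
theorem p_gt_two (h3 : 3 ≤ D.ne) : 2 < p := by
  have h1 : D.ne ∣ p - 1 := D.order_dvd
  have h2 := (Fact.out : p.Prime).two_le
  have := Nat.le_of_dvd (by omega) h1
  omega

theorem y_norm (g : G) (hg : g⁻¹ * D.y * g ∈ Subgroup.closure {D.x, D.y}) :
    g ∈ Subgroup.closure {D.x, D.y} := by
  rw [← D.norm] at hg ⊢
  set P := Subgroup.zpowers D.y with hP
  set Q := Subgroup.zpowers (g⁻¹ * D.y * g) with hQ
  have ho : orderOf (g⁻¹ * D.y * g) = p := by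
    have := orderOf_injective (MulAut.conj g⁻¹).toMonoidHom (MulAut.conj g⁻¹).injective D.y
    simp only [MulEquiv.toMonoidHom_eq_coe, MonoidHom.coe_coe, MulAut.conj_apply, inv_inv] at this
    rw [this, D.orderOf_y]
  have hPp : IsPGroup p P := IsPGroup.of_card (n := 1) (by rw [Nat.card_zpowers, D.orderOf_y, pow_one])
  have hQp : IsPGroup p Q := IsPGroup.of_card (n := 1) (by rw [Nat.card_zpowers, ho, pow_one])
  have hle : Q ≤ Subgroup.normalizer (P : Set G) := Subgroup.zpowers_le.2 hg
  have hsup := IsPGroup.to_sup_of_normal_right' hQp hPp hle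
  obtain ⟨n, hn⟩ := IsPGroup.iff_card.1 hsup
  have hdvd : p ^ n ∣ p.factorial := by
    rw [← hn]
    refine ((Q ⊔ P).card_subgroup_dvd_card).trans ((G.card_subgroup_dvd_card).trans ?_)
    rw [Nat.card_perm, Nat.card_eq_fintype_card, D.card_alpha]
  have hn1 : n ≤ 1 := by
    by_contra hcon
    have h2 : p ^ 2 ∣ p.factorial := (pow_dvd_pow p (by omega)).trans hdvd
    rw [← Nat.mul_factorial_pred (Fact.out : p.Prime).ne_zero, pow_two] at h2
    have h3 := Nat.dvd_of_mul_dvd_mul_left (Fact.out : p.Prime).pos h2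
    have := ((Fact.out : p.Prime).dvd_factorial).1 h3
    have := (Fact.out : p.Prime).pos
    omega
  have hcard : Nat.card (Q ⊔ P : Subgroup G) ≤ p := by
    rw [hn]
    calc p ^ n ≤ p ^ 1 := Nat.pow_le_pow_right (Fact.out : p.Prime).pos hn1
      _ = p := pow_one p
  have hPeq : P = Q ⊔ P := Subgroup.eq_of_le_of_card_ge le_sup_right (by
    rwa [Nat.card_zpowers, D.orderOf_y])
  have hQP : Q = P := Subgroup.eq_of_le_of_card_ge (hPeq ▸ le_sup_left) (by
    rw [Nat.card_zpowers, Nat.card_zpowers, D.orderOf_y, ho])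
  have hmap : P.map (MulAut.conj g⁻¹).toMonoidHom = P := by
    rw [hP, MonoidHom.map_zpowers]
    refine Eq.trans ?_ hQP
    rw [hQ]
    simp [MulAut.conj_apply]
  rw [Subgroup.mem_normalizer_iff]
  intro w
  constructor
  · intro h
    rw [← hmap] at h
    obtain ⟨z, hz, rfl⟩ := h
    simpa [MulAut.conj_apply, mul_assoc] using hz
  · intro h
    have h1 : (MulAut.conj g⁻¹).toMonoidHom (g * w * g⁻¹) ∈ P := by
      rw [← hmap]; exact Subgroup.mem_map_of_mem _ h
    simpa [MulAut.conj_apply, mul_assoc] using h1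

/-- The local data. -/
def loc (h3 : 3 ≤ D.ne) : Loc G p where
  y := D.y
  x := D.x
  r := D.r
  p_odd := D.p_gt_two h3
  order_y := D.orderOf_y
  conj_y := by
    refine mul_inv_eq_iff_eq_mul.2 (Subtype.ext (Equiv.ext fun z => ?_))
    obtain ⟨i, rfl⟩ := D.e.surjective z
    simp only [Subgroup.coe_mul, Equiv.Perm.mul_apply]
    rw [D.act_y, D.act_x, D.act_x, D.y_pow_apply, ZMod.natCast_zmod_val, mul_add, mul_one]
  x_pow := by rw [D.orderOf_r]; exact pow_orderOf_eq_one _
  three_le := by rw [D.orderOf_r]; exact h3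
  norm := D.y_norm

variable (k : Type*) [Field k] [CharP k p]

/-- Differences of values. -/
def diffMap : (α → k) →ₗ[k] (α × α → k) :=
  LinearMap.funLeft k k Prod.fst - LinearMap.funLeft k k Prod.snd

theorem diffMap_apply (f : α → k) (z : α × α) : diffMap k f z = f z.1 - f z.2 := rfl

theorem diffMap_equiv (g : G) (f : α → k) :
    diffMap k (Cfsg.permRep k G α g f) = Cfsg.permRep k G (α × α) g (diffMap k f) := rfl

theorem diffMap_eq_zero {f : α → k} (h : diffMap k f = 0) (a₀ : α) :
    f ∈ (Cfsg.permConstants k G α).toSubmodule :=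
  Submodule.mem_span_singleton.2 ⟨f a₀, funext fun a => by
    have := congrFun h (a, a₀)
    rw [diffMap_apply, Pi.zero_apply, sub_eq_zero] at this
    simp [this]⟩

/-- The heart. -/
noncomputable def heartSub : Subrepresentation (Cfsg.permRep k G (α × α)) where
  toSubmodule := (Cfsg.permSumZero k G α).toSubmodule.map (diffMap k)
  apply_mem_toSubmodule g v hv := by
    obtain ⟨f, hf, rfl⟩ := hv
    exact ⟨_, (Cfsg.permSumZero k G α).apply_mem_toSubmodule g hf, diffMap_equiv k g f⟩

/-- The space of the heart. -/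
abbrev HS : Type _ := ↥(heartSub (G := G) (α := α) k).toSubmodule

/-- The representation on the heart. -/
noncomputable def heartRep : Representation k G (HS (G := G) (α := α) k) :=
  (heartSub (G := G) k).toRepresentation

/-- The projection to the heart. -/
noncomputable def toHeart :
    (Cfsg.permSumZero k G α).toSubmodule →ₗ[k] HS (G := G) (α := α) k :=
  (diffMap k ∘ₗ (Cfsg.permSumZero k G α).toSubmodule.subtype).codRestrict _
    fun f => Submodule.mem_map_of_mem f.2

theorem toHeart_surjective : Function.Surjective (toHeart (G := G) (α := α) k) := by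
  rintro ⟨v, f, hf, rfl⟩
  exact ⟨⟨f, hf⟩, rfl⟩

include D in
theorem finrank_heart_lt : Module.finrank k (HS (G := G) (α := α) k) < p := by
  refine lt_of_le_of_lt (b := Module.finrank k (Cfsg.permSumZero k G α).toSubmodule) ?_ ?_
  · have h := (toHeart (G := G) (α := α) k).finrank_range_le
    rwa [LinearMap.range_eq_top.2 (toHeart_surjective (G := G) (α := α) k), finrank_top] at h
  have hne : (Cfsg.permSumZero k G α).toSubmodule ≠ ⊤ := fun h => by
    obtain ⟨a⟩ : Nonempty α := Fintype.card_pos_iff.1 (by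
      rw [D.card_alpha]; exact (Fact.out : p.Prime).pos)
    have h1 : (Pi.single a (1 : k) : α → k) ∈ (Cfsg.permSumZero k G α).toSubmodule := h ▸ trivial
    have h2 : ∑ x, (Pi.single a (1 : k) : α → k) x = 0 := h1
    rw [Finset.sum_pi_single', if_pos (Finset.mem_univ _)] at h2
    exact one_ne_zero h2
  have := Submodule.finrank_lt hne
  rwa [Module.finrank_fintype_fun_eq_card, D.card_alpha] at this

include D in
theorem sum_const (c : k) : ∑ _a : α, c = 0 := by
  rw [Finset.sum_const, Finset.card_univ, D.card_alpha, nsmul_eq_mul, CharP.cast_eq_zero, zero_mul]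

include D in
theorem heart_simple (Y : Submodule k (HS (G := G) (α := α) k))
    (hY : ∀ g : G, ∀ v ∈ Y, heartRep k g v ∈ Y) : Y = ⊥ ∨ Y = ⊤ := by
  haveI := D.transitive
  let W : Subrepresentation (Cfsg.permRep k G α) :=
    { toSubmodule := (Y.comap (toHeart (G := G) k)).map (Cfsg.permSumZero k G α).toSubmodule.subtype
      apply_mem_toSubmodule := fun g v hv => by
        obtain ⟨f, hf, rfl⟩ := hv
        exact ⟨⟨_, (Cfsg.permSumZero k G α).apply_mem_toSubmodule g f.2⟩, hY g _ hf, rfl⟩ }
  have hone : (fun _ => (1 : k)) ∈ (Cfsg.permSumZero k G α).toSubmodule := D.sum_const k 1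
  have h1 : (Cfsg.permConstants k G α).toSubmodule ≤ W.toSubmodule := by
    refine (Submodule.span_singleton_le_iff_mem _ _).2 ⟨⟨_, hone⟩, ?_, rfl⟩
    show toHeart k ⟨_, hone⟩ ∈ Y
    convert Y.zero_mem
    exact Subtype.ext (funext fun z => sub_self (1 : k))
  have h2 : W.toSubmodule ≤ (Cfsg.permSumZero k G α).toSubmodule := by
    rintro _ ⟨f, -, rfl⟩; exact f.2
  rcases Cfsg.Agent.S0674.result D.card_alpha G D.nonsolvable W h1 h2 with h | h
  · left
    refine (Submodule.eq_bot_iff _).2 fun v hv => ?_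
    obtain ⟨f, rfl⟩ := toHeart_surjective (G := G) (α := α) k v
    have hf : (f : α → k) ∈ W.toSubmodule := ⟨f, hv, rfl⟩
    rw [h] at hf
    obtain ⟨c, hc⟩ := Submodule.mem_span_singleton.1 hf
    refine Subtype.ext (funext fun z => ?_)
    show (f : α → k) z.1 - (f : α → k) z.2 = 0
    rw [← hc]; simp
  · right
    refine eq_top_iff.2 fun v _ => ?_
    obtain ⟨f, rfl⟩ := toHeart_surjective (G := G) (α := α) k v
    have hf : (f : α → k) ∈ W.toSubmodule := by rw [h]; exact f.2
    obtain ⟨f', hf', he⟩ := hf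
    rwa [show f' = f from Subtype.ext he] at hf'

include D in
theorem trace_heartRep (g : G) :
    LinearMap.trace k _ (heartRep (G := G) (α := α) k g) = (Nat.card (MulAction.fixedBy α g) : k) - 2 := by
  obtain ⟨a₀⟩ : Nonempty α := Fintype.card_pos_iff.1 (by
    rw [D.card_alpha]; exact (Fact.out : p.Prime).pos)
  set Z := (Cfsg.permSumZero k G α).toSubmodule
  have hZ : ∀ v, v ∈ Z ↔ ∑ x, v x = 0 := fun v => Iff.rfl
  let sumMap : (α → k) →ₗ[k] k := ∑ a, LinearMap.proj a
  have hsum : ∀ v, sumMap v = ∑ a, v a := fun v => by simp [sumMap]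
  let δ : α → k := Pi.single a₀ 1
  have hδ : ∑ a, δ a = 1 := by simp [δ]
  let q : (α → k) →ₗ[k] Z := (LinearMap.id - LinearMap.smulRight sumMap δ).codRestrict Z fun v => by
    rw [hZ]
    simp [hsum, Finset.sum_sub_distrib, ← Finset.mul_sum, hδ]
  let gZ : Z →ₗ[k] Z := (Cfsg.permRep k G α g).restrict
    fun v hv => (Cfsg.permSumZero k G α).apply_mem_toSubmodule g hv
  have e1 := trace_of_split Z.subtype q sumMap (LinearMap.smulRight LinearMap.id δ)
    (fun w => Subtype.ext (by
      show (w : α → k) - sumMap w • δ = w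
      rw [hsum, (hZ _).1 w.2, zero_smul, sub_zero]))
    (fun z => by rw [hsum]; simp [← Finset.mul_sum, hδ])
    (fun v => by
      show (v - sumMap v • δ) + sumMap v • δ = v
      rw [sub_add_cancel])
    (Cfsg.permRep k G α g) gZ LinearMap.id (fun w => rfl)
    (fun v => by
      rw [LinearMap.id_apply, hsum, hsum]
      exact Fintype.sum_equiv (MulAction.toPerm g⁻¹) _ _ (fun x => rfl))
  let ι₀ : k →ₗ[k] Z := (LinearMap.smulRight LinearMap.id (fun _ => 1 : α → k)).codRestrict Z fun c => by
    rw [hZ]; simp [D.sum_const k c]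
  let q₀ : Z →ₗ[k] k := LinearMap.proj a₀ ∘ₗ Z.subtype
  let s₀ : HS (G := G) (α := α) k →ₗ[k] Z :=
    ((LinearMap.funLeft k k fun a : α => (a, a₀)) ∘ₗ
      (heartSub (G := G) k).toSubmodule.subtype).codRestrict Z fun v => by
      obtain ⟨_, f, hf, rfl⟩ := v
      rw [hZ]
      show ∑ a, (f a - f a₀) = 0
      rw [Finset.sum_sub_distrib, D.sum_const k, (hZ f).1 hf, sub_zero]
  have e2 := trace_of_split ι₀ q₀ (toHeart (G := G) k) s₀
    (fun c => by show c * 1 = c; rw [mul_one])
    (fun v => by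
      obtain ⟨_, f, hf, rfl⟩ := v
      refine Subtype.ext (funext fun z => ?_)
      show (f z.1 - f a₀) - (f z.2 - f a₀) = f z.1 - f z.2
      ring)
    (fun v => Subtype.ext (funext fun a => by
      show (v : α → k) a₀ * 1 + ((v : α → k) a - (v : α → k) a₀) = (v : α → k) a
      ring))
    gZ LinearMap.id (heartRep k g) (fun c => Subtype.ext (funext fun a => rfl))
    (fun v => rfl)
  rw [e2, LinearMap.trace_id, Module.finrank_self, Nat.cast_one, trace_permRep] at e1
  linear_combination -e1

/-- The monomial in coordinates. -/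
def mono (m : ℕ) : α → k := fun a => ι k (D.e.symm a ^ m)

theorem mono_apply (m : ℕ) (i : ZMod p) : D.mono k m (D.e i) = ι k (i ^ m) := by
  simp [mono]

theorem mono_mem {m : ℕ} (hm : m + 2 ≤ p) : D.mono k m ∈ (Cfsg.permSumZero k G α).toSubmodule := by
  show ∑ a, D.mono k m a = 0
  rw [← Fintype.sum_equiv D.e (fun i => ι k (i ^ m)) (D.mono k m) fun i => (D.mono_apply k m i).symm,
    ← map_sum, FiniteField.sum_pow_lt_card_sub_one (ZMod p) m (by rw [ZMod.card]; omega), map_zero]

theorem U_mono (h3 : 3 ≤ D.ne) {m : ℕ} (hm : m + 2 ≤ p) :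
    (D.loc h3).U (Cfsg.permRep k G α) (D.mono k m) = (m : k) • D.mono k (m - 1) := by
  have hp := (Fact.out : p.Prime)
  funext a
  obtain ⟨i, rfl⟩ := D.e.surjective a
  have hy : ∀ c : (ZMod p)ˣ,
      Cfsg.permRep k G α (D.y ^ (c : ZMod p).val) (D.mono k m) (D.e i) = ι k ((i - c) ^ m) := by
    intro c
    show D.mono k m (((D.y ^ (c : ZMod p).val)⁻¹ : G) • D.e i) = _
    rw [← D.mono_apply k m (i - c)]
    congr 1
    rw [inv_smul_eq_iff]
    show _ = ((D.y ^ (c : ZMod p).val : G) : Equiv.Perm α) _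
    rw [D.y_pow_apply, ZMod.natCast_zmod_val, sub_add_cancel]
  simp only [Loc.U, LinearMap.sum_apply, LinearMap.smul_apply, Finset.sum_apply, Pi.smul_apply,
    smul_eq_mul, D.mono_apply, show (D.loc h3).y = D.y from rfl, hy, ← map_mul, ← map_sum,
    ← map_natCast (ι k (p := p))]
  congr 1
  have hc : ∀ c : (ZMod p)ˣ, ((c⁻¹ : (ZMod p)ˣ) : ZMod p) = (c : ZMod p) ^ (p - 2) := fun c => by
    have h : (c : ZMod p) ^ (p - 2) * (c : ZMod p) = 1 := by
      rw [← pow_succ, show p - 2 + 1 = p - 1 by have := D.p_gt_two h3; omega,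
        ZMod.pow_card_sub_one_eq_one c.ne_zero]
    exact (Units.eq_inv_of_mul_eq_one_left (by rw [mul_comm]; exact h)).symm
  simp only [hc, sub_eq_add_neg i, add_pow, Finset.mul_sum]
  rw [Finset.sum_comm]
  have hterm : ∀ j ∈ Finset.range (m + 1), ∑ c : (ZMod p)ˣ,
      (c : ZMod p) ^ (p - 2) * (i ^ j * (-(c : ZMod p)) ^ (m - j) * (m.choose j : ZMod p)) =
      if m - j = 1 then (m : ZMod p) * i ^ (m - 1) else 0 := by
    intro j hj
    have hj' := Finset.mem_range.1 hj
    have h1 : ∀ c : (ZMod p)ˣ, (c : ZMod p) ^ (p - 2) * (i ^ j * (-(c : ZMod p)) ^ (m - j) * (m.choose j : ZMod p)) =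
        ((c ^ (p - 2 + (m - j)) : (ZMod p)ˣ) : ZMod p) * (i ^ j * (-1) ^ (m - j) * (m.choose j : ZMod p)) := fun c => by
      rw [Units.val_pow_eq_pow_val, neg_pow, pow_add]; ring
    rw [Finset.sum_congr rfl fun c _ => h1 c, ← Finset.sum_mul]
    have h2 := FiniteField.sum_pow_units (K := ZMod p) (p - 2 + (m - j))
    rw [ZMod.card] at h2
    simp only [Units.val_pow_eq_pow_val] at h2 ⊢
    rw [h2]
    by_cases he : m - j = 1
    · have hjm : j = m - 1 := by omega
      rw [if_pos he, if_pos (by rw [he, show p - 2 + 1 = p - 1 by omega]), he, hjm,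
        Nat.choose_symm (n := m) (k := 1) (by omega), Nat.choose_one_right]
      ring
    · rw [if_neg he, if_neg, zero_mul]
      have := D.p_gt_two h3
      intro hd
      obtain ⟨q, hq⟩ := hd
      rcases Nat.eq_zero_or_pos (m - j) with h0 | h0
      · rw [h0, add_zero] at hq
        rcases q with - | q
        · omega
        · have := Nat.le_mul_of_pos_right (p - 1) (show 0 < q + 1 by omega)
          omega
      · rcases q with - | - | q
        · omega
        · omega
        · have : (p - 1) * 2 ≤ (p - 1) * (q + 1 + 1) := Nat.mul_le_mul_left _ (by omega)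
          omega
  rw [Finset.sum_congr rfl hterm]
  rcases Nat.eq_zero_or_pos m with h0 | h0
  · subst h0; simp
  · rw [Finset.sum_eq_single (m - 1) (fun j hj hne => if_neg (by
      have := Finset.mem_range.1 hj; omega)) (fun h => absurd (Finset.mem_range.2 (by omega)) h),
      if_pos (by omega)]

/-- The element of the heart given by a monomial. -/
noncomputable def hmono {m : ℕ} (hm : m + 2 ≤ p) : HS (G := G) (α := α) k :=
  toHeart k ⟨_, D.mono_mem k hm⟩

theorem toHeart_U (h3 : 3 ≤ D.ne) (f : (Cfsg.permSumZero k G α).toSubmodule) :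
    (((D.loc h3).U (heartRep k)) (toHeart k f) : α × α → k) =
      diffMap k ((D.loc h3).U (Cfsg.permRep k G α) (f : α → k)) := by
  have h1 := Loc.U_map (D.loc h3) (ρ := heartRep (G := G) (α := α) k) (σ := Cfsg.permRep k G (α × α))
    (heartSub (G := G) k).toSubmodule.subtype (fun g v => rfl) (toHeart k f)
  have h2 := Loc.U_map (D.loc h3) (ρ := Cfsg.permRep k G α) (σ := Cfsg.permRep k G (α × α))
    (diffMap k) (fun g v => rfl) (f : α → k)
  rw [h2]
  exact h1

theorem U_pow_hmono (h3 : 3 ≤ D.ne) {m : ℕ} (hm : m + 2 ≤ p) (j : ℕ) :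
    ((D.loc h3).U (heartRep k) ^ j) (D.hmono k hm) =
      (m.descFactorial j : k) • D.hmono k (m := m - j) (by omega) := by
  induction j with
  | zero => simp
  | succ j ih =>
    rw [pow_succ', Module.End.mul_apply, ih, map_smul]
    refine Subtype.ext ?_
    simp only [Submodule.coe_smul, hmono, D.toHeart_U k h3, D.U_mono k h3 (m := m - j) (by omega),
      map_smul, smul_smul, Nat.descFactorial_succ, ← Nat.cast_mul, Nat.mul_comm (m - j)]
    congr 1

theorem heart_nilpotent (h3 : 3 ≤ D.ne) :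
    (D.loc h3).U (heartRep (G := G) (α := α) k) ^ (p - 2) = 0 := by
  set L := D.loc h3
  suffices h : L.nil (heartRep (G := G) (α := α) k) ^ (p - 2) = 0 by
    obtain ⟨B, hB, hc⟩ := L.exists_U_factor (heartRep (G := G) (α := α) k)
    rw [hB, hc.mul_pow, h, zero_mul]
  refine LinearMap.ext fun v => ?_
  obtain ⟨f, rfl⟩ := toHeart_surjective (G := G) (α := α) k v
  have hcomm : ∀ (n : ℕ) (w : (Cfsg.permSumZero k G α).toSubmodule),
      ((L.nil (heartRep k) ^ n) (toHeart k w) : α × α → k) =
        diffMap k ((L.nil (Cfsg.permRep k G α) ^ n) (w : α → k)) := by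
    intro n
    induction n with
    | zero => intro w; rfl
    | succ n ih =>
      intro w
      rw [pow_succ, pow_succ, Module.End.mul_apply, Module.End.mul_apply,
        show L.nil (heartRep k) (toHeart k w) = toHeart k ⟨L.nil (Cfsg.permRep k G α) w,
          Submodule.sub_mem _ ((Cfsg.permSumZero k G α).apply_mem_toSubmodule L.y w.2) w.2⟩ from
          Subtype.ext (funext fun z => by
            show ((w : α → k) (L.y⁻¹ • z.1) - (w : α → k) (L.y⁻¹ • z.2)) - ((w : α → k) z.1 - (w : α → k) z.2) =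
              ((w : α → k) (L.y⁻¹ • z.1) - (w : α → k) z.1) - ((w : α → k) (L.y⁻¹ • z.2) - (w : α → k) z.2)
            ring)]
      exact ih _
  refine Subtype.ext ?_
  rw [hcomm]
  set u := (L.nil (Cfsg.permRep k G α) ^ (p - 2)) (f : α → k)
  have hz : L.nil (Cfsg.permRep k G α) u = 0 := by
    rw [← Module.End.mul_apply, ← pow_succ',
      show p - 2 + 1 = p - 1 by have := D.p_gt_two h3; omega, ← L.sum_pow]
    funext a
    rw [LinearMap.sum_apply, Finset.sum_apply, Pi.zero_apply]
    obtain ⟨i, rfl⟩ := D.e.surjective a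
    have hterm : ∀ j : ℕ, Cfsg.permRep k G α (L.y ^ j) (f : α → k) (D.e i) =
        (f : α → k) (D.e (i - (j : ZMod p))) := fun j => by
      show (f : α → k) ((D.y ^ j)⁻¹ • D.e i) = _
      refine congrArg (f : α → k) (inv_smul_eq_iff.2 ?_)
      show _ = ((D.y ^ j : G) : Equiv.Perm α) _
      rw [D.y_pow_apply, sub_add_cancel]
    rw [Finset.sum_congr rfl fun j _ => hterm j]
    refine Eq.trans ?_ (f.2 : ∑ x, (f : α → k) x = 0)
    refine Finset.sum_bij (fun j _ => D.e (i - (j : ZMod p))) (fun _ _ => Finset.mem_univ _) ?_ ?_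
      (fun _ _ => rfl)
    · intro a ha b hb he
      have h := congrArg ZMod.val (sub_right_injective (D.e.injective he))
      rwa [ZMod.val_cast_of_lt (Finset.mem_range.1 ha), ZMod.val_cast_of_lt (Finset.mem_range.1 hb)] at h
    · intro b _
      obtain ⟨l, rfl⟩ := D.e.surjective b
      exact ⟨(i - l).val, Finset.mem_range.2 (ZMod.val_lt _), by rw [ZMod.natCast_zmod_val, sub_sub_cancel]⟩
  have hfix : ∀ i : ZMod p, u (D.e i) = u (D.e (i - 1)) := fun i => by
    have := congrFun hz (D.e i)
    rw [Pi.zero_apply] at this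
    have h' : u ((D.y)⁻¹ • D.e i) - u (D.e i) = 0 := this
    rw [show (D.y)⁻¹ • D.e i = D.e (i - 1) from inv_smul_eq_iff.2 (by
      show _ = (D.y : Equiv.Perm α) _
      rw [D.act_y, sub_add_cancel]), sub_eq_zero] at h'
    exact h'.symm
  have hconst : ∀ n : ℕ, u (D.e (n : ZMod p)) = u (D.e 0) := by
    intro n
    induction n with
    | zero => rw [Nat.cast_zero]
    | succ n ih => rw [hfix, Nat.cast_succ, add_sub_cancel_right, ih]
  funext z
  obtain ⟨i, hi⟩ := D.e.surjective z.1
  obtain ⟨j, hj⟩ := D.e.surjective z.2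
  show u z.1 - u z.2 = 0
  rw [← hi, ← hj, ← ZMod.natCast_zmod_val i, ← ZMod.natCast_zmod_val j, hconst, hconst, sub_self]

/-- **The heart has one chain.** -/
theorem heart_chain (h3 : 3 ≤ D.ne) : (D.loc h3).IsChain (heartRep k)
    (D.hmono k (m := p - 2) (by have := D.p_gt_two h3; omega)) := by
  have hp := (Fact.out : p.Prime)
  have h2 := D.p_gt_two h3
  refine ⟨D.heart_nilpotent k h3, ?_, ?_⟩
  · refine Subtype.ext (funext fun z => ?_)
    have hr : ((D.r⁻¹ : (ZMod p)ˣ) : ZMod p) ^ (p - 2) = (D.r : ZMod p) := by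
      rw [← Units.val_pow_eq_pow_val]
      congr 1
      have h : (D.r⁻¹) ^ (p - 2) * D.r⁻¹ = 1 := by
        rw [← pow_succ, show p - 2 + 1 = p - 1 by omega]
        exact ZMod.units_pow_card_sub_one_eq_one p _
      rw [mul_inv_eq_one] at h
      exact h
    have hx : ∀ a, D.mono k (p - 2) ((D.x)⁻¹ • a) = ι k (D.r : ZMod p) * D.mono k (p - 2) a := fun a => by
      obtain ⟨i, rfl⟩ := D.e.surjective a
      rw [show (D.x)⁻¹ • D.e i = D.e (((D.r⁻¹ : (ZMod p)ˣ) : ZMod p) * i) from inv_smul_eq_iff.2 (by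
        show _ = (D.x : Equiv.Perm α) _
        rw [D.act_x, ← mul_assoc, Units.mul_inv, one_mul]),
        D.mono_apply, D.mono_apply, mul_pow, hr, map_mul]
    show D.mono k (p - 2) ((D.x)⁻¹ • z.1) - D.mono k (p - 2) ((D.x)⁻¹ • z.2) =
      ι k (D.r : ZMod p) * (D.mono k (p - 2) z.1 - D.mono k (p - 2) z.2)
    rw [hx, hx, mul_sub]
  · rw [D.U_pow_hmono k h3]
    refine smul_ne_zero ?_ fun h => ?_
    · rw [Ne, CharP.cast_eq_zero_iff k p]
      intro hd
      have h' : p ∣ (p - 2).factorial := hd.trans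
        (Dvd.intro_left _ (Nat.factorial_mul_descFactorial (by omega : p - 3 ≤ p - 2)))
      have := hp.dvd_factorial.1 h'
      omega
    · have h' := congrFun (congrArg Subtype.val h) (D.e 1, D.e 0)
      change D.mono k (p - 2 - (p - 3)) (D.e 1) - D.mono k (p - 2 - (p - 3)) (D.e 0) = 0 at h'
      rw [show p - 2 - (p - 3) = 1 by omega, D.mono_apply, D.mono_apply] at h'
      simp at h'

theorem heart_nontrivial (h3 : 3 ≤ D.ne) : Nontrivial (HS (G := G) (α := α) k) := by
  refine ⟨⟨D.hmono k (m := p - 2) (by have := D.p_gt_two h3; omega), 0, fun h => ?_⟩⟩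
  have := (D.heart_chain k h3).bottom
  rw [h, map_zero] at this
  exact this rfl

end Data

end Cfsg.Lib.PermGroups.UniqueDegree
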