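import Mathlib
import Cfsg.Agent.Blocks.IBr.Basic
import Cfsg.Agent.Blocks.CyclicDefect.Simple
import Cfsg.Agent.Blocks.Feit3
import Cfsg.Agent.PermGroups.UniqueDegree.Roots

/-!
# Eigenspaces of the simple modules and multiplicities of roots
-/

set_option autoImplicit false
set_option linter.unusedSectionVars false
set_option linter.style.haveILetI false

namespace Cfsg.Lib.PermGroups.UniqueDegree

open Cfsg.Lib.Chars Cfsg.Lib.Blocks Cfsg.Lib.Blocks.IBr Cfsg.Lib.Blocks.Star Cfsg.Lib.Blocks.CyclicDefect
open scoped Classical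

universe u

section Residue

variable {p : ℕ} {M : Ideal AlgInt}

theorem root_mem_place {n : ℕ} (hn : n ≠ 0) {z : ℂ} (hz : z ^ n = 1) : z ∈ place M :=
  mem_place_of_pow_eq_one hn hz

theorem res_pow {z : ℂ} (hz : z ∈ place M) (j : ℕ) : res M (z ^ j) = res M z ^ j := by
  induction j with
  | zero => simp
  | succ j ih => rw [pow_succ, res_mul (pow_mem hz j) hz, ih, pow_succ]

theorem res_root_inj (hM : IsPModular p M) {n : ℕ} (hn : n ≠ 0) (hpn : ¬ p ∣ n) {z w : ℂ}
    (hz : z ^ n = 1) (hw : w ^ n = 1) (h : res M z = res M w) : z = w := by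
  have hw0 : w ≠ 0 := fun e => by rw [e, zero_pow hn] at hw; exact zero_ne_one hw
  by_contra hne
  set q := z * w⁻¹ with hq
  have hqn : q ^ n = 1 := by rw [hq, mul_pow, inv_pow, hz, hw, inv_one, one_mul]
  have hq1 : q ≠ 1 := fun e => hne ((mul_inv_eq_one₀ hw0).1 e)
  have hwi : (w⁻¹) ^ n = 1 := by rw [inv_pow, hw, inv_one]
  have hres : res M q = 1 := by
    rw [hq, res_mul (root_mem_place hn hz) (root_mem_place hn hwi), h,
      ← res_mul (root_mem_place hn hw) (root_mem_place hn hwi), mul_inv_cancel₀ hw0, res_one]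
  have h0 : ∑ j ∈ Finset.range n, q ^ j = 0 := by rw [geom_sum_eq hq1, hqn, sub_self, zero_div]
  have h1 := congrArg (res M) h0
  rw [res_sum _ _ fun j _ => pow_mem (root_mem_place hn hqn) j, res_zero,
    Finset.sum_congr rfl fun j _ => show res M (q ^ j) = 1 by
      rw [res_pow (root_mem_place hn hqn), hres, one_pow],
    Finset.sum_const, Finset.card_range, nsmul_one, res_natCast_eq_zero_iff hM] at h1
  exact hpn h1

/-- Roots of unity of order prime to `p` lift. -/
theorem exists_res_root (hM : IsPModular p M) {n : ℕ} (hn : n ≠ 0) (hpn : ¬ p ∣ n) {a : Res M}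
    (ha : a ^ n = 1) : ∃ z : ℂ, z ^ n = 1 ∧ res M z = a := by
  have hn' := Nat.pos_of_ne_zero hn
  set S := Polynomial.nthRootsFinset n (1 : ℂ)
  have hS : ∀ z, z ∈ S ↔ z ^ n = 1 := fun z => Polynomial.mem_nthRootsFinset hn' _
  have hcard : S.card = n := (Complex.isPrimitiveRoot_exp n hn).card_nthRootsFinset
  have hsub : S.image (res M) ⊆ Polynomial.nthRootsFinset n (1 : Res M) := fun b hb => by
    obtain ⟨z, hz, rfl⟩ := Finset.mem_image.1 hb
    rw [Polynomial.mem_nthRootsFinset hn', ← res_pow (root_mem_place hn ((hS z).1 hz)), (hS z).1 hz, res_one]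
  have heq := Finset.eq_of_subset_of_card_le hsub (by
    rw [Finset.card_image_of_injOn fun z hz w hw h => res_root_inj hM hn hpn ((hS z).1 hz) ((hS w).1 hw) h,
      hcard, Polynomial.nthRootsFinset_def]
    exact (Multiset.toFinset_card_le _).trans (Polynomial.card_nthRoots n 1))
  have : a ∈ S.image (res M) := heq ▸ (Polynomial.mem_nthRootsFinset hn' _).2 ha
  obtain ⟨z, hz, rfl⟩ := Finset.mem_image.1 this
  exact ⟨z, (hS z).1 hz, rfl⟩

end Residue

variable {G : Type u} [Group G] [Fintype G] {p : ℕ} {M : Ideal AlgInt}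

/-- The group representation on a simple module. -/
noncomputable def colG (i : Ix M G) : Representation (Res M) G (Fin ((sys M G).dim i) → Res M) :=
  (colRep (sys M G) i).toMonoidHom.comp (MonoidAlgebra.of (Res M) G)

theorem asAlgebraHom_colG (i : Ix M G) : (colG i).asAlgebraHom = colRep (sys M G) i :=
  AlgHom.ext fun a => by
    induction a using MonoidAlgebra.induction_on with
    | of g => rw [MonoidAlgebra.of_apply, Representation.asAlgebraHom_single_one]; rfl
    | add a b ha hb => simp only [map_add, ha, hb]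
    | smul c a ha => simp only [map_smul, ha]

theorem single_mul_eigC (g : G) {l : ℂ} (hl : l ^ orderOf g = 1) :
    MonoidAlgebra.single g (1 : ℂ) * eigC g l = l • eigC g l := by
  have hl0 : l ≠ 0 := fun e => by
    rw [e, zero_pow (orderOf_pos g).ne'] at hl; exact zero_ne_one hl
  have h := single_pow_mul_eigC g hl 1
  rw [pow_one, pow_one] at h
  conv_rhs => rw [← h]
  rw [← smul_mul_assoc, MonoidAlgebra.smul_single, smul_eq_mul, mul_inv_cancel₀ hl0]

/-- The reduced spectral idempotent projects on an eigenspace. -/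
theorem range_eig (hM : IsPModular p M) {g : G} (hg : ¬ p ∣ orderOf g) {l : ℂ}
    (hl : l ^ orderOf g = 1) {V : Type*} [AddCommGroup V] [Module (Res M) V]
    (ρ : Representation (Res M) G V) :
    LinearMap.range (ρ.asAlgebraHom (red M (eigC g l))) = LinearMap.ker (ρ g - res M l • 1) := by
  have hN := (orderOf_pos g).ne'
  have hl0 : l ≠ 0 := fun e => by rw [e, zero_pow hN] at hl; exact zero_ne_one hl
  have hlp : l ∈ place M := root_mem_place hN hl
  have hlj : ∀ j : ℕ, l⁻¹ ^ j ∈ place M := fun j =>
    pow_mem (root_mem_place hN (by rw [inv_pow, hl, inv_one])) _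
  have hc : (orderOf g : ℂ)⁻¹ ∈ place M := (IsUnitAt.inv (isUnitAt_natCast hM hg)).mem_place
  refine le_antisymm ?_ fun v hv => ?_
  · rintro _ ⟨v, rfl⟩
    rw [LinearMap.mem_ker, LinearMap.sub_apply, LinearMap.smul_apply, Module.End.one_apply, sub_eq_zero]
    have h1 : MonoidAlgebra.single g (1 : Res M) * red M (eigC g l) = res M l • red M (eigC g l) := by
      have hi := eigC_integral hM hg hl
      rw [← red_smul hi hlp, ← single_mul_eigC g hl, red_mul ?_ hi]
      · congr 1
        refine fn_ext fun x => ?_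
        rw [fn_red, fn_single, fn_single]
        split_ifs
        · exact res_one.symm
        · exact res_zero.symm
      · intro x
        rw [fn_single]
        split_ifs
        · exact one_mem _
        · exact zero_mem _
    have h2 := LinearMap.congr_fun (congrArg ρ.asAlgebraHom h1) v
    rwa [map_mul, map_smul, Representation.asAlgebraHom_single_one, Module.End.mul_apply,
      LinearMap.smul_apply] at h2
  · rw [LinearMap.mem_ker, LinearMap.sub_apply, LinearMap.smul_apply, Module.End.one_apply, sub_eq_zero] at hv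
    refine ⟨v, ?_⟩
    have hpow : ∀ j : ℕ, ρ (g ^ j) v = res M l ^ j • v := fun j => by
      induction j with
      | zero => simp
      | succ j ih => rw [pow_succ, map_mul, Module.End.mul_apply, hv, map_smul, ih, smul_smul, ← pow_succ']
    rw [red_eigC hM hg hl, map_sum, LinearMap.sum_apply]
    rw [Finset.sum_congr rfl fun j _ => show
        ρ.asAlgebraHom (MonoidAlgebra.single (g ^ j) (res M ((orderOf g : ℂ)⁻¹ * l⁻¹ ^ j))) v =
          res M (orderOf g : ℂ)⁻¹ • v by
      rw [Representation.asAlgebraHom_single, LinearMap.smul_apply, hpow, smul_smul,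
        res_mul hc (hlj j), mul_assoc, ← res_pow hlp, ← res_mul (hlj j) (pow_mem hlp j), ← mul_pow,
        inv_mul_cancel₀ hl0, one_pow, res_one, mul_one]]
    rw [Finset.sum_const, Finset.card_range, ← Nat.cast_smul_eq_nsmul (Res M), smul_smul, ← res_natCast,
      ← res_mul (natCast_mem_place _) hc, mul_inv_cancel₀ (Nat.cast_ne_zero.2 hN), res_one, one_smul]

/-- The rank is the dimension of an eigenspace. -/
theorem mu_eq_finrank (hM : IsPModular p M) {g : G} (hg : ¬ p ∣ orderOf g) {l : ℂ}
    (hl : l ^ orderOf g = 1) (i : Ix M G) :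
    (sys M G).mu i (red M (eigC g l)) =
      Module.finrank (Res M) (LinearMap.ker (colG i g - res M l • 1)) := by
  rw [← range_eig hM hg hl, asAlgebraHom_colG]
  rfl

/-- A multiplicity through the decomposition numbers. -/
theorem mult_eq_sum (hM : IsPModular p M) (χ : IrrCharacter G) {g : G} (hg : ¬ p ∣ orderOf g) {l : ℂ}
    (hl : l ^ orderOf g = 1) :
    mult (χ : G → ℂ) g l = ∑ i, ((sys M G).mu i (red M (eigC g l)) : ℂ) * dec M χ i := by
  rw [← th_eq_sum χ (red_eigC_idem hM hg hl), th_one_eq χ (eigC_integral hM hg hl) (eigC_idem g hl),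
    eigC, chiEval_smul, chiEval_sum, mult]
  congr 1
  exact Finset.sum_congr rfl fun j _ => (chiEval_single _ _ _).symm

/-- Intertwining maps between distinct simple modules vanish. -/
theorem colG_hom_eq_zero {i j : Ix M G} (hij : i ≠ j)
    (f : (Fin ((sys M G).dim i) → Res M) →ₗ[Res M] (Fin ((sys M G).dim j) → Res M))
    (hf : ∀ g, f ∘ₗ colG i g = colG j g ∘ₗ f) : f = 0 := by
  have hall : ∀ a v, f (colRep (sys M G) i a v) = colRep (sys M G) j a (f v) := by
    intro a v
    rw [← asAlgebraHom_colG, ← asAlgebraHom_colG]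
    induction a using MonoidAlgebra.induction_on with
    | of g => rw [MonoidAlgebra.of_apply, Representation.asAlgebraHom_single_one, Representation.asAlgebraHom_single_one]
              exact LinearMap.congr_fun (hf g) v
    | add a b ha hb => simp only [map_add, LinearMap.add_apply, ha, hb]
    | smul c a ha => simp only [map_smul, LinearMap.smul_apply, ha]
  by_contra h0
  have hker : LinearMap.ker f = ⊥ := (colRep_simple (sys M G) i _ fun a v hv => by
    rw [LinearMap.mem_ker, hall, LinearMap.mem_ker.1 hv, map_zero]).resolve_right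
      fun h => h0 (LinearMap.ker_eq_top.1 h)
  have hz : colRep (sys M G) j ((sys M G).eps i) = 0 := by
    refine LinearMap.ext fun v => ?_
    rw [colRep_apply, (sys M G).hom_eps, SimpleSystem.unit, Pi.single_eq_of_ne (Ne.symm hij)]
    simp
  have hinj := LinearMap.ker_eq_bot.1 hker
  set v : Fin ((sys M G).dim i) → Res M := Pi.single ((sys M G).zeroIdx i) 1 with hv
  have h1 : colRep (sys M G) i ((sys M G).eps i) v = v := by
    rw [colRep_apply, (sys M G).hom_eps, SimpleSystem.unit, Pi.single_eq_same, hv]
    funext x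
    simp [Matrix.col_apply, Matrix.single_apply, Pi.single_apply, eq_comm]
  have h2 := hall ((sys M G).eps i) v
  rw [h1, hz, LinearMap.zero_apply, ← map_zero f] at h2
  have := congrFun (hinj h2) ((sys M G).zeroIdx i)
  rw [hv, Pi.single_eq_same] at this
  exact one_ne_zero this

/-- The trace of the reduced spectral idempotent. -/
theorem natCast_mu (hM : IsPModular p M) {g : G} (hg : ¬ p ∣ orderOf g) {l : ℂ}
    (hl : l ^ orderOf g = 1) (i : Ix M G) :
    ((sys M G).mu i (red M (eigC g l)) : Res M) =
      ∑ j ∈ Finset.range (orderOf g), res M ((orderOf g : ℂ)⁻¹ * l⁻¹ ^ j) *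
        LinearMap.trace (Res M) _ (colG i (g ^ j)) := by
  have h := red_eigC_idem hM hg hl
  rw [SimpleSystem.mu, ← trace_eq_rank ((sys M G).hom_idem h i), ← Matrix.trace_toLin'_eq]
  show LinearMap.trace (Res M) _ (colRep (sys M G) i (red M (eigC g l))) = _
  rw [← asAlgebraHom_colG, red_eigC hM hg hl, map_sum, map_sum]
  exact Finset.sum_congr rfl fun j _ => by
    rw [Representation.asAlgebraHom_single, map_smul, smul_eq_mul]

/-- An element of order prime to `p` with the only eigenvalue one acts trivially. -/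
theorem eq_one_of_mu_eq_zero (hM : IsPModular p M) {g : G} (hg : ¬ p ∣ orderOf g) (i : Ix M G)
    (h : ∀ l ∈ rts g, l ≠ 1 → (sys M G).mu i (red M (eigC g l)) = 0) : colG i g = 1 := by
  have hlp : ∀ l ∈ rts g, l ∈ place M := fun l hl =>
    root_mem_place (orderOf_pos g).ne' (mem_rts.1 hl)
  have hint : ∀ l ∈ rts g, Integral M (eigC g l) := fun l hl => eigC_integral hM hg (mem_rts.1 hl)
  have hsingle : (MonoidAlgebra.single g 1 : MonoidAlgebra (Res M) G) =
      ∑ l ∈ rts g, res M l • red M (eigC g l) := by
    refine fn_ext fun x => ?_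
    have h0 := congrArg (fun a => res M (fn a x)) (sum_smul_eigC g)
    simp only [fn_sum, fn_smul, fn_single] at h0
    change res M (∑ l ∈ rts g, l * fn (eigC g l) x) = _ at h0
    rw [res_sum _ _ fun l hl => mul_mem (hlp l hl) (hint l hl x),
      Finset.sum_congr rfl fun l hl => res_mul (hlp l hl) (hint l hl x)] at h0
    rw [fn_sum, fn_single]
    simp only [fn_smul, fn_red]
    rw [h0]
    split_ifs
    · exact res_one.symm
    · exact res_zero.symm
  have h1 : (1 : ℂ) ∈ rts g := mem_rts.2 (one_pow _)
  set P : Module.End (Res M) (Fin ((sys M G).dim i) → Res M) :=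
    colRep (sys M G) i (red M (eigC g 1))
  have hP : P * P = P := by
    rw [← map_mul, red_eigC_idem hM hg (one_pow _)]
  have hgP : colG i g = P := by
    have h2 := congrArg (colRep (sys M G) i) hsingle
    rw [map_sum, Finset.sum_eq_single (1 : ℂ) (fun l hl hl1 => by
      have h3 := h l hl hl1
      rw [map_smul, show colRep (sys M G) i (red M (eigC g l)) = 0 from LinearMap.ext fun v => by
        rw [colRep_apply, rank_eq_zero_iff'.1 h3]; simp, smul_zero]) (fun h' => absurd h1 h'),
      res_one, one_smul] at h2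
    exact h2
  have hu : colG i g * colG i g⁻¹ = 1 := by rw [← map_mul, mul_inv_cancel, map_one]
  calc colG i g = colG i g * (colG i g * colG i g⁻¹) := by rw [hu, mul_one]
    _ = 1 := by rw [← mul_assoc, hgP, hP, ← hgP, hu]

end Cfsg.Lib.PermGroups.UniqueDegree
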