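import Mathlib
import Cfsg.Agent.PermGroups.UniqueDegree.Spectral
import Cfsg.Agent.PermGroups.UniqueDegree.Heart

/-!
# The heart in the exceptional character

The exceptional character of degree `p + 1` has the heart as a constituent modulo `p`, so on
regular elements `θ + 2 - π` is the sum of three roots of unity with product one.
-/

set_option autoImplicit false
set_option linter.unusedSectionVars false
set_option linter.style.haveILetI false

namespace Cfsg.Lib.PermGroups.UniqueDegree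

open Cfsg.Lib.Chars Cfsg.Lib.Blocks Cfsg.Lib.Blocks.IBr Cfsg.Lib.Blocks.Star Cfsg.Lib.Blocks.CyclicDefect
open scoped Classical

namespace Data

open Loc (ι)

variable {α : Type*} [Fintype α] [DecidableEq α] {p : ℕ} [Fact p.Prime]
  {G : Subgroup (Equiv.Perm α)} [Fintype G] (D : Data G p) {M : Ideal AlgInt}

include D in
theorem not_dvd_ne : ¬ p ∣ D.ne := fun h => by
  have h1 : D.ne ∣ p - 1 := D.order_dvd
  have h2 := (Fact.out : p.Prime).two_le
  have := Nat.le_of_dvd (by omega) (h.trans h1)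
  omega

include D in
theorem exists_heart_index (hM : IsPModular p M) [CharP (Res M) p] (h3 : 3 ≤ D.ne) :
    ∃ (i : Ix M G) (Θ : HS (G := G) (α := α) (Res M) ≃ₗ[Res M] (Fin ((sys M G).dim i) → Res M)),
      ∀ g v, Θ (heartRep (Res M) g v) = colG i g (Θ v) := by
  haveI := D.heart_nontrivial (Res M) h3
  obtain ⟨i, Θ, hΘ⟩ := exists_colRep_equiv (sys M G) (heartRep (G := G) (α := α) (Res M)).asAlgebraHom
    fun Y hY => D.heart_simple (Res M) Y fun g v hv => by
      have := hY (MonoidAlgebra.single g 1) v hv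
      rwa [Representation.asAlgebraHom_single_one] at this
  refine ⟨i, Θ, fun g v => ?_⟩
  have := hΘ (MonoidAlgebra.single g 1) v
  rwa [Representation.asAlgebraHom_single_one] at this

include D in
theorem two_le_mult_one {g : G} (hg : ¬ p ∣ orderOf g) {d : ℕ}
    (hd : mult (permChar G α) g 1 = d) : 2 ≤ d := by
  set Z := Subgroup.zpowers g
  have hB := MulAction.sum_card_fixedBy_eq_card_orbits_mul_card_group Z α
  set q := Fintype.card (MulAction.orbitRel.Quotient Z α) with hq
  have hsum : ∑ j ∈ Finset.range (orderOf g), permChar G α (g ^ j) = ((q * orderOf g : ℕ) : ℂ) := by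
    rw [show q * orderOf g = q * Fintype.card Z by rw [Fintype.card_zpowers], ← hB, Nat.cast_sum,
      ← Fin.sum_univ_eq_sum_range (fun j => permChar G α (g ^ j))]
    refine Fintype.sum_equiv (finEquivZPowers (isOfFinOrder_of_finite g)) _ _ fun j => ?_
    rw [finEquivZPowers_apply, permChar, Nat.card_eq_fintype_card]
    rfl
  have hdq : d = q := by
    rw [mult, Finset.sum_congr rfl fun j _ => show (1 : ℂ)⁻¹ ^ j * permChar G α (g ^ j) =
      permChar G α (g ^ j) by simp, hsum, Nat.cast_mul, mul_comm (q : ℂ), ← mul_assoc,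
      inv_mul_cancel₀ (Nat.cast_ne_zero.2 (orderOf_pos g).ne'), one_mul, Nat.cast_inj] at hd
    exact hd.symm
  obtain ⟨a⟩ : Nonempty α := Fintype.card_pos_iff.1 (by
    rw [D.card_alpha]; exact (Fact.out : p.Prime).pos)
  have hq0 : 0 < q := Fintype.card_pos_iff.2 ⟨Quotient.mk'' a⟩
  by_contra hlt
  have hq1 : q = 1 := by omega
  haveI : Subsingleton (MulAction.orbitRel.Quotient Z α) := Fintype.card_le_one_iff_subsingleton.1 hq1.le
  have horb : MulAction.orbit Z a = Set.univ := Set.eq_univ_of_forall fun b =>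
    MulAction.orbitRel_apply.1 (Quotient.eq''.1 (Subsingleton.elim
      (Quotient.mk'' b : MulAction.orbitRel.Quotient Z α) (Quotient.mk'' a)))
  have hcard := MulAction.card_orbit_mul_card_stabilizer_eq_card_group Z a
  apply hg
  rw [← Fintype.card_zpowers (x := g), ← hcard]
  refine Dvd.dvd.mul_right (dvd_of_eq ?_) _
  rw [← D.card_alpha, ← Nat.card_eq_fintype_card, ← Nat.card_eq_fintype_card, horb, Nat.card_univ]

include D in
/-- The eigenvalues on the heart. -/
theorem mu_heart (hM : IsPModular p M) [CharP (Res M) p] (i : Ix M G)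
    (Θ : HS (G := G) (α := α) (Res M) ≃ₗ[Res M] (Fin ((sys M G).dim i) → Res M))
    (hΘ : ∀ g v, Θ (heartRep (Res M) g v) = colG i g (Θ v))
    {g : G} (hg : ¬ p ∣ orderOf g) {d : ℂ → ℕ}
    (hd : ∀ l ∈ rts g, mult (permChar G α) g l = d l)
    (hd1 : permChar G α 1 = ∑ l ∈ rts g, (d l : ℂ)) {l : ℂ} (hl : l ∈ rts g) :
    d l = (sys M G).mu i (red M (eigC g l)) + if l = 1 then 2 else 0 := by
  have hl' := mem_rts.1 hl
  have hN := (orderOf_pos g).ne'
  have hNC : (orderOf g : ℂ) ≠ 0 := Nat.cast_ne_zero.2 hN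
  have hli : l⁻¹ ^ orderOf g = 1 := by rw [inv_pow, hl', inv_one]
  have hc : (orderOf g : ℂ)⁻¹ ∈ place M := (IsUnitAt.inv (isUnitAt_natCast hM hg)).mem_place
  have htr : ∀ h : G, LinearMap.trace (Res M) _ (colG i h) =
      res M ((Nat.card (MulAction.fixedBy α h) : ℂ) - (2 : ℕ)) := fun h => by
    rw [res_sub (natCast_mem_place _) (natCast_mem_place _), res_natCast, res_natCast, Nat.cast_ofNat,
      ← D.trace_heartRep (Res M) h, ← LinearMap.trace_conj' (heartRep (Res M) h) Θ]
    congr 1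
    exact LinearMap.ext fun v => by
      rw [LinearEquiv.conj_apply_apply, hΘ, LinearEquiv.apply_symm_apply]
  set e : ℕ := if l = 1 then 2 else 0 with he
  set m := (sys M G).mu i (red M (eigC g l)) with hm
  have hexp : (orderOf g : ℂ)⁻¹ * ∑ j ∈ Finset.range (orderOf g),
      l⁻¹ ^ j * ((Nat.card (MulAction.fixedBy α (g ^ j)) : ℂ) - (2 : ℕ)) = (d l : ℂ) - (e : ℂ) := by
    rw [← hd l hl, mult]
    simp only [mul_sub, Finset.sum_sub_distrib, ← Finset.sum_mul]
    rw [geom_root hN hli, he]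
    congr 1
    by_cases h1 : l = 1
    · rw [if_pos (by rw [h1, inv_one]), if_pos h1, ← mul_assoc, inv_mul_cancel₀ hNC, one_mul]
    · rw [if_neg (inv_eq_one.not.2 h1), if_neg h1]; simp
  have hmod : ((m + e : ℕ) : Res M) = (d l : Res M) := by
    have h := natCast_mu hM hg hl' i
    have hterm : ∀ j : ℕ, (orderOf g : ℂ)⁻¹ * l⁻¹ ^ j ∈ place M := fun j =>
      mul_mem hc (pow_mem (root_mem_place hN hli) j)
    have hfx : ∀ j : ℕ, (Nat.card (MulAction.fixedBy α (g ^ j)) : ℂ) - (2 : ℕ) ∈ place M := fun j =>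
      sub_mem (natCast_mem_place _) (natCast_mem_place _)
    rw [Finset.sum_congr rfl fun j _ => show
        res M ((orderOf g : ℂ)⁻¹ * l⁻¹ ^ j) * LinearMap.trace (Res M) _ (colG i (g ^ j)) =
          res M ((orderOf g : ℂ)⁻¹ * l⁻¹ ^ j * ((Nat.card (MulAction.fixedBy α (g ^ j)) : ℂ) - (2 : ℕ))) by
      rw [htr, res_mul (hterm j) (hfx j)],
      ← res_sum _ _ fun j _ => mul_mem (hterm j) (hfx j),
      Finset.sum_congr rfl fun j _ => mul_assoc _ _ _, ← Finset.mul_sum, hexp,
      res_sub (natCast_mem_place _) (natCast_mem_place _), res_natCast, res_natCast, ← hm] at h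
    rw [Nat.cast_add, h, sub_add_cancel]
  rw [CharP.natCast_eq_natCast (Res M) p] at hmod
  have hmle : m < p := lt_of_le_of_lt (by
    rw [hm, mu_eq_finrank hM hg hl']
    exact Submodule.finrank_le _) (lt_of_eq_of_lt Θ.finrank_eq.symm (D.finrank_heart_lt (Res M)))
  have hp1 : ∑ l ∈ rts g, d l = p := by
    rw [permChar, show MulAction.fixedBy α (1 : G) = Set.univ from
      Set.eq_univ_of_forall fun a => one_smul _ a, Nat.card_univ, Nat.card_eq_fintype_card, D.card_alpha,
      ← Nat.cast_sum, Nat.cast_inj] at hd1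
    exact hd1.symm
  have h2 := D.two_le_mult_one hg (hd 1 (mem_rts.2 (one_pow _)))
  have hdle : d l ≤ p := hp1 ▸ Finset.single_le_sum (fun x _ => Nat.zero_le (d x)) hl
  by_cases h1 : l = 1
  · subst h1
    rw [he, if_pos rfl] at hmod ⊢
    have h4 : m + 2 ≡ (d 1 - 2) + 2 [MOD p] := by rwa [Nat.sub_add_cancel h2]
    have h5 := Nat.ModEq.add_right_cancel' 2 h4
    have := Nat.ModEq.eq_of_lt_of_lt h5 hmle (by omega)
    omega
  · rw [he, if_neg h1, add_zero] at hmod ⊢
    have h4 : d l + d 1 ≤ p := by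
      rw [← hp1, ← Finset.sum_pair (f := d) h1]
      exact Finset.sum_le_sum_of_subset (Finset.insert_subset hl (Finset.singleton_subset_iff.2 (mem_rts.2 (one_pow _))))
    exact (Nat.ModEq.eq_of_lt_of_lt hmod hmle (by omega)).symm

/-- Multiplicities of the exceptional character on the complement. -/
theorem mult_theta {θ : G → ℂ} {ω : ℂ} (hω : ω ∈ rts D.x) (hθ1 : θ 1 = (p + 1 : ℕ))
    (hθ : ∀ j : ℕ, D.x ^ j ≠ 1 → θ (D.x ^ j) = ω ^ j + (ω⁻¹) ^ j) {z : ℂ} (hz : z ∈ rts D.x) :
    mult θ D.x z = (D.tt : ℂ) + (if z = ω then 1 else 0) + if z = ω⁻¹ then 1 else 0 := by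
  have hN := (orderOf_pos D.x).ne'
  have hz' := mem_rts.1 hz
  have hω' := mem_rts.1 hω
  have hz0 : z ≠ 0 := fun e => by rw [e, zero_pow hN] at hz'; exact zero_ne_one hz'
  have hNC : (orderOf D.x : ℂ) ≠ 0 := Nat.cast_ne_zero.2 hN
  have hterm : ∀ j ∈ Finset.range (orderOf D.x), z⁻¹ ^ j * θ (D.x ^ j) =
      (if j = 0 then ((p - 1 : ℕ) : ℂ) else 0) + ((z⁻¹ * ω) ^ j + (z⁻¹ * ω⁻¹) ^ j) := by
    intro j hj
    rcases Nat.eq_zero_or_pos j with h0 | h0
    · subst h0
      simp only [pow_zero]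
      rw [hθ1, if_pos trivial, Nat.cast_sub (Fact.out : p.Prime).one_le]
      push_cast
      ring
    · rw [if_neg h0.ne', hθ j (pow_ne_one_of_lt_orderOf h0.ne' (Finset.mem_range.1 hj)), mul_pow, mul_pow]
      ring
  rw [mult, Finset.sum_congr rfl hterm, Finset.sum_add_distrib, Finset.sum_add_distrib,
    Finset.sum_ite_eq', if_pos (Finset.mem_range.2 (orderOf_pos _)),
    geom_root hN (by rw [mul_pow, inv_pow, hz', hω', inv_one, one_mul]),
    geom_root hN (by rw [mul_pow, inv_pow, inv_pow, hz', hω', inv_one, one_mul])]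
  simp only [inv_mul_eq_one₀ hz0]
  have htt : ((p - 1 : ℕ) : ℂ) = (D.tt : ℂ) * (orderOf D.x : ℂ) := by
    rw [← Nat.cast_mul, D.tt_mul]
  rw [htt]
  split_ifs <;> field_simp <;> ring

/-- **The heart is a constituent of an exceptional character.** -/
theorem exists_constituent (hM : IsPModular p M) [CharP (Res M) p] (h3 : 3 ≤ D.ne) (iH : Ix M G)
    (Θ : HS (G := G) (α := α) (Res M) ≃ₗ[Res M] (Fin ((sys M G).dim iH) → Res M))
    (hΘ : ∀ g v, Θ (heartRep (Res M) g v) = colG iH g (Θ v)) :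
    ∃ θ : IrrCharacter G, dec M θ iH ≠ 0 ∧ (θ : G → ℂ) 1 = (p + 1 : ℕ) ∧
      (∃ ω ∈ rts D.x, ω ≠ 1 ∧ mult (θ : G → ℂ) D.x ω = ((D.tt + 1 : ℕ) : ℂ)) ∧
      ∀ g : G, g ≠ 1 → ¬ D.InE g → (θ : G → ℂ) g = 1 + (D.psi : G → ℂ) g := by
  have hp := (Fact.out : p.Prime)
  have h2 := D.p_gt_two h3
  have hN := (orderOf_pos D.x).ne'
  have hpN : ¬ p ∣ orderOf D.x := D.not_dvd_ne
  set L := D.loc h3 with hL
  set r : Res M := ι (Res M) (D.r : ZMod p) with hr
  have hrN : r ^ orderOf D.x = 1 := by rw [← D.orderOf_r]; exact L.ι_r_pow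
  have hr_eq : ∀ i j : ℕ, r ^ i = r ^ j ↔ i ≡ j [MOD orderOf D.x] := fun i j => by
    rw [← D.orderOf_r]; exact L.ι_r_pow_eq_iff i j
  have hr1 : r ≠ 1 := fun e => by
    have h := (hr_eq 1 0).1 (by rw [pow_one, pow_zero]; exact e)
    have h' : 1 % orderOf D.x = 0 % orderOf D.x := h
    rw [Nat.mod_eq_of_lt (show 1 < orderOf D.x from D.two_le), Nat.zero_mod] at h'
    omega
  have hr2 : r ^ 2 ≠ 1 := fun e => by
    have h := (hr_eq 2 0).1 (by rw [pow_zero]; exact e)
    have h' : 2 % orderOf D.x = 0 % orderOf D.x := h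
    rw [Nat.mod_eq_of_lt (show 2 < orderOf D.x from h3), Nat.zero_mod] at h'
    omega
  set a := r ^ (p - 2) with ha
  have hra : r * a = 1 := by
    rw [ha, ← pow_succ', show p - 2 + 1 = p - 1 by omega]
    exact L.r_pow_pred
  obtain ⟨ω, hω', hres⟩ := exists_res_root hM hN hpN (a := a) (by
    rw [ha, ← pow_mul, mul_comm, pow_mul, hrN, one_pow])
  have hω : ω ∈ rts D.x := mem_rts.2 hω'
  have hω0 : ω ≠ 0 := fun e => by rw [e, zero_pow hN] at hω'; exact zero_ne_one hω'
  have hωi' : ω⁻¹ ^ orderOf D.x = 1 := by rw [inv_pow, hω', inv_one]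
  have hωi : ω⁻¹ ∈ rts D.x := mem_rts.2 hωi'
  have hresi : res M ω⁻¹ = r := by
    have h := congrArg (res M) (inv_mul_cancel₀ hω0)
    rw [res_mul (root_mem_place hN hωi') (root_mem_place hN hω'), hres, res_one] at h
    calc res M ω⁻¹ = res M ω⁻¹ * (r * a) := by rw [hra, mul_one]
      _ = r := by rw [mul_left_comm, h, mul_one]
  have hωne1 : ω ≠ 1 := fun e => hr1 (by
    rw [e, res_one] at hres; rw [← hres, mul_one] at hra; exact hra)
  have hωne : ω⁻¹ ≠ ω := fun e => hr2 (by
    rw [e, hres] at hresi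
    rw [← hresi, sq, hresi]
    calc r * r = r * a := by rw [hresi]
      _ = 1 := hra)
  have hs : ω ^ D.s = ω⁻¹ := by
    refine eq_inv_of_mul_eq_one_left ?_
    rw [← pow_succ]
    have hs0 : (1 + D.s) % D.ne = 0 % D.ne := D.s_neg h3 (by omega)
    rw [pow_eq_pow_mod _ hω', show D.s + 1 = 1 + D.s from add_comm _ _,
      show (1 + D.s) % orderOf D.x = 0 from hs0.trans (Nat.zero_mod _), pow_zero]
  obtain ⟨θ, hθ1, hθx, hθoff⟩ := D.exists_theta h3 (by omega) hω (by rw [hs]; exact hωne)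
  simp only [hs] at hθx
  refine ⟨θ, fun hdec => ?_, hθ1, ⟨ω, hω, hωne1, by
    rw [D.mult_theta hω hθ1 hθx hω, if_pos rfl, if_neg (Ne.symm hωne)]
    push_cast
    ring⟩, hθoff⟩
  have hmult : ∀ z ∈ rts D.x, ∑ j, ((sys M G).mu j (red M (eigC D.x z)) : ℂ) * dec M θ j =
      (D.tt : ℂ) + (if z = ω then 1 else 0) + if z = ω⁻¹ then 1 else 0 := fun z hz => by
    rw [← mult_eq_sum hM θ hpN (mem_rts.1 hz), D.mult_theta hω hθ1 hθx hz]
  -- a constituent with more eigenvalues `ω` than `1`
  obtain ⟨i, hi, hilt⟩ : ∃ i, dec M θ i ≠ 0 ∧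
      (sys M G).mu i (red M (eigC D.x 1)) < (sys M G).mu i (red M (eigC D.x ω)) := by
    by_contra! h
    have h1 := hmult 1 (mem_rts.2 (one_pow _))
    have hw := hmult ω hω
    rw [if_neg (Ne.symm hωne1), if_neg (fun e : (1 : ℂ) = ω⁻¹ => hωne1 (inv_eq_one.1 e.symm))] at h1
    rw [if_pos rfl, if_neg (Ne.symm hωne)] at hw
    have hle : ∑ j, (sys M G).mu j (red M (eigC D.x ω)) * dec M θ j ≤
        ∑ j, (sys M G).mu j (red M (eigC D.x 1)) * dec M θ j := Finset.sum_le_sum fun j _ => by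
      by_cases hj : dec M θ j = 0
      · simp [hj]
      · exact Nat.mul_le_mul_right _ (h j hj)
    have e1 : ∑ j, (sys M G).mu j (red M (eigC D.x 1)) * dec M θ j = D.tt := by
      apply Nat.cast_injective (R := ℂ)
      push_cast
      simpa using h1
    have e2 : ∑ j, (sys M G).mu j (red M (eigC D.x ω)) * dec M θ j = D.tt + 1 := by
      apply Nat.cast_injective (R := ℂ)
      push_cast
      simpa using hw
    omega
  have hne : iH ≠ i := fun e => hi (e ▸ hdec)
  -- there are no maps to or from the heart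
  have hhom₁ : ∀ f : (Fin ((sys M G).dim i) → Res M) →ₗ[Res M] HS (G := G) (α := α) (Res M),
      (∀ g, f ∘ₗ colG i g = heartRep (Res M) g ∘ₗ f) → f = 0 := fun f hf => by
    have h0 := colG_hom_eq_zero (Ne.symm hne) (Θ.toLinearMap ∘ₗ f) fun g => LinearMap.ext fun v => by
      have := congrArg Θ (LinearMap.congr_fun (hf g) v)
      simp only [LinearMap.comp_apply, LinearEquiv.coe_coe] at this ⊢
      rw [this, hΘ]
    exact LinearMap.ext fun v => Θ.injective (by simpa using LinearMap.congr_fun h0 v)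
  have hhom₂ : ∀ f : HS (G := G) (α := α) (Res M) →ₗ[Res M] (Fin ((sys M G).dim i) → Res M),
      (∀ g, f ∘ₗ heartRep (Res M) g = colG i g ∘ₗ f) → f = 0 := fun f hf => by
    have h0 := colG_hom_eq_zero hne (f ∘ₗ Θ.symm.toLinearMap) fun g => LinearMap.ext fun v => by
      have hsymm : Θ.symm (colG iH g v) = heartRep (Res M) g (Θ.symm v) :=
        Θ.injective (by rw [LinearEquiv.apply_symm_apply, hΘ, LinearEquiv.apply_symm_apply])
      simp only [LinearMap.comp_apply, LinearEquiv.coe_coe, hsymm]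
      exact LinearMap.congr_fun (hf g) (Θ.symm v)
    exact LinearMap.ext fun v => by simpa using LinearMap.congr_fun h0 (Θ v)
  have hwt : ∀ z ∈ rts D.x, ∀ j, (sys M G).mu j (red M (eigC D.x z)) =
      Module.finrank (Res M) (L.wt (colG j) (res M z)) := fun z hz j =>
    mu_eq_finrank hM hpN (mem_rts.1 hz) j
  have hdiff : Module.finrank (Res M) (L.wt (colG i) 1) <
      Module.finrank (Res M) (L.wt (colG i) (ι (Res M) (L.r : ZMod p) ^ (p - 2))) := by
    have h1 := hwt 1 (mem_rts.2 (one_pow _)) i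
    have h2 := hwt ω hω i
    rw [res_one] at h1
    rw [hres] at h2
    rw [h1, h2] at hilt
    exact hilt
  obtain ⟨hdim, hw⟩ := L.weight_contra (heartRep (Res M)) (colG i) (D.heart_chain (Res M) h3)
    hhom₁ hhom₂ hdiff
  rw [Module.finrank_fintype_fun_eq_card, Fintype.card_fin] at hdim hw
  have hdeg : ∑ j, dec M θ j * (sys M G).dim j = p + 1 := by
    rw [← deg_eq_sum_dec hM θ]
    apply Nat.cast_injective (R := ℂ)
    rw [← irr_apply_one_eq_deg, hθ1]
  have hsplit := Finset.add_sum_erase Finset.univ (fun j => dec M θ j * (sys M G).dim j) (Finset.mem_univ i)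
  rw [hdeg] at hsplit
  have hone : dec M θ i = 1 := by
    by_contra h
    have h4 : 2 * p ≤ dec M θ i * (sys M G).dim i :=
      Nat.mul_le_mul (by omega) hdim
    omega
  rw [hone, one_mul] at hsplit
  have hL' : L.t = D.tt := by
    show (p - 1) / orderOf D.r = (p - 1) / orderOf D.x
    rw [D.orderOf_r]
  have hwr := hw (by omega)
  rw [hL'] at hwr
  have hrest : ∀ j, j ≠ i → (sys M G).mu j (red M (eigC D.x ω⁻¹)) * dec M θ j = 0 := by
    intro j hj
    rcases Nat.eq_zero_or_pos (dec M θ j) with h0 | h0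
    · rw [h0, mul_zero]
    have hdim1 : (sys M G).dim j ≤ 1 := by
      have h4 := Finset.single_le_sum (f := fun j => dec M θ j * (sys M G).dim j)
        (fun x _ => Nat.zero_le _) (Finset.mem_erase.2 ⟨hj, Finset.mem_univ j⟩)
      have h5 : (sys M G).dim j ≤ dec M θ j * (sys M G).dim j := Nat.le_mul_of_pos_left _ h0
      omega
    have h1 : (sys M G).dim j = 1 := le_antisymm hdim1 ((sys M G).dim_pos j)
    let z : Fin ((sys M G).dim j) := (sys M G).zeroIdx j
    haveI : Subsingleton (Fin ((sys M G).dim j)) := by rw [h1]; infer_instance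
    have hscal : ∀ h : G, ∀ v, colG j h v = (colG j h (Pi.single z 1) z) • v := fun h v => by
      have hv : v = v z • Pi.single z (1 : Res M) := funext fun q => by
        rw [Subsingleton.elim q z]; simp
      conv_lhs => rw [hv, map_smul]
      funext q
      rw [Subsingleton.elim q z]
      simp [mul_comm]
    let χ : G →* Res M :=
      { toFun := fun h => colG j h (Pi.single z 1) z
        map_one' := by simp
        map_mul' := fun u v => by
          rw [map_mul, Module.End.mul_apply, hscal u (colG j v _)]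
          simp }
    have hker : commutator G ≤ (χ.toHomUnits).ker := Abelianization.commutator_subset_ker _
    rw [D.perfect] at hker
    have hx : colG j D.x = 1 := LinearMap.ext fun v => by
      have h4 := congrArg Units.val (MonoidHom.mem_ker.1 (hker (Subgroup.mem_top D.x)))
      rw [MonoidHom.coe_toHomUnits, Units.val_one] at h4
      rw [hscal, show colG j D.x (Pi.single z 1) z = 1 from h4, one_smul]
      rfl
    have hbot : L.wt (colG j) (res M ω⁻¹) = ⊥ := (Submodule.eq_bot_iff _).2 fun v hv => by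
      rw [L.mem_wt] at hv
      rw [hresi, show L.x = D.x from rfl, hx, Module.End.one_apply] at hv
      have h4 : ((1 : Res M) - r) • v = 0 := by rw [sub_smul, one_smul, ← hv, sub_self]
      exact (smul_eq_zero.1 h4).resolve_left (sub_ne_zero.2 (Ne.symm hr1))
    rw [hwt ω⁻¹ hωi j, hbot, finrank_bot, zero_mul]
  have hfin := hmult ω⁻¹ hωi
  rw [if_neg hωne, if_pos rfl, Finset.sum_eq_single i
    (fun j _ hj => by rw [← Nat.cast_mul, hrest j hj, Nat.cast_zero]) (by simp)] at hfin
  have hfin' : (sys M G).mu i (red M (eigC D.x ω⁻¹)) * dec M θ i = D.tt + 1 := by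
    apply Nat.cast_injective (R := ℂ)
    push_cast
    simpa using hfin
  rw [hone, mul_one, hwt ω⁻¹ hωi i, hresi] at hfin'
  have : Module.finrank (Res M) (L.wt (colG i) r) ≤ D.tt := hwr
  omega

/-- **On regular elements `θ + 2 - π` is a sum of three roots of unity with product one.** -/
theorem exists_residual (h3 : 3 ≤ D.ne) :
    ∃ θ : IrrCharacter G,
      (∀ g : G, g ≠ 1 → ¬ D.InE g → (θ : G → ℂ) g = 1 + (D.psi : G → ℂ) g) ∧
      (θ : G → ℂ) 1 = (p + 1 : ℕ) ∧
      ∀ g : G, ¬ p ∣ orderOf g → ∃ c : ℂ → ℕ, ∑ l ∈ rts g, c l = 3 ∧ ∏ l ∈ rts g, l ^ c l = 1 ∧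
        (g ≠ 1 → ∃ l ∈ rts g, l ≠ 1 ∧ c l ≠ 0) ∧
        ∀ j : ℕ, (θ : G → ℂ) (g ^ j) + 2 - permChar G α (g ^ j) = ∑ l ∈ rts g, (c l : ℂ) * l ^ j := by
  obtain ⟨M, hM⟩ := exists_isPModular (Fact.out : p.Prime)
  haveI := charP_res hM
  obtain ⟨iH, Θ, hΘ⟩ := D.exists_heart_index hM h3
  obtain ⟨θ, hdec, hθ1, ⟨ω, hω, hω1, hθω⟩, hθoff⟩ := D.exists_constituent hM h3 iH Θ hΘ
  have hp2 : p ≠ 2 := by have := D.p_gt_two h3; omega
  have hxN : ¬ p ∣ orderOf D.x := D.not_dvd_ne
  -- a nontrivial constituent besides the heart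
  obtain ⟨j₀, hj₀, hjd, hjω⟩ : ∃ j, j ≠ iH ∧ dec M θ j ≠ 0 ∧
      (sys M G).mu j (red M (eigC D.x ω)) ≠ 0 := by
    obtain ⟨b, hb, -, hb1⟩ := exists_mult (isCharacter_permChar (G := G) α) D.x
    have hH := D.mu_heart hM iH Θ hΘ hxN hb hb1 hω
    rw [if_neg hω1, add_zero] at hH
    have hbt : b ω = D.tt := by
      have h1 := hb ω hω
      rw [D.mult_perm hω hω1] at h1
      exact_mod_cast h1.symm
    by_contra! hcon
    have h1 := mult_eq_sum hM θ hxN (mem_rts.1 hω)
    rw [hθω, Finset.sum_eq_single iH (fun j _ hj => by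
      by_cases hd : dec M θ j = 0
      · rw [hd, Nat.cast_zero, mul_zero]
      · rw [hcon j hj hd, Nat.cast_zero, zero_mul]) (by simp), ← hH, hbt, ← Nat.cast_mul,
      Nat.cast_inj] at h1
    have h2 : D.tt ∣ 1 := (Nat.dvd_add_right dvd_rfl).1 (h1 ▸ dvd_mul_right _ _)
    obtain ⟨k, hk⟩ := D.even_tt hp2
    rw [Nat.dvd_one] at h2
    omega
  have hfaith : ∀ g : G, colG j₀ g = 1 → g = 1 := by
    haveI := D.simple
    rcases (inferInstance : (MonoidHom.ker (colG j₀)).Normal).eq_bot_or_eq_top with h | h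
    · intro g hg
      rwa [← MonoidHom.mem_ker, h, Subgroup.mem_bot] at hg
    · exfalso
      have hx : colG j₀ D.x = 1 := MonoidHom.mem_ker.1 (h.symm ▸ Subgroup.mem_top D.x)
      apply hjω
      have hω' := mem_rts.1 hω
      rw [mu_eq_finrank hM hxN hω']
      refine Submodule.finrank_eq_zero.2 ((Submodule.eq_bot_iff _).2 fun v hv => ?_)
      rw [LinearMap.mem_ker, LinearMap.sub_apply, hx, LinearMap.smul_apply, Module.End.one_apply] at hv
      have hne : (1 : Res M) - res M ω ≠ 0 := sub_ne_zero.2 fun e =>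
        hω1 (res_root_inj hM (orderOf_pos D.x).ne' hxN hω' (one_pow _) (by rw [res_one]; exact e.symm))
      exact (smul_eq_zero.1 (show ((1 : Res M) - res M ω) • v = 0 by rw [sub_smul, one_smul]; exact hv)).resolve_left hne
  refine ⟨θ, hθoff, hθ1, fun g hg => ?_⟩
  obtain ⟨a, ha, ha', -⟩ := exists_mult (isCharacter_of_irr θ.2) g
  obtain ⟨b, hb, hb', hb1⟩ := exists_mult (isCharacter_permChar (G := G) α) g
  have hheart := fun l hl => D.mu_heart hM iH Θ hΘ hg hb hb1 (l := l) hl
  have hle : ∀ l ∈ rts g, b l ≤ a l + if l = 1 then 2 else 0 := fun l hl => by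
    have h1 := mult_eq_sum hM θ hg (mem_rts.1 hl)
    rw [ha l hl] at h1
    have h2 : a l = ∑ j, (sys M G).mu j (red M (eigC g l)) * dec M θ j := by
      apply Nat.cast_injective (R := ℂ)
      rw [h1]; push_cast; rfl
    have h4 := Finset.single_le_sum (f := fun j => (sys M G).mu j (red M (eigC g l)) * dec M θ j)
      (fun j _ => Nat.zero_le _) (Finset.mem_univ iH)
    have h5 := Nat.le_mul_of_pos_right ((sys M G).mu iH (red M (eigC g l))) (Nat.pos_of_ne_zero hdec)
    have := hheart l hl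
    omega
  have hne : g ≠ 1 → ∃ l ∈ rts g, l ≠ 1 ∧ a l + (if l = 1 then 2 else 0) - b l ≠ 0 := fun hg1 => by
    obtain ⟨l, hl, hl1, hmu⟩ : ∃ l ∈ rts g, l ≠ 1 ∧ (sys M G).mu j₀ (red M (eigC g l)) ≠ 0 := by
      by_contra! h
      exact hg1 (hfaith g (eq_one_of_mu_eq_zero hM hg j₀ h))
    refine ⟨l, hl, hl1, ?_⟩
    have h1 := mult_eq_sum hM θ hg (mem_rts.1 hl)
    rw [ha l hl] at h1
    have h2 : a l = ∑ j, (sys M G).mu j (red M (eigC g l)) * dec M θ j := by
      apply Nat.cast_injective (R := ℂ)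
      rw [h1]; push_cast; rfl
    have h4 : (sys M G).mu iH (red M (eigC g l)) * dec M θ iH +
        (sys M G).mu j₀ (red M (eigC g l)) * dec M θ j₀ ≤ a l := by
      rw [h2, ← Finset.sum_pair (f := fun j => (sys M G).mu j (red M (eigC g l)) * dec M θ j) (Ne.symm hj₀)]
      exact Finset.sum_le_sum_of_subset (Finset.subset_univ _)
    have h5 := Nat.le_mul_of_pos_right ((sys M G).mu iH (red M (eigC g l))) (Nat.pos_of_ne_zero hdec)
    have h6 := Nat.mul_pos (Nat.pos_of_ne_zero hmu) (Nat.pos_of_ne_zero hjd)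
    have h7 := hheart l hl
    rw [if_neg hl1] at h7 ⊢
    omega
  refine ⟨fun l => a l + (if l = 1 then 2 else 0) - b l, ?_, ?_, hne, ?_⟩
  rotate_right
  · intro j
    rw [ha' j, hb' j, Finset.sum_congr rfl fun l hl => show
      ((a l + (if l = 1 then 2 else 0) - b l : ℕ) : ℂ) * l ^ j =
        (a l : ℂ) * l ^ j + (if l = 1 then (2 : ℂ) else 0) - (b l : ℂ) * l ^ j by
      rw [Nat.cast_sub (hle l hl)]
      split_ifs with h
      · subst h; push_cast; simp
      · push_cast; ring, Finset.sum_sub_distrib, Finset.sum_add_distrib, Finset.sum_ite_eq',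
      if_pos (mem_rts.2 (one_pow _))]
  · apply Nat.cast_injective (R := ℂ)
    have h0a := ha' 0
    have h0b := hb' 0
    simp only [pow_zero, mul_one] at h0a h0b
    rw [hθ1] at h0a
    rw [permChar, show MulAction.fixedBy α (1 : G) = Set.univ from
      Set.eq_univ_of_forall fun a => one_smul _ a, Nat.card_univ, Nat.card_eq_fintype_card,
      D.card_alpha] at h0b
    rw [Nat.cast_sum, Finset.sum_congr rfl fun l hl => Nat.cast_sub (hle l hl),
      Finset.sum_sub_distrib, ← h0b]
    simp only [Nat.cast_add, Nat.cast_ite, Nat.cast_zero]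
    rw [Finset.sum_add_distrib, ← h0a, Finset.sum_ite_eq', if_pos (mem_rts.2 (one_pow _))]
    push_cast
    ring
  · have h1 := prod_pow_eq_one D.perfect (isCharacter_of_irr θ.2) g ha'
    have h2 := prod_pow_eq_one D.perfect (isCharacter_permChar (G := G) α) g hb'
    calc ∏ l ∈ rts g, l ^ (a l + (if l = 1 then 2 else 0) - b l)
        = (∏ l ∈ rts g, l ^ (a l + (if l = 1 then 2 else 0) - b l)) * ∏ l ∈ rts g, l ^ b l := by
          rw [h2, mul_one]
      _ = ∏ l ∈ rts g, l ^ a l := by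
          rw [← Finset.prod_mul_distrib]
          refine Finset.prod_congr rfl fun l hl => ?_
          rw [← pow_add, Nat.sub_add_cancel (hle l hl)]
          split_ifs with h
          · subst h; simp
          · rw [add_zero]
      _ = 1 := h1

end Data

end Cfsg.Lib.PermGroups.UniqueDegree
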