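import Mathlib
import Cfsg.Agent.PermGroups.UniqueDegree.Decomp

/-!
# The order of the group

A sum of three roots of unity with product one and rational values bounds the orders of the
elements and of the Sylow subgroups prime to `p` and to the complement.
-/

set_option autoImplicit false
set_option linter.unusedSectionVars false
set_option linter.style.haveILetI false

namespace Cfsg.Lib.PermGroups.UniqueDegree

open Cfsg.Lib.Chars Cfsg.Lib.Blocks
open scoped ComplexConjugate Classical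

/-- Three roots from multiplicities of total three. -/
theorem exists_three {S : Finset ℂ} {c : ℂ → ℕ} (hs : ∑ l ∈ S, c l = 3) (hp : ∏ l ∈ S, l ^ c l = 1) :
    ∃ a b d : ℂ, a ∈ S ∧ b ∈ S ∧ d ∈ S ∧ a * b * d = 1 ∧
      (∀ F : ℂ → ℂ, ∑ l ∈ S, (c l : ℂ) * F l = F a + F b + F d) ∧
      ∀ l ∈ S, c l ≠ 0 → l = a ∨ l = b ∨ l = d := by
  set m : Multiset ℂ := ∑ l ∈ S, Multiset.replicate (c l) l with hm
  have hcard : m.card = 3 := by rw [hm, Multiset.card_sum]; simpa using hs
  obtain ⟨a, b, d, habd⟩ := Multiset.card_eq_three.1 hcard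
  have hmem : ∀ l, l ∈ m ↔ l ∈ S ∧ c l ≠ 0 := fun l => by
    rw [hm, Multiset.mem_sum]
    simp [Multiset.mem_replicate, and_comm]
  refine ⟨a, b, d, ((hmem a).1 (by simp [habd])).1, ((hmem b).1 (by simp [habd])).1,
    ((hmem d).1 (by simp [habd])).1, ?_, fun F => ?_, fun l hl hc => ?_⟩
  · have h : m.prod = ∏ l ∈ S, l ^ c l := by
      rw [hm, Multiset.prod_sum]; simp
    rw [hp, habd] at h
    simpa [mul_assoc] using h
  · have h : (m.map F).sum = ∑ l ∈ S, (c l : ℂ) * F l := by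
      rw [hm, ← Multiset.coe_mapAddMonoidHom, map_sum, Multiset.sum_sum]
      simp [Multiset.coe_mapAddMonoidHom, Multiset.map_replicate, nsmul_eq_mul]
    rw [← h, habd]
    simp [add_assoc]
  · simpa [habd] using (hmem l).2 ⟨hl, hc⟩

/-- Three roots of unity with product one and real sum satisfy one cubic. -/
theorem three_powers {a b d B : ℂ} {n : ℕ} (hn : n ≠ 0) (ha : a ^ n = 1) (hb : b ^ n = 1)
    (hd : d ^ n = 1) (hprod : a * b * d = 1) (hB : a + b + d = B) (hreal : conj B = B) :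
    a ^ 2 + b ^ 2 + d ^ 2 = B ^ 2 - 2 * B ∧ a ^ 3 + b ^ 3 + d ^ 3 = B ^ 3 - 3 * B ^ 2 + 3 := by
  have hc : ∀ z : ℂ, z ^ n = 1 → conj z = z⁻¹ := fun z hz => by
    rw [Complex.inv_eq_conj (Complex.norm_eq_one_of_pow_eq_one hz hn)]
  have h0 : a ≠ 0 ∧ b ≠ 0 ∧ d ≠ 0 :=
    ⟨fun e => by simp [e] at hprod, fun e => by simp [e] at hprod, fun e => by simp [e] at hprod⟩
  have e2 : a * b + a * d + b * d = B := by
    rw [← hreal, ← hB, map_add, map_add, hc a ha, hc b hb, hc d hd]
    field_simp [h0.1, h0.2.1, h0.2.2]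
    linear_combination (a * b + a * d + b * d) * hprod
  constructor
  · linear_combination (a + b + d + B) * hB - 2 * e2
  · linear_combination ((a + b + d) ^ 2 + (a + b + d) * B + B ^ 2 - 3 * B) * hB -
      3 * (a + b + d) * e2 + 3 * hprod

theorem eq_one_of_sum_eq_three {a b d : ℂ} {n : ℕ} (hn : n ≠ 0) (ha : a ^ n = 1) (hb : b ^ n = 1)
    (hd : d ^ n = 1) (h : a + b + d = 3) : a = 1 ∧ b = 1 ∧ d = 1 := by
  have hle : ∀ z : ℂ, z ^ n = 1 → z.re ≤ 1 ∧ (z.re = 1 → z = 1) := fun z hz => by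
    have h1 := Complex.norm_eq_one_of_pow_eq_one hz hn
    have h2 : z.re * z.re + z.im * z.im = 1 := by
      rw [← Complex.normSq_apply, Complex.normSq_eq_norm_sq, h1, one_pow]
    refine ⟨by nlinarith [mul_self_nonneg z.im], fun e => Complex.ext (by simpa using e) ?_⟩
    simp only [Complex.one_im]
    exact mul_self_eq_zero.1 (by nlinarith)
  have h2 := congrArg Complex.re h
  simp at h2
  have := (hle a ha).1
  have := (hle b hb).1
  have := (hle d hd).1
  exact ⟨(hle a ha).2 (by linarith), (hle b hb).2 (by linarith), (hle d hd).2 (by linarith)⟩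

namespace Data

variable {α : Type*} [Fintype α] [DecidableEq α] {p : ℕ} [Fact p.Prime]
  {G : Subgroup (Equiv.Perm α)} [Fintype G] (D : Data G p)

/-- The residual function. -/
structure Residual (θ : Cfsg.IrrCharacter G) : Prop where
  off : ∀ g : G, g ≠ 1 → ¬ D.InE g → (θ : G → ℂ) g = 1 + (D.psi : G → ℂ) g
  one : (θ : G → ℂ) 1 = (p + 1 : ℕ)
  roots : ∀ g : G, ¬ p ∣ orderOf g → ∃ c : ℂ → ℕ, ∑ l ∈ rts g, c l = 3 ∧ ∏ l ∈ rts g, l ^ c l = 1 ∧
    (g ≠ 1 → ∃ l ∈ rts g, l ≠ 1 ∧ c l ≠ 0) ∧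
    ∀ j : ℕ, (θ : G → ℂ) (g ^ j) + 2 - permChar G α (g ^ j) = ∑ l ∈ rts g, (c l : ℂ) * l ^ j

variable {θ : Cfsg.IrrCharacter G}

/-- `θ + 2 - π`. -/
noncomputable def res3 (θ : Cfsg.IrrCharacter G) : G → ℂ :=
  fun g => (θ : G → ℂ) g + 2 - permChar G α g

include D in
theorem res3_one (hR : D.Residual θ) : res3 θ 1 = 3 := by
  rw [res3, hR.one, permChar, show MulAction.fixedBy α (1 : G) = Set.univ from
    Set.eq_univ_of_forall fun a => one_smul _ a, Nat.card_univ, Nat.card_eq_fintype_card, D.card_alpha]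
  push_cast
  ring

theorem orderOf_dvd_of_inE {g : G} (h : D.InE g) : orderOf g ∣ D.ne := by
  obtain ⟨c, hc, -⟩ := h
  have h1 : orderOf (c⁻¹ * g * c) = orderOf g := by
    have := orderOf_injective (MulAut.conj c⁻¹).toMonoidHom (MulAut.conj c⁻¹).injective g
    simpa [MulAut.conj_apply] using this
  rw [← h1]
  exact orderOf_dvd_of_mem_zpowers hc

/-- Rational values off the complement and at involutions. -/
theorem theta_rat (hR : D.Residual θ) {g : G} (h : g ^ 2 = 1 ∨ ¬ D.InE g) :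
    ∃ q : ℚ, (θ : G → ℂ) g = q := by
  by_cases h1 : g = 1
  · exact ⟨(p + 1 : ℕ), by rw [h1, hR.one, Rat.cast_natCast]⟩
  rcases h with h | h
  · obtain ⟨d, -, hd, -⟩ := exists_mult (isCharacter_of_irr θ.2) g
    refine ⟨∑ l ∈ rts g, (d l : ℚ) * (if l = 1 then 1 else -1), ?_⟩
    have := hd 1
    rw [pow_one] at this
    rw [this, Rat.cast_sum]
    refine Finset.sum_congr rfl fun l hl => ?_
    have hl2 : l ^ 2 = 1 := by
      obtain ⟨k, hk⟩ := orderOf_dvd_of_pow_eq_one h
      rw [hk, pow_mul, mem_rts.1 hl, one_pow]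
    rw [pow_one, Rat.cast_mul, Rat.cast_natCast]
    congr 1
    rcases mul_self_eq_one_iff.1 (by rw [← sq]; exact hl2 : l * l = 1) with e | e
    · rw [e, if_pos rfl, Rat.cast_one]
    · rw [e, if_neg (by norm_num), Rat.cast_neg, Rat.cast_one]
  · obtain ⟨q, hq⟩ := D.psi_rat g
    exact ⟨1 + q, by rw [hR.off g h1 h, hq, Rat.cast_add, Rat.cast_one]⟩

theorem res3_coprime (hR : D.Residual θ) {g : G} (hrat : ∃ q : ℚ, (θ : G → ℂ) g = q) {j : ℕ}
    (hj : j.Coprime (orderOf g)) : res3 θ (g ^ j) = res3 θ g := by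
  rw [res3, res3, apply_pow_of_rat (isCharacter_of_irr θ.2) hj hrat,
    apply_pow_of_rat (isCharacter_permChar (G := G) α) hj ⟨Nat.card (MulAction.fixedBy α g), by
      rw [permChar, Rat.cast_natCast]⟩]

theorem res3_real {g : G} (hrat : ∃ q : ℚ, (θ : G → ℂ) g = q) : conj (res3 θ g) = res3 θ g := by
  obtain ⟨q, hq⟩ := hrat
  rw [res3, hq, permChar, map_sub, map_add, Complex.conj_natCast, map_ofNat, map_ratCast]

/-- The polynomial relations. -/
theorem res3_poly (hR : D.Residual θ) {g : G} (hg : ¬ p ∣ orderOf g) (hrat : ∃ q : ℚ, (θ : G → ℂ) g = q) :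
    res3 θ (g ^ 2) = res3 θ g ^ 2 - 2 * res3 θ g ∧
      res3 θ (g ^ 3) = res3 θ g ^ 3 - 3 * res3 θ g ^ 2 + 3 ∧
      (g ≠ 1 → res3 θ g ≠ 3) := by
  obtain ⟨c, hs, hp, hne, hval⟩ := hR.roots g hg
  obtain ⟨a, b, d, ha, hb, hd, hprod, hF, hmem⟩ := exists_three hs hp
  have hn := (orderOf_pos g).ne'
  have hv : ∀ j : ℕ, res3 θ (g ^ j) = a ^ j + b ^ j + d ^ j := fun j => (hval j).trans (hF fun l => l ^ j)
  have h1 : a + b + d = res3 θ g := by
    have := hv 1
    simpa using this.symm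
  obtain ⟨h2, h3⟩ := three_powers hn (mem_rts.1 ha) (mem_rts.1 hb) (mem_rts.1 hd) hprod h1 (res3_real hrat)
  refine ⟨(hv 2).trans h2, (hv 3).trans h3, fun hg1 h => ?_⟩
  obtain ⟨ea, eb, ed⟩ := eq_one_of_sum_eq_three hn (mem_rts.1 ha) (mem_rts.1 hb) (mem_rts.1 hd) (h1.trans h)
  obtain ⟨l, hl, hl1, hc⟩ := hne hg1
  rcases hmem l hl hc with e | e | e
  · exact hl1 (e.trans ea)
  · exact hl1 (e.trans eb)
  · exact hl1 (e.trans ed)

/-- All elements of the cyclic group have rational values. -/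
def Good (θ : Cfsg.IrrCharacter G) (g : G) : Prop :=
  ¬ p ∣ orderOf g ∧ ∀ j : ℕ, ∃ q : ℚ, (θ : G → ℂ) (g ^ j) = q

theorem Good.rat {g : G} (h : Good (p := p) θ g) : ∃ q : ℚ, (θ : G → ℂ) g = q := by
  simpa using h.2 1

theorem Good.pow {g : G} (h : Good (p := p) θ g) (k : ℕ) : Good (p := p) θ (g ^ k) :=
  ⟨fun hd => h.1 (hd.trans (orderOf_pow_dvd k)), fun j => by rw [← pow_mul]; exact h.2 _⟩

theorem prime_order_le (hR : D.Residual θ) {g : G} (h : Good (p := p) θ g) {q : ℕ} (hq : q.Prime)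
    (ho : orderOf g = q) : q = 2 ∨ q = 3 := by
  by_contra hne
  push Not at hne
  obtain ⟨h2, h3, h4⟩ := D.res3_poly hR h.1 h.rat
  have hg1 : g ≠ 1 := fun e => hq.ne_one (by rw [← ho, e, orderOf_one])
  have c2 : Nat.Coprime 2 (orderOf g) := by rw [ho]; exact (Nat.coprime_primes Nat.prime_two hq).2 (Ne.symm hne.1)
  have c3 : Nat.Coprime 3 (orderOf g) := by rw [ho]; exact (Nat.coprime_primes Nat.prime_three hq).2 (Ne.symm hne.2)
  rw [D.res3_coprime hR h.rat c2] at h2
  rw [D.res3_coprime hR h.rat c3] at h3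
  have h5 : res3 θ g * (res3 θ g - 3) = 0 := by linear_combination -h2
  rcases mul_eq_zero.1 h5 with e | e
  · rw [e] at h3; norm_num at h3
  · exact h4 hg1 (sub_eq_zero.1 e)

theorem res3_two (hR : D.Residual θ) {g : G} (h : Good (p := p) θ g) (ho : orderOf g = 2) :
    res3 θ g = -1 := by
  obtain ⟨h2, -, h4⟩ := D.res3_poly hR h.1 h.rat
  have hg : g ^ 2 = 1 := by rw [← ho]; exact pow_orderOf_eq_one g
  rw [hg, D.res3_one hR] at h2
  have h5 : (res3 θ g - 3) * (res3 θ g + 1) = 0 := by linear_combination -h2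
  rcases mul_eq_zero.1 h5 with e | e
  · exact absurd (sub_eq_zero.1 e) (h4 fun e => by rw [e, orderOf_one] at ho; omega)
  · exact eq_neg_of_add_eq_zero_left e

theorem res3_three (hR : D.Residual θ) {g : G} (h : Good (p := p) θ g) (ho : orderOf g = 3) :
    res3 θ g = 0 := by
  obtain ⟨h2, -, h4⟩ := D.res3_poly hR h.1 h.rat
  rw [D.res3_coprime hR h.rat (by rw [ho]; norm_num)] at h2
  have h5 : res3 θ g * (res3 θ g - 3) = 0 := by linear_combination -h2
  rcases mul_eq_zero.1 h5 with e | e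
  · exact e
  · exact absurd (sub_eq_zero.1 e) (h4 fun e => by rw [e, orderOf_one] at ho; omega)

theorem res3_four (hR : D.Residual θ) {g : G} (h : Good (p := p) θ g) (ho : orderOf g = 4) :
    res3 θ g = 1 := by
  obtain ⟨h2, -, -⟩ := D.res3_poly hR h.1 h.rat
  rw [D.res3_two hR (h.pow 2) (by rw [orderOf_pow, ho]; norm_num)] at h2
  have h5 : (res3 θ g - 1) ^ 2 = 0 := by linear_combination -h2
  exact sub_eq_zero.1 (sq_eq_zero_iff.1 h5)

theorem not_order_eight (hR : D.Residual θ) {g : G} (h : Good (p := p) θ g) : orderOf g ≠ 8 := by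
  intro ho
  obtain ⟨h2, h3, -⟩ := D.res3_poly hR h.1 h.rat
  rw [D.res3_four hR (h.pow 2) (by rw [orderOf_pow, ho]; norm_num)] at h2
  rw [D.res3_coprime hR h.rat (by rw [ho]; norm_num)] at h3
  have h6 : res3 θ g = 1 := by linear_combination (1 / 2 : ℂ) * h3 - (res3 θ g - 1) / 2 * h2
  rw [h6] at h2
  norm_num at h2

theorem not_order_nine (hR : D.Residual θ) {g : G} (h : Good (p := p) θ g) : orderOf g ≠ 9 := by
  intro ho
  obtain ⟨h2, h3, -⟩ := D.res3_poly hR h.1 h.rat
  rw [D.res3_coprime hR h.rat (by rw [ho]; norm_num)] at h2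
  rw [D.res3_three hR (h.pow 3) (by rw [orderOf_pow, ho]; norm_num)] at h3
  have h5 : res3 θ g * (res3 θ g - 3) = 0 := by linear_combination -h2
  rcases mul_eq_zero.1 h5 with e | e
  · rw [e] at h3; norm_num at h3
  · rw [sub_eq_zero.1 e] at h3; norm_num at h3

theorem isGeneralized_res3 (θ : Cfsg.IrrCharacter G) : Cfsg.IsGeneralizedCharacter G (res3 (α := α) θ) := by
  have h1 := IsCharacter.isGeneralized (isCharacter_of_irr (principal G).2)
  have h := IsGeneralizedCharacter.sub (IsGeneralizedCharacter.add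
    (IsCharacter.isGeneralized (isCharacter_of_irr θ.2)) (IsGeneralizedCharacter.add h1 h1))
    (IsCharacter.isGeneralized (isCharacter_permChar (G := G) α))
  convert h using 1
  funext g
  simp [res3, principal]
  norm_num

theorem exists_sum_eq {Q : Subgroup G} {f : Q → ℂ} (hf : Cfsg.IsGeneralizedCharacter Q f) :
    ∃ m : ℤ, ∑ u, f u = (Nat.card Q : ℂ) * m := by
  obtain ⟨m, hm⟩ := IsGeneralizedCharacter.exists_mult hf (principal Q).2
  refine ⟨m, ?_⟩
  rw [← hm, Cfsg.classInner, ← mul_assoc, mul_inv_cancel₀ (Nat.cast_ne_zero.2 Nat.card_pos.ne'), one_mul]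
  simp [principal]

/-- A Sylow 2-subgroup with rational values has order at most eight. -/
theorem card_two_group_le (hR : D.Residual θ) (Q : Subgroup G) (hQ : IsPGroup 2 Q)
    (hgood : ∀ g ∈ Q, Good (p := p) θ g) : Nat.card Q ∣ 8 := by
  have hg := IsGeneralizedCharacter.comp_hom (isGeneralized_res3 (α := α) θ) Q.subtype
  obtain ⟨m, hm⟩ := exists_sum_eq (IsGeneralizedCharacter.mul hg hg)
  have hval : ∀ u : Q, u ≠ 1 → res3 θ (u : G) * res3 θ (u : G) = 1 := fun u hu => by
    obtain ⟨k, hk⟩ := hQ u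
    have hgu := hgood u u.2
    obtain ⟨j, -, hj⟩ := (Nat.dvd_prime_pow Nat.prime_two).1 (orderOf_dvd_of_pow_eq_one
      (show (u : G) ^ 2 ^ k = 1 by rw [← SubmonoidClass.coe_pow, hk, OneMemClass.coe_one]))
    rcases j with - | - | - | j
    · exact absurd (Subtype.ext (orderOf_eq_one_iff.1 (by simpa using hj))) hu
    · rw [D.res3_two hR hgu (by simpa using hj)]; norm_num
    · rw [D.res3_four hR hgu (by simpa using hj)]; norm_num
    · exfalso
      refine D.not_order_eight hR (hgu.pow (2 ^ j)) ?_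
      rw [orderOf_pow, hj, pow_add _ j 3, Nat.gcd_eq_right (dvd_mul_right _ _),
        Nat.mul_div_cancel_left _ (by positivity)]
      norm_num
  simp only [Pi.mul_apply, Subgroup.coe_subtype] at hm
  rw [← Finset.add_sum_erase Finset.univ _ (Finset.mem_univ (1 : Q)),
    Finset.sum_congr rfl fun u hu => hval u (Finset.ne_of_mem_erase hu), Finset.sum_const,
    Finset.card_erase_of_mem (Finset.mem_univ _), Finset.card_univ, nsmul_one,
    Nat.cast_sub Fintype.card_pos, ← Nat.card_eq_fintype_card] at hm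
  have h1 : ((8 : ℤ) : ℂ) = (((Nat.card Q : ℤ) * (m - 1) : ℤ) : ℂ) := by
    push_cast
    simp only [OneMemClass.coe_one] at hm
    rw [D.res3_one hR] at hm
    linear_combination hm
  exact Int.natCast_dvd_natCast.1 ⟨m - 1, Int.cast_injective h1⟩

/-- A Sylow 3-subgroup with rational values has order at most three. -/
theorem card_three_group_le (hR : D.Residual θ) (Q : Subgroup G) (hQ : IsPGroup 3 Q)
    (hgood : ∀ g ∈ Q, Good (p := p) θ g) : Nat.card Q ∣ 3 := by
  have hg := IsGeneralizedCharacter.comp_hom (isGeneralized_res3 (α := α) θ) Q.subtype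
  obtain ⟨m, hm⟩ := exists_sum_eq hg
  have hval : ∀ u : Q, u ≠ 1 → res3 θ (u : G) = 0 := fun u hu => by
    obtain ⟨k, hk⟩ := hQ u
    have hgu := hgood u u.2
    obtain ⟨j, -, hj⟩ := (Nat.dvd_prime_pow Nat.prime_three).1 (orderOf_dvd_of_pow_eq_one
      (show (u : G) ^ 3 ^ k = 1 by rw [← SubmonoidClass.coe_pow, hk, OneMemClass.coe_one]))
    rcases j with - | - | j
    · exact absurd (Subtype.ext (orderOf_eq_one_iff.1 (by simpa using hj))) hu
    · exact D.res3_three hR hgu (by simpa using hj)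
    · exfalso
      refine D.not_order_nine hR (hgu.pow (3 ^ j)) ?_
      rw [orderOf_pow, hj, pow_add _ j 2, Nat.gcd_eq_right (dvd_mul_right _ _),
        Nat.mul_div_cancel_left _ (by positivity)]
      norm_num
  simp only [Pi.mul_apply, Subgroup.coe_subtype] at hm
  rw [← Finset.add_sum_erase Finset.univ _ (Finset.mem_univ (1 : Q)),
    Finset.sum_congr rfl fun u hu => hval u (Finset.ne_of_mem_erase hu), Finset.sum_const_zero,
    add_zero] at hm
  have h1 : ((3 : ℤ) : ℂ) = (((Nat.card Q : ℤ) * m : ℤ) : ℂ) := by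
    push_cast
    simp only [OneMemClass.coe_one] at hm
    rw [D.res3_one hR] at hm
    exact hm
  exact Int.natCast_dvd_natCast.1 ⟨m, Int.cast_injective h1⟩

end Data

end Cfsg.Lib.PermGroups.UniqueDegree
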