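import Mathlib
import Cfsg.Agent.Coprime.Sylow
import Cfsg.Agent.PermGroups.UniqueDegree.Counting

/-!
# The order of the group is less than the cube of `p`
-/

set_option autoImplicit false
set_option linter.unusedSectionVars false
set_option linter.style.haveILetI false

namespace Cfsg.Lib.PermGroups.UniqueDegree

open Cfsg.Lib.Chars Cfsg.Lib.Blocks
open scoped Classical

namespace Data

variable {α : Type*} [Fintype α] [DecidableEq α] {p : ℕ} [Fact p.Prime]
  {G : Subgroup (Equiv.Perm α)} [Fintype G] (D : Data G p)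

theorem card_normalizer :
    Nat.card (Subgroup.normalizer (Subgroup.zpowers D.y : Set G)) = p * D.ne := by
  have hp := (Fact.out : p.Prime)
  have hsup : Subgroup.normalizer (Subgroup.zpowers D.y : Set G) =
      Subgroup.zpowers D.y ⊔ Subgroup.zpowers D.x := by
    rw [D.norm, Set.insert_eq, Subgroup.closure_union, ← Subgroup.zpowers_eq_closure,
      ← Subgroup.zpowers_eq_closure, sup_comm]
  have hle : Subgroup.zpowers D.x ≤ Subgroup.normalizer (Subgroup.zpowers D.y : Set G) :=
    hsup ▸ le_sup_right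
  have h := Cfsg.Lib.Coprime.card_sup_mul_card_inf hle
  have hinf : Subgroup.zpowers D.y ⊓ Subgroup.zpowers D.x = ⊥ := by
    refine Subgroup.inf_eq_bot_of_coprime ?_
    rw [Nat.card_zpowers, Nat.card_zpowers, D.orderOf_y, hp.coprime_iff_not_dvd]
    exact D.not_dvd_ne
  rw [hinf, Subgroup.card_bot, mul_one, Nat.card_zpowers, Nat.card_zpowers, D.orderOf_y] at h
  rw [hsup, h]

include D in
/-- `|G| = p e n` with `n ≡ 1` modulo `p` and `n > 1`. -/
theorem exists_index : ∃ n : ℕ, Nat.card G = p * D.ne * n ∧ n % p = 1 ∧ 1 < n := by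
  have hp := (Fact.out : p.Prime)
  obtain ⟨S, hS⟩ := (IsPGroup.of_card (p := p) (n := 1) (G := Subgroup.zpowers D.y) (by
    rw [Nat.card_zpowers, D.orderOf_y, pow_one])).exists_le_sylow
  have hSe : Subgroup.zpowers D.y = (S : Subgroup G) := by
    refine Subgroup.eq_of_le_of_card_ge hS ?_
    rw [Nat.card_zpowers, D.orderOf_y]
    obtain ⟨k, hk⟩ := IsPGroup.iff_card.1 S.isPGroup'
    have hdvd : p ^ k ∣ p.factorial := by
      rw [← hk]
      refine ((S : Subgroup G).card_subgroup_dvd_card).trans ((G.card_subgroup_dvd_card).trans ?_)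
      rw [Nat.card_perm, Nat.card_eq_fintype_card, D.card_alpha]
    rw [hk]
    by_contra hcon
    have hk2 : 2 ≤ k := by
      by_contra h
      interval_cases k
      · exact hcon (by rw [pow_zero]; exact hp.one_le)
      · exact hcon (by rw [pow_one])
    have h2 : p ^ 2 ∣ p.factorial := (pow_dvd_pow p hk2).trans hdvd
    rw [← Nat.mul_factorial_pred hp.ne_zero, pow_two] at h2
    have := (hp.dvd_factorial).1 (Nat.dvd_of_mul_dvd_mul_left hp.pos h2)
    have := hp.pos
    omega
  set N := Subgroup.normalizer (Subgroup.zpowers D.y : Set G) with hN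
  have hidx : N.index = Nat.card (Sylow p G) := by
    rw [hN, hSe, S.card_eq_index_normalizer]; rfl
  refine ⟨N.index, by rw [← N.card_mul_index, hN, D.card_normalizer], ?_, ?_⟩
  · rw [hidx, card_sylow_modEq_one p G, Nat.mod_eq_of_lt hp.one_lt]
  · by_contra h
    have h1 : N.index = 1 := by
      have := Nat.pos_of_ne_zero (Subgroup.index_ne_zero_of_finite (H := N))
      omega
    have htop : N = ⊤ := Subgroup.index_eq_one.1 h1
    have hnormal : (Subgroup.zpowers D.y).Normal := Subgroup.normalizer_eq_top_iff.1 htop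
    haveI := D.simple
    rcases hnormal.eq_bot_or_eq_top with h2 | h2
    · have h3 := congrArg (fun H : Subgroup G => Nat.card H) h2
      simp only [Nat.card_zpowers, D.orderOf_y, Subgroup.card_bot] at h3
      exact hp.ne_one h3
    · refine D.nonsolvable (Group.isSolvable_of_comm fun a b => ?_)
      obtain ⟨i, rfl⟩ : a ∈ Subgroup.zpowers D.y := h2.symm ▸ Subgroup.mem_top a
      obtain ⟨j, rfl⟩ : b ∈ Subgroup.zpowers D.y := h2.symm ▸ Subgroup.mem_top b
      exact zpow_mul_comm _ i j

include D in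
/-- A Sylow subgroup for a divisor of `e` lies in the normaliser of the complement. -/
theorem sylow_dvd_two_ne {q : ℕ} [hq : Fact q.Prime] (hdvd : q ∣ D.ne) (h4 : q = 2 → 4 ∣ D.ne)
    (Q : Sylow q G) : Nat.card Q ∣ 2 * D.ne := by
  set N := Subgroup.normalizer (D.E : Set G) with hN
  -- a `q`-element of the complement whose square is nontrivial
  obtain ⟨m, hm, hmq, hm2⟩ : ∃ m : ℕ, m ∣ D.ne ∧ (∃ a, m = q ^ a) ∧ 3 ≤ m := by
    by_cases h2 : q = 2
    · exact ⟨4, h4 h2, ⟨2, by rw [h2]; norm_num⟩, by norm_num⟩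
    · exact ⟨q, hdvd, ⟨1, (pow_one q).symm⟩, by have := hq.out.two_le; omega⟩
  set u := D.x ^ (D.ne / m) with hu
  have hou : orderOf u = m := orderOf_pow_orderOf_div (orderOf_pos D.x).ne' hm
  have hu2 : u ^ 2 ≠ 1 := fun h => by
    have := Nat.le_of_dvd two_pos (hou ▸ orderOf_dvd_of_pow_eq_one h)
    omega
  have huE : u ∈ D.E := pow_mem (Subgroup.mem_zpowers D.x) _
  have huN : u ∈ N := D.E_le huE
  obtain ⟨a, ha⟩ := hmq
  obtain ⟨T, hT⟩ := (IsPGroup.of_card (p := q) (n := a) (G := Subgroup.zpowers (⟨u, huN⟩ : N)) (by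
    rw [Nat.card_zpowers, ← Subgroup.orderOf_coe]; exact hou.trans ha)).exists_le_sylow
  set S : Subgroup G := (T : Subgroup N).map N.subtype with hS
  have hSN : S ≤ N := Subgroup.map_subtype_le _
  have huS : u ∈ S := ⟨⟨u, huN⟩, hT (Subgroup.mem_zpowers _), rfl⟩
  obtain ⟨Q', hQ'⟩ := (T.isPGroup'.map N.subtype).exists_le_sylow
  have heq : S = (Q' : Subgroup G) := by
    by_contra hne
    have hlt : S.subgroupOf (Q' : Subgroup G) < ⊤ := lt_top_iff_ne_top.2 fun h =>
      hne (le_antisymm hQ' (Subgroup.subgroupOf_eq_top.1 h))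
    haveI := IsPGroup.isNilpotent Q'.isPGroup'
    obtain ⟨w, hw, hwS⟩ := SetLike.exists_of_lt
      (Group.normalizerCondition_of_isNilpotent (S.subgroupOf (Q' : Subgroup G)) hlt)
    apply hwS
    -- `w` normalises the complement
    have hwN : (w : G) ∈ N := by
      by_contra hwN
      have h1 : (w : G) * u * (w : G)⁻¹ ∈ S := by
        have := (Subgroup.mem_normalizer_iff.1 hw ⟨u, hQ' huS⟩).1 huS
        exact this
      have hsq : ∀ v ∈ N, v ^ 2 ∈ D.E := fun v hv => by
        have hidx : (D.E.subgroupOf N).index = 2 := by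
          have h := (D.E.subgroupOf N).card_mul_index
          rw [Nat.card_congr (Subgroup.subgroupOfEquivOfLe D.E_le).toEquiv, Nat.card_zpowers, hN,
            D.card_ne, mul_comm 2] at h
          exact Nat.eq_of_mul_eq_mul_left (orderOf_pos D.x) h
        exact Subgroup.sq_mem_of_index_two hidx ⟨v, hv⟩
      have h2 := hsq _ (hSN h1)
      rw [conj_pow] at h2
      exact hu2 (D.ti _ hwN (u ^ 2) (pow_mem huE 2) h2)
    -- and the maximality of the Sylow subgroup of the normaliser
    set R : Subgroup N := ((Q' : Subgroup G) ⊓ N).subgroupOf N with hR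
    have hRp : IsPGroup q R :=
      ((Q'.isPGroup'.to_le (inf_le_left : (Q' : Subgroup G) ⊓ N ≤ Q')).of_equiv
        (Subgroup.subgroupOfEquivOfLe inf_le_right).symm)
    have hle : (T : Subgroup N) ≤ R := fun v hv =>
      ⟨hQ' ⟨v, hv, rfl⟩, v.2⟩
    have hTR := T.is_maximal' hRp hle
    show (w : G) ∈ S
    refine ⟨⟨w, hwN⟩, ?_, rfl⟩
    show (⟨w, hwN⟩ : N) ∈ (T : Subgroup N)
    rw [← hTR]
    exact ⟨w.2, hwN⟩
  rw [Q.card_eq_multiplicity, ← Q'.card_eq_multiplicity, ← D.card_ne]
  show Nat.card (Q' : Subgroup G) ∣ _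
  rw [← heq]
  exact Subgroup.card_dvd_of_le hSN

include D in
/-- **The index divides twenty-four.** -/
theorem index_dvd {θ : Cfsg.IrrCharacter G} (hR : D.Residual θ) {n : ℕ} (hn : Nat.card G = p * D.ne * n)
    (hn1 : n % p = 1) : n ∣ 24 := by
  have hp := (Fact.out : p.Prime)
  have hn0 : n ≠ 0 := fun h => by rw [h, Nat.zero_mod] at hn1; exact zero_ne_one hn1
  refine (Nat.factorization_le_iff_dvd hn0 (by norm_num)).1 fun q => ?_
  by_cases hq : q.Prime
  swap
  · rw [Nat.factorization_eq_zero_of_not_prime n hq]; exact Nat.zero_le _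
  by_cases hqn : q ∣ n
  swap
  · rw [Nat.factorization_eq_zero_of_not_dvd hqn]; exact Nat.zero_le _
  have hqp : q ≠ p := fun h => by
    obtain ⟨c, hc⟩ := hqn
    rw [hc, h, Nat.mul_mod_right] at hn1
    exact zero_ne_one hn1
  haveI := Fact.mk hq
  obtain ⟨Q⟩ : Nonempty (Sylow q G) := inferInstance
  have he0 : D.ne ≠ 0 := (orderOf_pos D.x).ne'
  have hQ : Nat.card Q = q ^ (D.ne.factorization q + n.factorization q) := by
    rw [Q.card_eq_multiplicity, hn, Nat.factorization_mul (Nat.mul_ne_zero hp.ne_zero he0) hn0,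
      Nat.factorization_mul hp.ne_zero he0, hp.factorization]
    simp [Finsupp.single_apply, Ne.symm hqp]
  by_cases hbig : q ∣ D.ne ∧ (q = 2 → 4 ∣ D.ne)
  · have h := D.sylow_dvd_two_ne hbig.1 hbig.2 Q
    rw [hQ] at h
    have h' := (hq.pow_dvd_iff_le_factorization (Nat.mul_ne_zero two_ne_zero he0)).1 h
    rw [Nat.factorization_mul two_ne_zero he0, Nat.prime_two.factorization] at h'
    by_cases h2 : q = 2
    · subst h2
      have h24 : 3 ≤ (24 : ℕ).factorization 2 :=
        (Nat.prime_two.pow_dvd_iff_le_factorization (by norm_num)).1 (by norm_num)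
      simp at h'
      omega
    · simp [Finsupp.single_apply, Ne.symm h2] at h'
      omega
  · have hgood : ∀ g ∈ (Q : Subgroup G), Good (p := p) θ g := fun g hg => by
      obtain ⟨k, hk⟩ := Q.isPGroup' ⟨g, hg⟩
      have hk' : g ^ q ^ k = 1 := congrArg Subtype.val hk
      obtain ⟨i, -, hi⟩ := (Nat.dvd_prime_pow hq).1 (orderOf_dvd_of_pow_eq_one hk')
      refine ⟨fun hd => ?_, fun j => D.theta_rat hR ?_⟩
      · rw [hi] at hd
        exact hqp ((Nat.prime_dvd_prime_iff_eq hp hq).1 (hp.dvd_of_dvd_pow hd)).symm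
      · by_cases hin : D.InE (g ^ j)
        · left
          have h1 := D.orderOf_dvd_of_inE hin
          obtain ⟨l, -, hl⟩ := (Nat.dvd_prime_pow hq).1 (hi ▸ orderOf_pow_dvd (x := g) j)
          rw [hl] at h1
          refine orderOf_dvd_iff_pow_eq_one.1 ?_
          rw [hl]
          rcases l with - | - | l
          · rw [pow_zero]; exact one_dvd _
          · have hq2 : q = 2 := by
              by_contra h
              exact hbig ⟨by simpa using h1, fun e => absurd e h⟩
            rw [hq2]; rfl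
          · exfalso
            refine hbig ⟨(dvd_pow_self q (by omega)).trans h1, fun e => ?_⟩
            exact (dvd_trans ⟨2 ^ l, by rw [e, pow_add]; ring⟩ h1 : 4 ∣ D.ne)
        · exact Or.inr hin
    have hle : Nat.card Q ∣ 24 := by
      by_cases h2 : q = 2
      · subst h2
        exact (D.card_two_group_le hR _ Q.isPGroup' hgood).trans (by norm_num)
      by_cases h3 : q = 3
      · subst h3
        exact (D.card_three_group_le hR _ Q.isPGroup' hgood).trans (by norm_num)
      · rcases Nat.eq_zero_or_pos (D.ne.factorization q + n.factorization q) with h0 | h0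
        · rw [hQ, h0, pow_zero]; exact one_dvd _
        · obtain ⟨g, hg⟩ := exists_prime_orderOf_dvd_card' (G := (Q : Subgroup G)) q (by
            rw [show Nat.card (Q : Subgroup G) = Nat.card Q from rfl, hQ]
            exact dvd_pow_self q h0.ne')
          rcases D.prime_order_le hR (hgood g g.2) hq ((Subgroup.orderOf_coe g).trans hg) with e | e
          · exact absurd e h2
          · exact absurd e h3
    rw [hQ, hq.pow_dvd_iff_le_factorization (by norm_num)] at hle
    omega

include D in
/-- **The order is less than the cube of `p`.** -/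
theorem card_bound (h3 : 3 ≤ D.ne) :
    7 ≤ p ∧ Nat.card G < p ^ 3 ∧ ∀ n, Nat.card G = p * D.ne * n → n ≤ 24 := by
  have hp := (Fact.out : p.Prime)
  obtain ⟨θ, h1, h2, h4⟩ := D.exists_residual h3
  have hR : D.Residual θ := ⟨h1, h2, h4⟩
  obtain ⟨n, hn, hn1, hn2⟩ := D.exists_index
  have hdvd := D.index_dvd hR hn hn1
  have hn24 := Nat.le_of_dvd (by norm_num) hdvd
  have hp2 := D.p_gt_two h3
  have htt := D.tt_mul
  obtain ⟨k, hk⟩ := D.even_tt (by omega)
  have hk0 : 1 ≤ k := by
    by_contra h
    have : k = 0 := by omega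
    rw [hk, this, zero_add, zero_mul] at htt
    omega
  have he : 2 * D.ne ≤ p - 1 := by
    rw [← htt]
    exact Nat.mul_le_mul_right _ (by omega)
  have hp7 : 7 ≤ p := by omega
  refine ⟨hp7, ?_, fun n' hn' => ?_⟩
  · rw [hn, pow_succ, pow_two, mul_assoc, mul_assoc]
    refine Nat.mul_lt_mul_of_pos_left ?_ hp.pos
    rcases Nat.lt_or_ge p 11 with hp11 | hp11
    · have hpe : p = 7 := by
        interval_cases p <;> first | rfl | (exfalso; revert hp; decide)
      subst hpe
      interval_cases n <;> first | omega | (exfalso; revert hdvd; decide)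
    · have h5 : D.ne * n ≤ (p - 1) / 2 * 24 := Nat.mul_le_mul (by omega) hn24
      have h6 : (p - 1) / 2 * 24 ≤ (p - 1) * 12 := by omega
      have h7 : (p - 1) * 12 < p * p := by
        rcases Nat.lt_or_ge p 12 with h | h
        · interval_cases p; norm_num
        · calc (p - 1) * 12 < p * 12 := Nat.mul_lt_mul_of_pos_right (by omega) (by norm_num)
            _ ≤ p * p := Nat.mul_le_mul_left _ h
      exact lt_of_le_of_lt (h5.trans h6) h7
  · have := Nat.eq_of_mul_eq_mul_left (Nat.mul_pos hp.pos (orderOf_pos D.x)) (hn'.symm.trans hn)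
    omega

end Data

end Cfsg.Lib.PermGroups.UniqueDegree
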