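import Mathlib
import Cfsg.Agent.PermGroups.UniqueDegree.Order
import Cfsg.Agent.S4701
import Cfsg.Agent.S4706
import Cfsg.Agent.S0806
import Cfsg.Agent.PLocal.FFModule.Offender
import Cfsg.Agent.Classical.Misc.SixtyGroup
import Cfsg.Agent.Classical.Misc.SmallPSL

/-!
# The groups `PSL(2, 5)`, `PSL(2, 7)`, `PSL(2, 11)`
-/

set_option autoImplicit false
set_option linter.unusedSectionVars false
set_option linter.style.haveILetI false

namespace Cfsg.Lib.PermGroups.UniqueDegree

open scoped Classical MatrixGroups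

/-- The centraliser of an involution of `SL(2, q)` in characteristic two has at least `q` elements. -/
theorem card_le_centralizer_sl {F : Type*} [Field F] [Fintype F] [CharP F 2]
    (A : Matrix.SpecialLinearGroup (Fin 2) F) (hA : A * A = 1) (hA1 : A ≠ 1) :
    Fintype.card F ≤ Nat.card (Subgroup.centralizer ({A} : Set (Matrix.SpecialLinearGroup (Fin 2) F))) := by
  set N : Matrix (Fin 2) (Fin 2) F := (A : Matrix (Fin 2) (Fin 2) F) + 1 with hN
  have hA' : (A : Matrix (Fin 2) (Fin 2) F) * A = 1 := by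
    rw [← Matrix.SpecialLinearGroup.coe_mul, hA, Matrix.SpecialLinearGroup.coe_one]
  have h2 : ∀ M : Matrix (Fin 2) (Fin 2) F, M + M = 0 := fun M =>
    Matrix.ext fun i j => CharTwo.add_self_eq_zero (M i j)
  have hNN : N * N = 0 := by
    rw [hN, add_mul, mul_add, hA', mul_one, one_mul, show (1 : Matrix (Fin 2) (Fin 2) F) + A + (A + 1) =
      ((A : Matrix (Fin 2) (Fin 2) F) + A) + (1 + 1) by abel, h2, h2, add_zero]
  have hN0 : N ≠ 0 := fun h => hA1 (Subtype.ext (by
    rw [Matrix.SpecialLinearGroup.coe_one]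
    calc (A : Matrix (Fin 2) (Fin 2) F) = A + (1 + 1) := by rw [h2, add_zero]
      _ = N + 1 := by rw [hN, add_assoc]
      _ = 1 := by rw [h, zero_add]))
  have e00 := congrFun (congrFun hNN 0) 0
  have e01 := congrFun (congrFun hNN 0) 1
  have e10 := congrFun (congrFun hNN 1) 0
  have e11 := congrFun (congrFun hNN 1) 1
  simp only [Matrix.mul_apply, Fin.sum_univ_two, Matrix.zero_apply] at e00 e01 e10 e11
  have htr : N 0 0 + N 1 1 = 0 := by
    by_contra ht
    have h01 : N 0 1 = 0 := (mul_eq_zero.1 (show (N 0 0 + N 1 1) * N 0 1 = 0 by linear_combination e01)).resolve_left ht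
    have h10 : N 1 0 = 0 := (mul_eq_zero.1 (show (N 0 0 + N 1 1) * N 1 0 = 0 by linear_combination e10)).resolve_left ht
    rw [h01, zero_mul, add_zero] at e00
    rw [h01, mul_zero, zero_add] at e11
    rw [mul_self_eq_zero.1 e00, mul_self_eq_zero.1 e11, add_zero] at ht
    exact ht rfl
  have hdet : N 0 0 * N 1 1 - N 0 1 * N 1 0 = 0 := by linear_combination (N 0 0) * htr - e00
  have hdetc : ∀ c : F, Matrix.det (1 + c • N) = 1 := fun c => by
    rw [Matrix.det_fin_two]
    simp
    linear_combination c * htr + c * c * hdet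
  have hcomm : Commute (A : Matrix (Fin 2) (Fin 2) F) N := (Commute.refl _).add_right (Commute.one_right _)
  let f : F → Subgroup.centralizer ({A} : Set (Matrix.SpecialLinearGroup (Fin 2) F)) := fun c =>
    ⟨(⟨1 + c • N, hdetc c⟩ : Matrix.SpecialLinearGroup (Fin 2) F), Subgroup.mem_centralizer_iff.2 fun h hh => by
      rw [Set.mem_singleton_iff] at hh
      subst hh
      refine Subtype.ext ?_
      exact ((Commute.one_right _).add_right (hcomm.smul_right c)).eq⟩
  have hinj : Function.Injective f := fun c d hcd => by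
    by_contra hne
    have h1 := congrArg (fun z : Subgroup.centralizer ({A} : Set (Matrix.SpecialLinearGroup (Fin 2) F)) =>
      ((z : Matrix.SpecialLinearGroup (Fin 2) F) : Matrix (Fin 2) (Fin 2) F)) hcd
    have h3 : c • N = d • N := add_left_cancel h1
    have h4 : (c - d) • N = 0 := by rw [sub_smul, h3, sub_self]
    exact hN0 ((smul_eq_zero.1 h4).resolve_left (sub_ne_zero.2 hne))
  have := Nat.card_le_card_of_injective f hinj
  rwa [Nat.card_eq_fintype_card] at this

theorem charTwo_of_card {F : Type*} [Field F] [Fintype F] {a : ℕ} (ha : a ≠ 0)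
    (hF : Fintype.card F = 2 ^ a) : CharP F 2 := by
  obtain ⟨q, hq⟩ := CharP.exists F
  obtain ⟨n, hqp, hn⟩ := FiniteField.card F q
  have hd : q ∣ 2 ^ a := hF ▸ hn ▸ dvd_pow_self q n.pos.ne'
  have hq2 : q = 2 := (Nat.prime_dvd_prime_iff_eq hqp Nat.prime_two).1 (hqp.dvd_of_dvd_pow hd)
  exact hq2 ▸ hq

namespace Data

variable {α : Type*} [Fintype α] [DecidableEq α] {p : ℕ} [Fact p.Prime]
  {G : Subgroup (Equiv.Perm α)} [Fintype G] (D : Data G p)

include D in
theorem exists_sylow : ∃ S : Sylow p G, (S : Subgroup G) = Subgroup.zpowers D.y := by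
  have hp := (Fact.out : p.Prime)
  obtain ⟨S, hS⟩ := (IsPGroup.of_card (p := p) (n := 1) (G := Subgroup.zpowers D.y) (by
    rw [Nat.card_zpowers, D.orderOf_y, pow_one])).exists_le_sylow
  refine ⟨S, (Subgroup.eq_of_le_of_card_ge hS ?_).symm⟩
  rw [Nat.card_zpowers, D.orderOf_y]
  obtain ⟨n, hn, hn1, -⟩ := D.exists_index
  have hpn : ¬ p ∣ D.ne * n := fun h => by
    rcases hp.dvd_mul.1 h with h' | h'
    · exact D.not_dvd_ne h'
    · rw [Nat.mod_eq_zero_of_dvd h'] at hn1
      exact zero_ne_one hn1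
  have hn0 : D.ne * n ≠ 0 := fun h => hpn (h ▸ dvd_zero p)
  rw [S.card_eq_multiplicity, hn, mul_assoc, Nat.factorization_mul hp.ne_zero hn0, Finsupp.add_apply,
    hp.factorization_self, Nat.factorization_eq_zero_of_not_dvd hpn, add_zero, pow_one]

include D in
theorem not_normal (S : Sylow p G) (hS : (S : Subgroup G) = Subgroup.zpowers D.y) :
    ¬ (S : Subgroup G).Normal := fun h => by
  haveI := D.simple
  rcases h.eq_bot_or_eq_top with h2 | h2
  · have h3 := congrArg (fun H : Subgroup G => Nat.card H) (hS.symm.trans h2)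
    simp only [Nat.card_zpowers, D.orderOf_y, Subgroup.card_bot] at h3
    exact (Fact.out : p.Prime).ne_one h3
  · refine D.nonsolvable (Group.isSolvable_of_comm fun a b => ?_)
    obtain ⟨i, rfl⟩ : a ∈ Subgroup.zpowers D.y := (hS.symm.trans h2).symm ▸ Subgroup.mem_top a
    obtain ⟨j, rfl⟩ : b ∈ Subgroup.zpowers D.y := (hS.symm.trans h2).symm ▸ Subgroup.mem_top b
    exact zpow_mul_comm _ i j

include D in
/-- The case of a complement of order at least three. -/
theorem main_ge_three (h3 : 3 ≤ D.ne) :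
    (p = 5 ∨ p = 7 ∨ p = 11) ∧ ∃ (F : Type) (_ : Field F) (_ : Fintype F), Fintype.card F = p ∧
      Nonempty (G ≃* Matrix.ProjectiveSpecialLinearGroup (Fin 2) F) := by
  have hp := (Fact.out : p.Prime)
  obtain ⟨h7, hbig, h24⟩ := D.card_bound h3
  obtain ⟨S, hS⟩ := D.exists_sylow
  obtain ⟨n, hn, -, hn2⟩ := D.exists_index
  have hdvd : p ∣ Nat.card G := ⟨D.ne * n, by rw [hn, mul_assoc]⟩
  have h2 : ∀ N : Subgroup G, N.Normal → Nat.card N ≠ 2 := fun N hN hc => by
    haveI := D.simple
    rcases hN.eq_bot_or_eq_top with h | h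
    · rw [h, Subgroup.card_bot] at hc; omega
    · rw [h, Subgroup.card_top] at hc
      have := Nat.le_of_dvd two_pos (hc ▸ hdvd)
      omega
  rcases Cfsg.Agent.S4701.result D.perfect p hdvd hbig S (D.not_normal S hS) h2 with
    ⟨F, hF, hFf, hcard, -, ⟨iso⟩⟩ | ⟨m, F, hF, hFf, hcard, hpm, -, ⟨iso⟩⟩
  · refine ⟨?_, F, hF, hFf, hcard, ⟨iso⟩⟩
    by_contra hne
    push Not at hne
    have hq : p ∉ ({2, 3, 5, 7, 9, 11} : Finset ℕ) := by
      simp only [Finset.mem_insert, Finset.mem_singleton, not_or]
      refine ⟨by omega, by omega, hne.1, hne.2.1, fun h => ?_, hne.2.2⟩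
      subst h
      norm_num at hp
    haveI := D.transitive
    obtain ⟨a⟩ : Nonempty α := Fintype.card_pos_iff.1 (by rw [D.card_alpha]; exact hp.pos)
    set H := MulAction.stabilizer G a with hH
    have hi : H.index = p := by
      rw [hH, MulAction.index_stabilizer_of_transitive, Nat.card_eq_fintype_card, D.card_alpha]
    have hi' : (H.map (iso : G →* Matrix.ProjectiveSpecialLinearGroup (Fin 2) F)).index = p := by
      rw [Subgroup.index_map_equiv, hi]
    have hne' : H.map (iso : G →* Matrix.ProjectiveSpecialLinearGroup (Fin 2) F) ≠ ⊤ := fun h => by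
      rw [h, Subgroup.index_top] at hi'
      exact hp.ne_one hi'.symm
    have := (Cfsg.Agent.S0806.result hcard hq).1 _ hne'
    omega
  · exfalso
    have hc := Nat.card_congr iso.toEquiv
    rw [Cfsg.Lib.FFModule.card_sl_two, hcard, hn] at hc
    have hk := h24 n hn
    obtain ⟨k, hk'⟩ := D.even_tt (by omega)
    have htt := D.tt_mul
    have he : 2 * D.ne ≤ p - 1 := by
      rw [← htt]
      refine Nat.mul_le_mul_right _ ?_
      by_contra h
      have h0 : D.tt = 0 := by omega
      rw [h0, zero_mul] at htt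
      omega
    set q := 2 ^ m with hq
    subst hpm
    have h4 : q * ((q - 1) * (q + 1)) = q * (q ^ 2 - 1) := by
      rw [mul_comm (q - 1), ← Nat.sq_sub_sq, one_pow]
    rw [← h4] at hc
    have h5 : D.ne * n = q * (q - 1) := by
      refine Nat.eq_of_mul_eq_mul_left hp.pos ?_
      rw [← mul_assoc, hc]
      ring
    have h6 : q - 1 ≤ 12 := by
      have h8 : q * (q - 1) ≤ q * 12 := by
        rw [← h5]
        calc D.ne * n ≤ D.ne * 24 := Nat.mul_le_mul_left _ hk
          _ ≤ q * 12 := by omega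
      exact Nat.le_of_mul_le_mul_left h8 (by omega)
    have hm4 : m ≤ 3 := by
      by_contra h
      have : 2 ^ 4 ≤ 2 ^ m := Nat.pow_le_pow_right (by norm_num) (by omega)
      omega
    interval_cases m <;> simp [hq] at hp h7 <;> norm_num at hp

include D in
/-- The case of a complement of order two. -/
theorem main_two (h2 : D.ne = 2) :
    (p = 5 ∨ p = 7 ∨ p = 11) ∧ ∃ (F : Type) (_ : Field F) (_ : Fintype F), Fintype.card F = p ∧
      Nonempty (G ≃* Matrix.ProjectiveSpecialLinearGroup (Fin 2) F) := by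
  have hp := (Fact.out : p.Prime)
  have hd : 2 ∣ p - 1 := h2 ▸ D.order_dvd
  have hp2 : 2 < p := by
    have := hp.two_le
    rcases Nat.lt_or_ge 2 p with h | h
    · exact h
    · have : p = 2 := by omega
      rw [this] at hd
      norm_num at hd
  obtain ⟨S, hS⟩ := D.exists_sylow
  have hN : Nat.card (Subgroup.normalizer ((S : Subgroup G) : Set G)) = 2 * p := by
    rw [hS, D.card_normalizer, h2, mul_comm]
  rcases Cfsg.Agent.S4706.result hp2 D.card_alpha G S hN with hnorm | ⟨a, F, hF, hFf, hpa, hcard, ⟨iso⟩⟩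
  · exact absurd hnorm (D.not_normal S hS)
  obtain ⟨n, hn, -, hn2⟩ := D.exists_index
  have hcG : Nat.card G = 2 ^ a * ((2 ^ a) ^ 2 - 1) := by
    rw [Nat.card_congr iso.toEquiv, Cfsg.Lib.FFModule.card_sl_two, hcard]
  have ha0 : a ≠ 0 := fun h => by
    rw [h, pow_zero] at hpa
    omega
  haveI := charTwo_of_card ha0 hcard
  have ha2 : 2 ^ a ≤ 4 := by
    have hx2 : D.x * D.x = 1 := by
      rw [← sq, ← h2]; exact pow_orderOf_eq_one _
    have hx1 : D.x ≠ 1 := fun h => by
      have h' : orderOf D.x = 2 := h2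
      rw [h, orderOf_one] at h'
      omega
    have hA : iso D.x * iso D.x = 1 := by rw [← map_mul, hx2, map_one]
    have h := card_le_centralizer_sl (iso D.x) hA (fun h => hx1 (iso.injective (by rw [h, map_one])))
    rw [hcard] at h
    refine h.trans ?_
    calc Nat.card (Subgroup.centralizer ({iso D.x} : Set (Matrix.SpecialLinearGroup (Fin 2) F)))
        ≤ Nat.card (Subgroup.normalizer (D.E : Set G)) := by
          refine Nat.card_le_card_of_injective (fun u => ⟨iso.symm u, ?_⟩) fun u v huv => ?_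
          · refine D.centralizer_le (Subgroup.mem_zpowers D.x) hx1 ?_
            have hu := Subgroup.mem_centralizer_iff.1 u.2 (iso D.x) (Set.mem_singleton _)
            apply iso.injective
            rw [map_mul, map_mul, map_inv, MulEquiv.apply_symm_apply, ← hu, mul_inv_cancel_right]
          · exact Subtype.ext (iso.symm.injective (congrArg Subtype.val huv))
      _ = 4 := by rw [D.card_ne, show orderOf D.x = 2 from h2]
  have ha : a ≤ 2 := by
    by_contra h
    have : 2 ^ 3 ≤ 2 ^ a := Nat.pow_le_pow_right (by norm_num) (by omega)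
    omega
  interval_cases a
  · exact absurd rfl ha0
  · exfalso
    norm_num at hpa
    subst hpa
    rw [hn, h2] at hcG
    norm_num at hcG
    omega
  · norm_num at hpa
    subst hpa
    have hc60 : Nat.card G = 60 := hcG.trans (by norm_num)
    refine ⟨Or.inl rfl, ZMod 5, inferInstance, inferInstance, ZMod.card 5, ?_⟩
    obtain ⟨e₁⟩ := Cfsg.Lib.Classical.SixtyGroup.iso_alt_five D.simple hc60
    obtain ⟨e₂⟩ := Cfsg.Lib.Classical.SmallPSL.psl_five (F := ZMod 5) (ZMod.card 5)
    exact ⟨e₁.trans e₂.symm⟩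

include D in
/-- **The classification.** -/
theorem main :
    (p = 5 ∨ p = 7 ∨ p = 11) ∧ ∃ (F : Type) (_ : Field F) (_ : Fintype F), Fintype.card F = p ∧
      Nonempty (G ≃* Matrix.ProjectiveSpecialLinearGroup (Fin 2) F) := by
  rcases Nat.lt_or_ge D.ne 3 with h | h
  · exact D.main_two (le_antisymm (by omega) D.two_le)
  · exact D.main_ge_three h

end Data

end Cfsg.Lib.PermGroups.UniqueDegree
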